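import Mathlib

/-!
An additive functor preserving coproducts commutes with total complexes of bifunctors.
-/

open CategoryTheory Limits HomologicalComplex

namespace Groth.Agent.KFlatLib

variable {A₁ A₂ A₃ B₁ B₂ B₃ D₁ D₂ : Type*} [Category A₁] [Category A₂] [Category A₃] [Category B₁] [Category B₂]
  [Category B₃] [Category D₁] [Category D₂] [Preadditive A₁] [Preadditive A₂] [Preadditive A₃]
  [Preadditive B₁] [Preadditive B₂] [Preadditive B₃] [Preadditive D₁] [Preadditive D₂]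
  (T : A₁ ⥤ A₂ ⥤ A₃) [T.Additive] [∀ X, (T.obj X).Additive]
  (T' : B₁ ⥤ B₂ ⥤ B₃) [T'.Additive] [∀ X, (T'.obj X).Additive]
  (P₁ : D₁ ⥤ A₁) [P₁.Additive] (P₂ : D₂ ⥤ A₂) [P₂.Additive]
  (H₁ : D₁ ⥤ B₁) [H₁.Additive] (H₂ : D₂ ⥤ B₂) [H₂.Additive]
  (G : A₃ ⥤ B₃) [G.Additive]
  (η : ∀ X Y, (T'.obj (H₁.obj X)).obj (H₂.obj Y) ≅ G.obj ((T.obj (P₁.obj X)).obj (P₂.obj Y)))
  (hη₁ : ∀ {X X' : D₁} (a : X ⟶ X') (Y : D₂),
    (T'.map (H₁.map a)).app (H₂.obj Y) ≫ (η X' Y).hom = (η X Y).hom ≫ G.map ((T.map (P₁.map a)).app (P₂.obj Y)))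
  (hη₂ : ∀ (X : D₁) {Y Y' : D₂} (b : Y ⟶ Y'),
    (T'.obj (H₁.obj X)).map (H₂.map b) ≫ (η X Y').hom = (η X Y).hom ≫ G.map ((T.obj (P₁.obj X)).map (P₂.map b)))
  (L : CochainComplex D₁ ℤ) (K : CochainComplex D₂ ℤ)

omit [T.Additive] [∀ X, (T.obj X).Additive] [T'.Additive] [∀ X, (T'.obj X).Additive] in
theorem comp_map_zsmul {X : B₃} {Y Z : A₃} (a : X ⟶ G.obj Y) (n : ℤ) (f : Y ⟶ Z) (b : X ⟶ G.obj Z)
    (h : a ≫ G.map f = b) : a ≫ G.map (n • f) = n • b := by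
  rw [G.map_zsmul, Preadditive.comp_zsmul, h]

/-- source complex -/
noncomputable abbrev srcCx [HasMapBifunctor ((P₁.mapHomologicalComplex _).obj L) ((P₂.mapHomologicalComplex _).obj K)
    T (ComplexShape.up ℤ)] : CochainComplex A₃ ℤ :=
  mapBifunctor ((P₁.mapHomologicalComplex _).obj L) ((P₂.mapHomologicalComplex _).obj K) T (ComplexShape.up ℤ)

/-- target complex -/
noncomputable abbrev tgtCx [HasMapBifunctor ((H₁.mapHomologicalComplex _).obj L) ((H₂.mapHomologicalComplex _).obj K)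
    T' (ComplexShape.up ℤ)] : CochainComplex B₃ ℤ :=
  mapBifunctor ((H₁.mapHomologicalComplex _).obj L) ((H₂.mapHomologicalComplex _).obj K) T' (ComplexShape.up ℤ)

variable [HasMapBifunctor ((P₁.mapHomologicalComplex _).obj L) ((P₂.mapHomologicalComplex _).obj K)
    T (ComplexShape.up ℤ)]
  [HasMapBifunctor ((H₁.mapHomologicalComplex _).obj L) ((H₂.mapHomologicalComplex _).obj K)
    T' (ComplexShape.up ℤ)]
  [hG : ∀ I : Type, PreservesColimitsOfShape (Discrete I) G]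

include hη₁ hη₂ hG in
/-- `Tot T' ≅ G (Tot T)` -/
theorem nonempty_totIso :
    Nonempty (tgtCx T' H₁ H₂ L K ≅ (G.mapHomologicalComplex _).obj (srcCx T P₁ P₂ L K)) := by
  have hf : ∀ n, ∃ e : (tgtCx T' H₁ H₂ L K).X n ≅ G.obj ((srcCx T P₁ P₂ L K).X n),
      ∀ p q (h : p + q = n), ιMapBifunctor ((H₁.mapHomologicalComplex (ComplexShape.up ℤ)).obj L) ((H₂.mapHomologicalComplex (ComplexShape.up ℤ)).obj K) T' (ComplexShape.up ℤ) p q n h ≫ e.hom =
        (η (L.X p) (K.X q)).hom ≫ G.map (ιMapBifunctor ((P₁.mapHomologicalComplex (ComplexShape.up ℤ)).obj L) ((P₂.mapHomologicalComplex (ComplexShape.up ℤ)).obj K) T (ComplexShape.up ℤ) p q n h) := by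
    intro n
    let f : (tgtCx T' H₁ H₂ L K).X n ⟶ G.obj ((srcCx T P₁ P₂ L K).X n) :=
      mapBifunctorDesc (K₁ := ((H₁.mapHomologicalComplex (ComplexShape.up ℤ)).obj L)) (K₂ := ((H₂.mapHomologicalComplex (ComplexShape.up ℤ)).obj K)) (F := T') fun p q h =>
        (η (L.X p) (K.X q)).hom ≫ G.map (ιMapBifunctor ((P₁.mapHomologicalComplex (ComplexShape.up ℤ)).obj L) ((P₂.mapHomologicalComplex (ComplexShape.up ℤ)).obj K) T (ComplexShape.up ℤ) p q n h)
    let B := ((T.mapBifunctorHomologicalComplex (ComplexShape.up ℤ) (ComplexShape.up ℤ)).obj ((P₁.mapHomologicalComplex (ComplexShape.up ℤ)).obj L)).obj ((P₂.mapHomologicalComplex (ComplexShape.up ℤ)).obj K)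
    let π := ComplexShape.π (ComplexShape.up ℤ) (ComplexShape.up ℤ) (ComplexShape.up ℤ)
    let hc := isColimitOfPreserves G (B.toGradedObject.isColimitCofanMapObj π n)
    let cc : Cocone (Discrete.functor (fun i : π ⁻¹' {n} => B.toGradedObject i.1) ⋙ G) :=
      { pt := (tgtCx T' H₁ H₂ L K).X n
        ι := Discrete.natTrans fun i => (η (L.X i.as.1.1) (K.X i.as.1.2)).inv ≫
          ιMapBifunctor ((H₁.mapHomologicalComplex (ComplexShape.up ℤ)).obj L) ((H₂.mapHomologicalComplex (ComplexShape.up ℤ)).obj K) T' (ComplexShape.up ℤ) i.as.1.1 i.as.1.2 n i.as.2 }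
    have hι : ∀ p q (h : p + q = n), ιMapBifunctor ((H₁.mapHomologicalComplex (ComplexShape.up ℤ)).obj L) ((H₂.mapHomologicalComplex (ComplexShape.up ℤ)).obj K) T' (ComplexShape.up ℤ) p q n h ≫ f =
        (η (L.X p) (K.X q)).hom ≫ G.map (ιMapBifunctor ((P₁.mapHomologicalComplex (ComplexShape.up ℤ)).obj L) ((P₂.mapHomologicalComplex (ComplexShape.up ℤ)).obj K) T (ComplexShape.up ℤ) p q n h) :=
      fun p q h => ι_mapBifunctorDesc _ p q h
    have hd : ∀ p q (h : p + q = n),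
        G.map (ιMapBifunctor ((P₁.mapHomologicalComplex (ComplexShape.up ℤ)).obj L) ((P₂.mapHomologicalComplex (ComplexShape.up ℤ)).obj K) T (ComplexShape.up ℤ) p q n h) ≫ hc.desc cc =
          (η (L.X p) (K.X q)).inv ≫ ιMapBifunctor ((H₁.mapHomologicalComplex (ComplexShape.up ℤ)).obj L) ((H₂.mapHomologicalComplex (ComplexShape.up ℤ)).obj K) T' (ComplexShape.up ℤ) p q n h :=
      fun p q h => hc.fac cc ⟨⟨(p, q), h⟩⟩
    refine ⟨⟨f, hc.desc cc, ?_, ?_⟩, hι⟩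
    · refine mapBifunctor.hom_ext fun p q h => ?_
      refine (Category.assoc _ _ _).symm.trans ((congrArg (· ≫ hc.desc cc) (hι p q h)).trans ?_)
      refine (Category.assoc _ _ _).trans ((congrArg ((η (L.X p) (K.X q)).hom ≫ ·) (hd p q h)).trans ?_)
      exact ((η (L.X p) (K.X q)).hom_inv_id_assoc _).trans (Category.comp_id _).symm
    · refine hc.hom_ext fun i => ?_
      show G.map (ιMapBifunctor ((P₁.mapHomologicalComplex (ComplexShape.up ℤ)).obj L) ((P₂.mapHomologicalComplex (ComplexShape.up ℤ)).obj K) T (ComplexShape.up ℤ) i.as.1.1 i.as.1.2 n i.as.2) ≫ hc.desc cc ≫ f =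
        G.map (ιMapBifunctor ((P₁.mapHomologicalComplex (ComplexShape.up ℤ)).obj L) ((P₂.mapHomologicalComplex (ComplexShape.up ℤ)).obj K) T (ComplexShape.up ℤ) i.as.1.1 i.as.1.2 n i.as.2) ≫ 𝟙 _
      refine (Category.assoc _ _ _).symm.trans ((congrArg (· ≫ f) (hd _ _ i.as.2)).trans ?_)
      refine (Category.assoc _ _ _).trans ((congrArg (_ ≫ ·) (hι _ _ i.as.2)).trans ?_)
      exact ((η _ _).inv_hom_id_assoc _).trans (Category.comp_id _).symm
  choose e he using hf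
  refine ⟨HomologicalComplex.Hom.isoOfComponents e fun i j hij => ?_⟩
  obtain rfl : i + 1 = j := hij
  refine mapBifunctor.hom_ext fun p q h => ?_
  have h₁ : p + 1 + q = i + 1 := by change p + q = i at h; omega
  have h₂ : p + (q + 1) = i + 1 := by change p + q = i at h; omega
  refine (Category.assoc _ _ _).symm.trans ((congrArg (· ≫ _) (he i p q h)).trans ((Category.assoc _ _ _).trans ?_))
  show _ ≫ G.map _ ≫ G.map ((srcCx T P₁ P₂ L K).d i (i + 1)) = _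
  rw [← G.map_comp, mapBifunctor.d_eq, mapBifunctor.d_eq, Preadditive.comp_add]
  erw [mapBifunctor.ι_D₁, mapBifunctor.ι_D₂]
  rw [G.map_add, Preadditive.add_comp, Preadditive.comp_add, Preadditive.comp_add,
    ← Category.assoc (_ : _ ⟶ (tgtCx T' H₁ H₂ L K).X i), ← Category.assoc (_ : _ ⟶ (tgtCx T' H₁ H₂ L K).X i)]
  erw [mapBifunctor.ι_D₁, mapBifunctor.ι_D₂]
  rw [mapBifunctor.d₁_eq _ _ _ _ (rfl : (ComplexShape.up ℤ).Rel p (p + 1)) q (i + 1) h₁,
    mapBifunctor.d₁_eq _ _ _ _ (rfl : (ComplexShape.up ℤ).Rel p (p + 1)) q (i + 1) h₁,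
    mapBifunctor.d₂_eq _ _ _ _ p (rfl : (ComplexShape.up ℤ).Rel q (q + 1)) (i + 1) h₂,
    mapBifunctor.d₂_eq _ _ _ _ p (rfl : (ComplexShape.up ℤ).Rel q (q + 1)) (i + 1) h₂]
  simp only [Units.smul_def, Functor.map_zsmul, Preadditive.comp_zsmul, Preadditive.zsmul_comp, G.map_comp,
    Category.assoc, Functor.mapHomologicalComplex_obj_d]
  refine congrArg₂ (· + ·) (comp_map_zsmul G _ _ _ _ ?_) (comp_map_zsmul G _ _ _ _ ?_)
  · refine Eq.trans ?_ (congrArg (_ ≫ ·) (he (i + 1) (p + 1) q h₁)).symm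
    refine Eq.trans ?_ (Category.assoc _ _ _)
    refine Eq.trans ?_ (congrArg (· ≫ _) (hη₁ (L.d p (p + 1)) (K.X q))).symm
    exact (congrArg (_ ≫ ·) (G.map_comp _ _)).trans (Category.assoc _ _ _).symm
  · refine Eq.trans ?_ (congrArg (_ ≫ ·) (he (i + 1) p (q + 1) h₂)).symm
    refine Eq.trans ?_ (Category.assoc _ _ _)
    refine Eq.trans ?_ (congrArg (· ≫ _) (hη₂ (L.X p) (K.d q (q + 1)))).symm
    exact (congrArg (_ ≫ ·) (G.map_comp _ _)).trans (Category.assoc _ _ _).symm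

end Groth.Agent.KFlatLib
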