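import Groth.Agent.KFlatLib.DRing
import Groth.Agent.KFlatLib.Transport

/-!
Base change of K-flat complexes.
-/

universe u

open CategoryTheory Limits HomologicalComplex MonoidalCategory TensorProduct

namespace Groth.Agent.KFlatLib

variable {R R' : Type u} [CommRing R] [CommRing R'] (φ : R →+* R')

instance additive_extend : (ModuleCat.extendScalars.{u, u, u} φ).Additive :=
  haveI : (ModuleCat.extendScalars.{u, u, u} φ).IsLeftAdjoint := (ModuleCat.extendRestrictScalarsAdj φ).isLeftAdjoint
  haveI := preservesBinaryBiproducts_of_preservesBinaryCoproducts (ModuleCat.extendScalars.{u, u, u} φ)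
  Functor.additive_of_preservesBinaryBiproducts _

/-- `res X ⊗_R Y ≅ res (X ⊗_{R'} (R' ⊗_R Y))` -/
noncomputable def baseChangeη (X : ModuleCat.{u} R') (Y : ModuleCat.{u} R) :
    ((TM R).obj ((ModuleCat.restrictScalars φ).obj X)).obj Y ≅
      (ModuleCat.restrictScalars φ).obj (((TM R').obj X).obj ((ModuleCat.extendScalars φ).obj Y)) :=
  letI := φ.toAlgebra
  letI : Module R X := Module.compHom X φ
  haveI : IsScalarTower R R' X := IsScalarTower.of_algebraMap_smul fun _ _ => rfl
  let e : (X ⊗[R] Y) ≃ₗ[R'] X ⊗[R'] (R' ⊗[R] Y) :=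
    (TensorProduct.AlgebraTensorModule.cancelBaseChange R R' R' X Y).symm
  have hs : ∀ (r : R) (z : X ⊗[R] Y), e (r • z) = φ r • e z := fun r z =>
    (congrArg e (algebraMap_smul R' r z).symm).trans (e.map_smul (φ r) z)
  letI : Module R (((TM R').obj X).obj ((ModuleCat.extendScalars φ).obj Y) : Type u) := Module.compHom _ φ
  LinearEquiv.toModuleIso (X₁ := (((TM R).obj ((ModuleCat.restrictScalars φ).obj X)).obj Y : Type u))
    (X₂ := (((TM R').obj X).obj ((ModuleCat.extendScalars φ).obj Y) : Type u))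
    { toFun := fun z => e z
      map_add' := fun a b => e.map_add a b
      map_smul' := fun r z => hs r z
      invFun := fun z => e.symm z
      left_inv := e.left_inv
      right_inv := e.right_inv }

theorem baseChangeη_tmul (X : ModuleCat.{u} R') (Y : ModuleCat.{u} R) (x : X) (y : Y) :
    (baseChangeη φ X Y).hom (x ⊗ₜ[R] y) =
      (letI := φ.toAlgebra; (x ⊗ₜ[R'] ((1 : R') ⊗ₜ[R] y) : X ⊗[R'] (R' ⊗[R] Y))) := by
  rfl

theorem baseChangeη_natural₁ {X X' : ModuleCat.{u} R'} (a : X ⟶ X') (Y : ModuleCat.{u} R) :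
    ((TM R).map ((ModuleCat.restrictScalars φ).map a)).app Y ≫ (baseChangeη φ X' Y).hom =
      (baseChangeη φ X Y).hom ≫
        (ModuleCat.restrictScalars φ).map (((TM R').map a).app ((ModuleCat.extendScalars φ).obj Y)) := by
  refine ModuleCat.MonoidalCategory.tensor_ext fun x y => ?_
  rfl

theorem baseChangeη_natural₂ (X : ModuleCat.{u} R') {Y Y' : ModuleCat.{u} R} (b : Y ⟶ Y') :
    ((TM R).obj ((ModuleCat.restrictScalars φ).obj X)).map b ≫ (baseChangeη φ X Y').hom =
      (baseChangeη φ X Y).hom ≫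
        (ModuleCat.restrictScalars φ).map (((TM R').obj X).map ((ModuleCat.extendScalars φ).map b)) := by
  refine ModuleCat.MonoidalCategory.tensor_ext fun x y => ?_
  rfl

theorem isKFlat_extendScalars {K : CochainComplex (ModuleCat.{u} R) ℤ} (hK : IsKFlat (TM R) K) :
    IsKFlat (TM R') (((ModuleCat.extendScalars φ).mapHomologicalComplex _).obj K) := by
  intro L hL i
  let G := ModuleCat.restrictScalars.{u} φ
  haveI : G.IsLeftAdjoint := (ModuleCat.restrictCoextendScalarsAdj φ).isLeftAdjoint
  haveI : PreservesColimitsOfSize.{0, 0} G :=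
    (ModuleCat.restrictCoextendScalarsAdj φ).leftAdjoint_preservesColimits
  haveI : G.PreservesHomology := Functor.preservesHomologyOfExact G
  obtain ⟨e⟩ := nonempty_totIso (TM R') (TM R) (𝟭 _) (ModuleCat.extendScalars φ) G (𝟭 _) G
    (baseChangeη φ) (fun a Y => baseChangeη_natural₁ φ a Y) (fun X _ _ b => baseChangeη_natural₂ φ X b) L K
  have hGL : Acyc ((G.mapHomologicalComplex _).obj L) := fun j =>
    (Functor.map_isZero G (hL j)).of_iso (((L.sc j).mapHomologyIso G))
  have hz := acyc_of_iso e (hK _ hGL) i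
  let Z := (Φ (TM R') L).obj (((ModuleCat.extendScalars φ).mapHomologicalComplex _).obj K)
  have hz' : IsZero (G.obj (Z.homology i)) := hz.of_iso ((Z.sc i).mapHomologyIso G).symm
  rw [IsZero.iff_id_eq_zero]
  exact G.map_injective (hz'.eq_of_src _ _)

end Groth.Agent.KFlatLib
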