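import Groth.Agent.KFlatLib.Basic

/-!
Quasi-isomorphisms and K-flat complexes.
-/

universe v u

open CategoryTheory Limits HomologicalComplex

namespace Groth.Agent.KFlatLib

variable {A : Type u} [Category.{v} A] [Abelian A]

theorem acyc_cokernel {K K' : CochainComplex A ℤ} (f : K ⟶ K') [Mono f] [QuasiIso f] : Acyc (cokernel f) := by
  have hS : (ShortComplex.mk f (cokernel.π f) (cokernel.condition f)).ShortExact :=
    { exact := ShortComplex.exact_cokernel f }
  have hi : ∀ i, IsIso (homologyMap f i) := fun i => by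
    rw [← quasiIsoAt_iff_isIso_homologyMap]; infer_instance
  intro i
  haveI := hi i
  haveI := hi (i + 1)
  refine (hS.homology_exact₃ i (i + 1) rfl).isZero_of_both_zeros ?_ ?_
  · rw [← cancel_epi (homologyMap f i), comp_zero]
    exact (hS.homology_exact₂ i |> fun _ => by rw [← homologyMap_comp, cokernel.condition, homologyMap_zero])
  · rw [← cancel_mono (homologyMap f (i + 1)), zero_comp]
    exact hS.δ_comp i (i + 1) rfl

theorem quasiIso_biprod_fst (K' : CochainComplex A ℤ) {Z : CochainComplex A ℤ} (hZ : Acyc Z) :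
    QuasiIso (biprod.fst : K' ⊞ Z ⟶ K') := by
  rw [quasiIso_iff]
  intro i
  rw [quasiIsoAt_iff_isIso_homologyMap]
  refine ⟨homologyMap biprod.inl i, ?_, ?_⟩
  · have e : biprod.fst ≫ biprod.inl = 𝟙 (K' ⊞ Z) - biprod.snd ≫ biprod.inr := by
      rw [← biprod.total, add_sub_cancel_right]
    rw [← homologyMap_comp, e, homologyMap_sub, homologyMap_id, homologyMap_comp,
      (hZ i).eq_of_tgt (homologyMap (biprod.snd : K' ⊞ Z ⟶ Z) i) 0, zero_comp, sub_zero]
  · rw [← homologyMap_comp, biprod.inl_fst, homologyMap_id]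

theorem acyc_C₀ (K : CochainComplex A ℤ) : Acyc (C₀ K) :=
  acyc_of_homotopy (CochainComplex.mappingCone.homotopyToZeroOfId K)

theorem mono_lift_inr {K K' : CochainComplex A ℤ} (φ : K ⟶ K') :
    Mono (biprod.lift φ (CochainComplex.mappingCone.inr (𝟙 K))) := by
  haveI : ∀ n, Mono ((biprod.lift φ (CochainComplex.mappingCone.inr (𝟙 K))).f n) := fun n =>
    mono_of_mono_fac (show (biprod.lift φ (CochainComplex.mappingCone.inr (𝟙 K))).f n ≫
      (biprod.snd : K' ⊞ C₀ K ⟶ C₀ K).f n ≫ (CochainComplex.mappingCone.snd (𝟙 K)).v n n (add_zero n) = 𝟙 _ by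
      rw [← Category.assoc, ← HomologicalComplex.comp_f, biprod.lift_snd]; simp)
  exact HomologicalComplex.mono_of_mono_f _ inferInstance

theorem acyc_cokernel_lift {K K' : CochainComplex A ℤ} (φ : K ⟶ K') [QuasiIso φ] :
    Acyc (cokernel (biprod.lift φ (CochainComplex.mappingCone.inr (𝟙 K)))) := by
  haveI := mono_lift_inr φ
  haveI := quasiIso_biprod_fst K' (acyc_C₀ K)
  haveI : QuasiIso (biprod.lift φ (CochainComplex.mappingCone.inr (𝟙 K))) := by
    rw [← quasiIso_iff_comp_right _ (biprod.fst : K' ⊞ C₀ K ⟶ K'), biprod.lift_fst]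
    infer_instance
  exact acyc_cokernel _

variable (T : A ⥤ A ⥤ A) [T.Additive] [∀ X, (T.obj X).Additive]

instance additive_flip' : T.flip.Additive where
  map_add {X Y f g} := by
    ext Z
    exact (T.obj Z).map_add

instance additive_flip_obj (X : A) : (T.flip.obj X).Additive where
  map_add {Y Z f g} := by
    show (T.map (f + g)).app X = (T.map f).app X + (T.map g).app X
    simp

variable [∀ K L : CochainComplex A ℤ, HomologicalComplex.HasMapBifunctor K L T (ComplexShape.up ℤ)]

/-- flipping -/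
noncomputable def ΦFlip (K L : CochainComplex A ℤ) : (Φ T.flip K).obj L ≅ (Φ T L).obj K :=
  HomologicalComplex.mapBifunctorFlipIso L K T (ComplexShape.up ℤ)

variable [IsGrothendieckAbelian.{v} A] [∀ X, PreservesColimitsOfSize.{v, v} (T.obj X)]
  [∀ X, PreservesColimitsOfSize.{v, v} (T.flip.obj X)]

/-- `f ⊗ K` is a quasi-isomorphism for K-flat `K` -/
theorem quasiIso_left {K : CochainComplex A ℤ} (hK : IsKFlat T K) {F F' : CochainComplex A ℤ} (f : F ⟶ F')
    [QuasiIso f] :
    QuasiIso (HomologicalComplex.mapBifunctorMap f (𝟙 K) T (ComplexShape.up ℤ)) := by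
  haveI : QuasiIso ((Φ T.flip K).map f) :=
    quasiIso_Φ_map T.flip f K (acyc_of_iso (ΦFlip T K _).symm (hK _ (acyc_cokernel_lift f)))
  have e : (Φ T.flip K).map f ≫ (ΦFlip T K F').hom =
      (ΦFlip T K F).hom ≫ HomologicalComplex.mapBifunctorMap f (𝟙 K) T (ComplexShape.up ℤ) :=
    HomologicalComplex.mapBifunctorFlipIso_hom_naturality f (𝟙 K) T (ComplexShape.up ℤ)
  refine (quasiIso_iff_comp_left (ΦFlip T K F).hom _).1 ?_
  exact e ▸ (inferInstance : QuasiIso ((Φ T.flip K).map f ≫ (ΦFlip T K F').hom))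

/-- `L ⊗ α` is a quasi-isomorphism for K-flat source and target -/
theorem quasiIso_right {P Q : CochainComplex A ℤ} (α : P ⟶ Q) [QuasiIso α] (hP : IsKFlat T P) (hQ : IsKFlat T Q)
    (L : CochainComplex A ℤ) (hres : ∃ (L' : CochainComplex A ℤ) (q : L' ⟶ L), IsKFlat T.flip L' ∧ QuasiIso q) :
    QuasiIso ((Φ T L).map α) := by
  refine quasiIso_Φ_map T α L ?_
  have hC := acyc_cokernel_lift α
  let ι := biprod.lift α (CochainComplex.mappingCone.inr (𝟙 P))
  haveI : Mono ι := mono_lift_inr α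
  have hS : (ShortComplex.mk ι (cokernel.π ι) (cokernel.condition ι)).ShortExact :=
    { exact := ShortComplex.exact_cokernel ι }
  have hPQ : IsKFlat T (Q ⊞ C₀ P) := by
    let σ := ShortComplex.Splitting.ofHasBinaryBiproduct Q (C₀ P)
    exact (IsKFlat.two_of_three T σ.shortExact fun X q =>
      mono_map_split T _ ((biprod.fst : Q ⊞ C₀ P ⟶ Q).f q)
        (by rw [← HomologicalComplex.comp_f, biprod.inl_fst]; rfl) X).2.1 hQ (isKFlat_C₀ T P)
  have hCflat : IsKFlat T (cokernel ι) := (IsKFlat.two_of_three T hS fun X q =>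
    mono_map_split T _ ((biprod.snd : Q ⊞ C₀ P ⟶ C₀ P).f q ≫
      (CochainComplex.mappingCone.snd (𝟙 P)).v q q (add_zero q))
        (by rw [← Category.assoc, ← HomologicalComplex.comp_f, biprod.lift_snd]; simp) X).1 hP hPQ
  obtain ⟨L', q, hL', hq⟩ := hres
  haveI := quasiIso_left T hCflat q
  have hz := acyc_of_iso (ΦFlip T (cokernel ι) L') (hL' (cokernel ι) hC)
  intro i
  exact (hz i).of_iso (asIso (homologyMap
    (HomologicalComplex.mapBifunctorMap q (𝟙 (cokernel ι)) T (ComplexShape.up ℤ)) i)).symm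

end Groth.Agent.KFlatLib
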