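import Groth.Agent.KFlatLib.StalkFunctor
import Groth.Agent.KFlatLib.BaseChange
import Groth.Agent.ModStalk.PullbackQCoh

/-!
K-flatness on a scheme is stalkwise; pullback of K-flat complexes.
-/

universe u

open CategoryTheory Limits AlgebraicGeometry HomologicalComplex TopologicalSpace Opposite MonoidalCategory

namespace Groth.Agent.KFlatLib

variable {X : Scheme.{u}}

/-- stalks of a complex -/
noncomputable abbrev stCx (x : X) (K : CochainComplex X.Modules ℤ) :
    CochainComplex (ModuleCat.{u} (X.presheaf.stalk x)) ℤ :=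
  ((SF x).mapHomologicalComplex _).obj K

theorem nonempty_stalk_tot (x : X) (L K : CochainComplex X.Modules ℤ) :
    Nonempty ((Φ (TM (X.presheaf.stalk x)) (stCx x L)).obj (stCx x K) ≅
      stCx x ((_root_.DCoh.tensorCx.obj L).obj K)) :=
  nonempty_totIso (_root_.DCoh.tensorBi (X := X)) (TM (X.presheaf.stalk x)) (𝟭 X.Modules) (𝟭 X.Modules) (SF x)
    (SF x) (SF x) (tensorStalkIso x) (fun a Y => tensorStalkIso_natural₁ x a Y)
    (fun M _ _ b => tensorStalkIso_natural₂ x M b) L K

theorem acyc_stCx {x : X} {L : CochainComplex X.Modules ℤ} (hL : Acyc L) : Acyc (stCx x L) := fun j =>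
  (Functor.map_isZero (SF x) (hL j)).of_iso ((L.sc j).mapHomologyIso (SF x))

theorem isKFlat_of_stalks (K : CochainComplex X.Modules ℤ)
    (h : ∀ x : X, IsKFlat (TM (X.presheaf.stalk x)) (stCx x K)) : _root_.DCoh.IsKFlat K := by
  intro L hL i
  refine isZero_of_stalks fun x => ?_
  obtain ⟨e⟩ := nonempty_stalk_tot x L K
  exact ((acyc_of_iso e (h x _ (acyc_stCx hL))) i).of_iso
    (((((_root_.DCoh.tensorCx.obj L).obj K).sc i).mapHomologyIso (SF x))).symm

theorem isKFlat_stalk {K : CochainComplex X.Modules ℤ} (hK : _root_.DCoh.IsKFlat K) (x : X) :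
    IsKFlat (TM (X.presheaf.stalk x)) (stCx x K) := by
  intro M hM
  let L := ((skyF x).mapHomologicalComplex (ComplexShape.up ℤ)).obj M
  have hL : Acyc L := fun j => (Functor.map_isZero (skyF x) (hM j)).of_iso ((M.sc j).mapHomologyIso (skyF x))
  let c : stCx x L ≅ M := HomologicalComplex.Hom.isoOfComponents (fun n => (skyCounitIso x).app (M.X n))
    fun i j _ => ((skyCounitIso x).hom.naturality (M.d i j)).symm
  obtain ⟨e⟩ := nonempty_stalk_tot x L K
  have h1 : Acyc ((Φ (TM (X.presheaf.stalk x)) (stCx x L)).obj (stCx x K)) :=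
    acyc_of_iso e.symm (acyc_stCx (hK L hL))
  exact acyc_of_iso ((((TM (X.presheaf.stalk x)).map₂CochainComplex).mapIso c).app (stCx x K)) h1

theorem dcoh_isKFlat_iff_stalks (K : CochainComplex X.Modules ℤ) :
    _root_.DCoh.IsKFlat K ↔ ∀ x : X, IsKFlat (TM (X.presheaf.stalk x)) (stCx x K) :=
  ⟨fun h x => isKFlat_stalk h x, isKFlat_of_stalks K⟩

variable {Y : Scheme.{u}} (f : X ⟶ Y) (x : X)

/-- `O_x ⊗ M_{f x} ≅ (f^* M)_x` -/
noncomputable def pullStalkIso (M : Y.Modules) :
    (ModuleCat.extendScalars (f.stalkMap x).hom).obj ((SF (f x)).obj M) ≅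
      (SF x).obj ((Scheme.Modules.pullback f).obj M) :=
  letI := (f.stalkMap x).hom.toAlgebra
  LinearEquiv.toModuleIso (R := X.presheaf.stalk x)
    (X₁ := TensorProduct (Y.presheaf.stalk (f x)) (X.presheaf.stalk x) (M.presheaf.stalk (f x)))
    (X₂ := ((Scheme.Modules.pullback f).obj M).presheaf.stalk x)
    (ModStalk.exists_pullStalk_equiv f M x).choose.symm

theorem pullStalkIso_tmul (M : Y.Modules) (v : M.presheaf.stalk (f x)) :
    (pullStalkIso f x M).hom
      (letI := (f.stalkMap x).hom.toAlgebra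
       ((1 : X.presheaf.stalk x) ⊗ₜ[Y.presheaf.stalk (f x)] v :
         TensorProduct (Y.presheaf.stalk (f x)) (X.presheaf.stalk x) (M.presheaf.stalk (f x)))) =
      ModStalk.pullGerm f M x v := by
  letI := (f.stalkMap x).hom.toAlgebra
  show (ModStalk.exists_pullStalk_equiv f M x).choose.symm _ = _
  rw [LinearEquiv.symm_apply_eq, (ModStalk.exists_pullStalk_equiv f M x).choose_spec]

/-- naturally -/
noncomputable def pullStalkNatIso :
    SF (f x) ⋙ ModuleCat.extendScalars (f.stalkMap x).hom ≅ Scheme.Modules.pullback f ⋙ SF x :=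
  NatIso.ofComponents (pullStalkIso f x) fun {M N} u => by
    refine ModuleCat.ExtendScalars.hom_ext fun v => ?_
    show (pullStalkIso f x N).hom _ = (SF x).map ((Scheme.Modules.pullback f).map u) ((pullStalkIso f x M).hom _)
    erw [ModuleCat.ExtendScalars.map_tmul]
    refine (pullStalkIso_tmul f x N _).trans ?_
    refine Eq.trans ?_ (congrArg _ (pullStalkIso_tmul f x M v).symm)
    exact (ModStalk.stalkMap_pullGerm f M u x v).symm

theorem isKFlat_pullback (K : CochainComplex Y.Modules ℤ) (hK : _root_.DCoh.IsKFlat K) :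
    _root_.DCoh.IsKFlat (((Scheme.Modules.pullback f).mapHomologicalComplex (ComplexShape.up ℤ)).obj K) := by
  refine isKFlat_of_stalks _ fun x => ?_
  refine IsKFlat.of_iso _ ?_ (isKFlat_extendScalars (f.stalkMap x).hom (isKFlat_stalk hK (f x)))
  exact HomologicalComplex.Hom.isoOfComponents (fun n => (pullStalkNatIso f x).app (K.X n))
    fun i j _ => ((pullStalkNatIso f x).hom.naturality (K.d i j)).symm

end Groth.Agent.KFlatLib
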