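import Groth.Agent.KFlatLib.Flat
import Groth.Agent.KFlatLib.Quasi
import Groth.Agent.KFlatLib.BaseChange
import Groth.Agent.KFlatLib.StalkKFlat

/-!
An acyclic K-flat complex stays acyclic after tensoring with anything, after base change and after pullback.
-/

universe v u

open CategoryTheory Limits HomologicalComplex MonoidalCategory AlgebraicGeometry

namespace Groth.Agent.KFlatLib

section generic

variable {A : Type u} [Category.{v} A] [Abelian A]
  (T : A ⥤ A ⥤ A) [T.Additive] [∀ X, (T.obj X).Additive]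
  [∀ K L : CochainComplex A ℤ, HomologicalComplex.HasMapBifunctor K L T (ComplexShape.up ℤ)]

/-- a complex in degree `0` tensored with `K` -/
theorem nonempty_singleLeftIso (L : CochainComplex A ℤ) (hL : ∀ i, i ≠ 0 → IsZero (L.X i))
    (K : CochainComplex A ℤ) :
    Nonempty (((T.obj (L.X 0)).mapHomologicalComplex (ComplexShape.up ℤ)).obj K ≅ (Φ T L).obj K) := by
  have hz : ∀ i q, i ≠ 0 → IsZero ((T.obj (L.X i)).obj (K.X q)) := fun i q h =>
    (Functor.map_isZero T (hL i h)).obj _
  have hiso : ∀ m, IsIso (ιT T L K 0 m m (zero_add m)) := fun m => by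
    refine ⟨HomologicalComplex.mapBifunctorDesc (K₁ := L) (K₂ := K) (F := T) (fun p i e =>
      if hp : p = 0 then eqToHom (by subst hp; rw [show i = m by change 0 + i = m at e; omega]) else 0), ?_, ?_⟩
    · exact (HomologicalComplex.ι_mapBifunctorDesc _ 0 m (zero_add m)).trans (by simp)
    · refine ιT_hom_ext T fun p i e => ?_
      rw [← Category.assoc]
      refine (congrArg (· ≫ _) (HomologicalComplex.ι_mapBifunctorDesc _ p i e)).trans ?_
      by_cases hp : p = 0
      · subst hp
        obtain rfl : i = m := by omega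
        simp
      · exact (hz p i hp).eq_of_src _ _
  refine ⟨HomologicalComplex.Hom.isoOfComponents (fun m => @asIso _ _ _ _ _ (hiso m)) fun i j (hij : i + 1 = j) => ?_⟩
  subst hij
  show HomologicalComplex.ιMapBifunctor L K T (ComplexShape.up ℤ) 0 i i (zero_add i) ≫
      (HomologicalComplex.mapBifunctor L K T (ComplexShape.up ℤ)).d i (i + 1) =
    (T.obj (L.X 0)).map (K.d i (i + 1)) ≫
      HomologicalComplex.ιMapBifunctor L K T (ComplexShape.up ℤ) 0 (i + 1) (i + 1) (zero_add _)
  rw [HomologicalComplex.mapBifunctor.d_eq, Preadditive.comp_add]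
  erw [HomologicalComplex.mapBifunctor.ι_D₁, HomologicalComplex.mapBifunctor.ι_D₂]
  rw [HomologicalComplex.mapBifunctor.d₁_eq' _ _ _ _ (rfl : (ComplexShape.up ℤ).Rel 0 ((0 : ℤ) + 1)) i (i + 1),
    (hL ((0 : ℤ) + 1) (by omega)).eq_of_tgt (L.d 0 ((0 : ℤ) + 1)) 0, Functor.map_zero, zero_app, zero_comp, smul_zero,
    zero_add, HomologicalComplex.mapBifunctor.d₂_eq _ _ _ _ 0 (rfl : (ComplexShape.up ℤ).Rel i (i + 1)) (i + 1)
      (zero_add _),
    show ComplexShape.ε₂ (ComplexShape.up ℤ) (ComplexShape.up ℤ) (ComplexShape.up ℤ) (0, i) = 1 from by simp, one_smul]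

variable [IsGrothendieckAbelian.{v} A] [∀ X, PreservesColimitsOfSize.{v, v} (T.obj X)]
  [∀ X, PreservesColimitsOfSize.{v, v} (T.flip.obj X)]

/-- `L ⊗ P` is acyclic for `P` acyclic K-flat -/
theorem acyc_Φ_of_isKFlat_acyclic {P : CochainComplex A ℤ} (hP : IsKFlat T P) (hA : Acyc P)
    (L : CochainComplex A ℤ) (hres : ∃ (L' : CochainComplex A ℤ) (q : L' ⟶ L), IsKFlat T.flip L' ∧ QuasiIso q) :
    Acyc ((Φ T L).obj P) := by
  haveI : QuasiIso (0 : P ⟶ C₀ P) := by
    rw [quasiIso_iff]
    intro i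
    rw [quasiIsoAt_iff_isIso_homologyMap]
    exact Limits.isIso_of_isTerminal (IsZero.isTerminal (hA i)) (IsZero.isTerminal (acyc_C₀ P i)) _
  haveI := quasiIso_right T (0 : P ⟶ C₀ P) hP (isKFlat_C₀ T P) L hres
  intro i
  exact (acyc_Φ_C₀ T L P i).of_iso (asIso (homologyMap ((Φ T L).map (0 : P ⟶ C₀ P)) i))

/-- `M ⊗ P` is acyclic for `P` acyclic K-flat -/
theorem acyc_map_obj {P : CochainComplex A ℤ} (hP : IsKFlat T P) (hA : Acyc P)
    (hres : ∀ L, ∃ (L' : CochainComplex A ℤ) (q : L' ⟶ L), IsKFlat T.flip L' ∧ QuasiIso q) (M : A) :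
    Acyc (((T.obj M).mapHomologicalComplex (ComplexShape.up ℤ)).obj P) := by
  let L := (HomologicalComplex.single A (ComplexShape.up ℤ) 0).obj M
  have hL : ∀ i, i ≠ 0 → IsZero (L.X i) := fun i hi => HomologicalComplex.isZero_single_obj_X _ 0 M i hi
  obtain ⟨e⟩ := nonempty_singleLeftIso T L hL P
  exact acyc_of_iso ((NatIso.mapHomologicalComplex
    (T.mapIso (HomologicalComplex.singleObjXSelf (ComplexShape.up ℤ) 0 M)) (ComplexShape.up ℤ)).app P)
    (acyc_of_iso e.symm (acyc_Φ_of_isKFlat_acyclic T hP hA L (hres L)))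

end generic

section ring

variable {R R' : Type u} [CommRing R] [CommRing R'] (φ : R →+* R')

/-- base change of an acyclic K-flat complex is acyclic -/
theorem acyc_extendScalars {K : CochainComplex (ModuleCat.{u} R) ℤ} (hK : IsKFlat (TM R) K) (hA : Acyc K) :
    Acyc (((ModuleCat.extendScalars φ).mapHomologicalComplex (ComplexShape.up ℤ)).obj K) := by
  let G := ModuleCat.restrictScalars.{u} φ
  haveI : G.IsLeftAdjoint := (ModuleCat.restrictCoextendScalarsAdj φ).isLeftAdjoint
  haveI : PreservesColimitsOfSize.{0, 0} G :=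
    (ModuleCat.restrictCoextendScalarsAdj φ).leftAdjoint_preservesColimits
  haveI : G.PreservesHomology := Functor.preservesHomologyOfExact G
  let N : ModuleCat.{u} R' := 𝟙_ (ModuleCat.{u} R')
  let e : (TM R).obj (G.obj N) ≅ ModuleCat.extendScalars φ ⋙ G :=
    NatIso.ofComponents (fun Y => baseChangeη φ N Y ≪≫ G.mapIso (λ_ _)) fun {Y Y'} b => by
      simp only [Iso.trans_hom, Functor.mapIso_hom, Functor.comp_map]
      rw [reassoc_of% baseChangeη_natural₂ φ N b, ← G.map_comp, Category.assoc, ← G.map_comp]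
      exact congrArg (fun z => _ ≫ G.map z) (leftUnitor_naturality ((ModuleCat.extendScalars φ).map b))
  intro i
  let Z := ((ModuleCat.extendScalars φ).mapHomologicalComplex (ComplexShape.up ℤ)).obj K
  have h : IsZero (((G.mapHomologicalComplex (ComplexShape.up ℤ)).obj Z).homology i) :=
    acyc_of_iso (HomologicalComplex.Hom.isoOfComponents (fun n => e.app (K.X n))
      fun p q _ => (e.hom.naturality (K.d p q)).symm)
      (acyc_map_obj (TM R) hK hA (exists_flip_resolution_module R) (G.obj N)) i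
  have hz : IsZero (G.obj (Z.homology i)) := h.of_iso ((Z.sc i).mapHomologyIso G).symm
  rw [IsZero.iff_id_eq_zero]
  exact G.map_injective (hz.eq_of_src _ _)

end ring

section scheme

variable {X Y : Scheme.{u}} (f : X ⟶ Y)

/-- pullback of an acyclic K-flat complex is acyclic -/
theorem acyc_pullback {K : CochainComplex Y.Modules ℤ} (hK : _root_.DCoh.IsKFlat K) (hA : Acyc K) :
    Acyc (((Scheme.Modules.pullback f).mapHomologicalComplex (ComplexShape.up ℤ)).obj K) := by
  intro i
  refine isZero_of_stalks fun x => ?_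
  have h := acyc_extendScalars (f.stalkMap x).hom (isKFlat_stalk hK (f x)) (acyc_stCx hA)
  have h' : Acyc (stCx x (((Scheme.Modules.pullback f).mapHomologicalComplex (ComplexShape.up ℤ)).obj K)) :=
    acyc_of_iso (HomologicalComplex.Hom.isoOfComponents (fun n => (pullStalkNatIso f x).app (K.X n))
      fun p q _ => ((pullStalkNatIso f x).hom.naturality (K.d p q)).symm) h
  exact (h' i).of_iso
    (((((Scheme.Modules.pullback f).mapHomologicalComplex (ComplexShape.up ℤ)).obj K).sc i).mapHomologyIso (SF x)).symm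

end scheme

end Groth.Agent.KFlatLib
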