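import Groth.Agent.KFlatLib.Total
import Groth.Agent.ModTensor.Bifunctor
import Groth.Agent.KInjRes.Stable

/-!
K-flat complexes for a right exact bifunctor on a Grothendieck abelian category.
-/

universe v u

open CategoryTheory Limits HomologicalComplex
open scoped ZeroObject

namespace Groth.Agent.KFlatLib

variable {A : Type u} [Category.{v} A] [Abelian A]

/-- all homology vanishes -/
abbrev Acyc (L : CochainComplex A ℤ) : Prop := ∀ i : ℤ, IsZero (L.homology i)

theorem acyc_iff (L : CochainComplex A ℤ) : Acyc L ↔ L.Acyclic :=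
  forall_congr' fun i => (exactAt_iff_isZero_homology L i).symm

theorem acyc_of_iso {K L : CochainComplex A ℤ} (e : K ≅ L) (h : Acyc K) : Acyc L := fun i =>
  (h i).of_iso ((homologyFunctor A (ComplexShape.up ℤ) i).mapIso e.symm)

theorem acyc_shift {L : CochainComplex A ℤ} (n : ℤ) (h : Acyc L) : Acyc (L⟦n⟧) := fun i =>
  (h (n + i)).of_iso (((homologyFunctor A (ComplexShape.up ℤ) 0).shiftIso n i (n + i) rfl).app L)

theorem acyc_two_of_three {S : ShortComplex (CochainComplex A ℤ)} (hS : S.ShortExact) :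
    (Acyc S.X₁ → Acyc S.X₂ → Acyc S.X₃) ∧ (Acyc S.X₁ → Acyc S.X₃ → Acyc S.X₂) ∧
      (Acyc S.X₂ → Acyc S.X₃ → Acyc S.X₁) := by
  refine ⟨fun h₁ h₂ i => ?_, fun h₁ h₃ i => ?_, fun h₂ h₃ i => ?_⟩
  · exact (hS.homology_exact₃ i (i + 1) rfl).isZero_of_both_zeros ((h₂ i).eq_of_src _ _) ((h₁ (i + 1)).eq_of_tgt _ _)
  · exact (hS.homology_exact₂ i).isZero_of_both_zeros ((h₁ i).eq_of_src _ _) ((h₃ i).eq_of_tgt _ _)
  · exact (hS.homology_exact₁ (i - 1) i (by simp)).isZero_of_both_zeros ((h₃ (i - 1)).eq_of_src _ _)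
      ((h₂ i).eq_of_tgt _ _)

theorem acyc_of_homotopy {K : CochainComplex A ℤ} (h : Homotopy (𝟙 K) 0) : Acyc K := fun i => by
  rw [IsZero.iff_id_eq_zero, ← homologyMap_id, h.homologyMap_eq, homologyMap_zero]

/-- the contractible cone -/
noncomputable abbrev C₀ (K : CochainComplex A ℤ) : CochainComplex A ℤ := CochainComplex.mappingCone (𝟙 K)

variable (T : A ⥤ A ⥤ A) [T.Additive] [∀ X, (T.obj X).Additive]
  [∀ K L : CochainComplex A ℤ, HomologicalComplex.HasMapBifunctor K L T (ComplexShape.up ℤ)]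

/-- `Tot (L ⊗ K)` is acyclic for acyclic `L` -/
def IsKFlat (K : CochainComplex A ℤ) : Prop :=
  ∀ L : CochainComplex A ℤ, Acyc L → Acyc ((Φ T L).obj K)

/-- an object is flat on both sides -/
def TFlat (X : A) : Prop := (T.obj X).PreservesMonomorphisms ∧ (T.flip.obj X).PreservesMonomorphisms

theorem IsKFlat.of_iso {K K' : CochainComplex A ℤ} (e : K ≅ K') (h : IsKFlat T K) : IsKFlat T K' :=
  fun L hL => acyc_of_iso ((Φ T L).mapIso e) (h L hL)

theorem acyc_Φ_C₀ (L K : CochainComplex A ℤ) : Acyc ((Φ T L).obj (C₀ K)) := by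
  refine acyc_of_homotopy ((Homotopy.ofEq ((Φ T L).map_id (C₀ K)).symm).trans
    ((HomologicalComplex.mapBifunctorMapHomotopy₂ (𝟙 L) (CochainComplex.mappingCone.homotopyToZeroOfId K) T
      (ComplexShape.up ℤ)).trans (Homotopy.ofEq ((Φ T L).map_zero (C₀ K) (C₀ K)))))

theorem isKFlat_C₀ (K : CochainComplex A ℤ) : IsKFlat T (C₀ K) := fun L _ => acyc_Φ_C₀ T L K

theorem IsKFlat.shift {K : CochainComplex A ℤ} (h : IsKFlat T K) (n : ℤ) : IsKFlat T (K⟦n⟧) := fun L hL =>
  acyc_of_iso (((Φ T L).commShiftIso n).app K).symm (acyc_shift n (h L hL))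

theorem IsKFlat.of_shift {K : CochainComplex A ℤ} (n : ℤ) (h : IsKFlat T (K⟦n⟧)) : IsKFlat T K :=
  IsKFlat.of_iso T ((shiftFunctorCompIsoId (CochainComplex A ℤ) n (-n) (add_neg_cancel n)).app K) (h.shift T (-n))

section exact

variable [IsGrothendieckAbelian.{v} A] [∀ X, PreservesColimitsOfSize.{v, v} (T.obj X)]

theorem preservesColimits_Φ (L : CochainComplex A ℤ) : PreservesColimitsOfSize.{v, v} (Φ T L) :=
  ⟨fun {_} _ => preservesColimitsOfShape_Φ T L⟩

theorem monos_discrete (I : Type) :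
    (MorphismProperty.monomorphisms A).IsStableUnderColimitsOfShape (Discrete I) := by
  let e : Discrete (ULift.{v} I) ≌ Discrete I := Discrete.equivalence Equiv.ulift
  haveI : HasColimitsOfShape (Discrete I) A := hasColimitsOfShape_of_equivalence e
  haveI : HasExactColimitsOfShape (Discrete I) A := HasExactColimitsOfShape.of_domain_equivalence A e
  infer_instance

theorem shortExact_map {S : ShortComplex (CochainComplex A ℤ)} (hS : S.ShortExact) (L : CochainComplex A ℤ)
    (hm : ∀ p q, Mono ((T.obj (L.X p)).map (S.f.f q))) : (S.map (Φ T L)).ShortExact := by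
  haveI := preservesColimits_Φ T L
  haveI : PreservesFiniteColimits (Φ T L) := PreservesColimitsOfSize.preservesFiniteColimits.{v, v} _
  haveI := hS.epi_g
  haveI : ∀ n, Mono (((Φ T L).map S.f).f n) := fun n => mono_f_Φ_map T monos_discrete L S.f hm n
  exact
    { exact := hS.exact.map_of_epi_of_preservesCokernel (Φ T L) inferInstance inferInstance
      mono_f := HomologicalComplex.mono_of_mono_f ((Φ T L).map S.f) inferInstance
      epi_g := (inferInstance : Epi ((Φ T L).map S.g)) }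

theorem IsKFlat.two_of_three {S : ShortComplex (CochainComplex A ℤ)} (hS : S.ShortExact)
    (hm : ∀ (X : A) (q : ℤ), Mono ((T.obj X).map (S.f.f q))) :
    (IsKFlat T S.X₁ → IsKFlat T S.X₂ → IsKFlat T S.X₃) ∧ (IsKFlat T S.X₁ → IsKFlat T S.X₃ → IsKFlat T S.X₂) ∧
      (IsKFlat T S.X₂ → IsKFlat T S.X₃ → IsKFlat T S.X₁) :=
  ⟨fun h h' L hL => (acyc_two_of_three (shortExact_map T hS L fun p q => hm _ q)).1 (h L hL) (h' L hL),
   fun h h' L hL => (acyc_two_of_three (shortExact_map T hS L fun p q => hm _ q)).2.1 (h L hL) (h' L hL),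
   fun h h' L hL => (acyc_two_of_three (shortExact_map T hS L fun p q => hm _ q)).2.2 (h L hL) (h' L hL)⟩

theorem mono_map_split {X Y : A} (f : X ⟶ Y) (r : Y ⟶ X) (h : f ≫ r = 𝟙 X) (Z : A) : Mono ((T.obj Z).map f) :=
  haveI : IsSplitMono f := IsSplitMono.mk' ⟨r, h⟩
  inferInstance

theorem IsKFlat.mappingCone_two_of_three {K K' : CochainComplex A ℤ} (φ : K ⟶ K') :
    (IsKFlat T K → IsKFlat T K' → IsKFlat T (CochainComplex.mappingCone φ)) ∧
    (IsKFlat T K → IsKFlat T (CochainComplex.mappingCone φ) → IsKFlat T K') ∧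
    (IsKFlat T K' → IsKFlat T (CochainComplex.mappingCone φ) → IsKFlat T K) := by
  let σ := CochainComplex.mappingCone.triangleRotateShortComplexSplitting φ
  have hS := HomologicalComplex.shortExact_of_degreewise_shortExact
    (CochainComplex.mappingCone.triangleRotateShortComplex φ) fun n => (σ n).shortExact
  have h := IsKFlat.two_of_three T hS fun X q => mono_map_split T _ (σ q).r (σ q).f_r X
  exact ⟨fun h₁ h₂ => h.2.1 h₂ (h₁.shift T 1), fun h₁ hc => h.2.2 hc (h₁.shift T 1),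
    fun h₂ hc => IsKFlat.of_shift T 1 (h.1 h₂ hc)⟩

theorem mono_map_of_flat {X₁ X₂ X₃ : A} (f : X₁ ⟶ X₂) (g : X₂ ⟶ X₃) (w : f ≫ g = 0)
    (hS : (ShortComplex.mk f g w).ShortExact) (hX₃ : (T.flip.obj X₃).PreservesMonomorphisms)
    (hflat : ∀ G : A, ∃ (P : A) (π : P ⟶ G), Epi π ∧ TFlat T P)
    [∀ X, PreservesColimitsOfSize.{v, v} (T.flip.obj X)] (G : A) : Mono ((T.obj G).map f) := by
  haveI : ∀ X, PreservesFiniteColimits (T.flip.obj X) := fun X =>
    PreservesColimitsOfSize.preservesFiniteColimits.{v, v} _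
  haveI : ∀ X, PreservesFiniteColimits (T.flip.flip.obj X) := fun X =>
    haveI : PreservesFiniteColimits (T.obj X) := PreservesColimitsOfSize.preservesFiniteColimits.{v, v} _
    (inferInstance : PreservesFiniteColimits (T.obj X))
  obtain ⟨P, π, hπ, hP⟩ := hflat G
  haveI : (T.flip.flip.obj P).PreservesMonomorphisms := hP.1
  exact ModTensor.mono_map_of_flat_X₃ T.flip (ShortComplex.mk f g w) hS π

theorem IsKFlat.two_of_three_flat {S : ShortComplex (CochainComplex A ℤ)} (hS : S.ShortExact)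
    [∀ X, PreservesColimitsOfSize.{v, v} (T.flip.obj X)]
    (hflat : ∀ G : A, ∃ (P : A) (π : P ⟶ G), Epi π ∧ TFlat T P)
    (h3 : ∀ n, (T.flip.obj (S.X₃.X n)).PreservesMonomorphisms) :
    (IsKFlat T S.X₁ → IsKFlat T S.X₂ → IsKFlat T S.X₃) ∧ (IsKFlat T S.X₁ → IsKFlat T S.X₃ → IsKFlat T S.X₂) ∧
      (IsKFlat T S.X₂ → IsKFlat T S.X₃ → IsKFlat T S.X₁) :=
  IsKFlat.two_of_three T hS fun X q =>
    mono_map_of_flat T (S.f.f q) (S.g.f q) (by rw [← HomologicalComplex.comp_f, S.zero]; rfl)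
      (hS.map_of_exact (eval A (ComplexShape.up ℤ) q)) (h3 q) hflat X

theorem quasiIso_Φ_map {K K' : CochainComplex A ℤ} (φ : K ⟶ K') [QuasiIso φ] (L : CochainComplex A ℤ)
    (hc : Acyc ((Φ T L).obj (cokernel (biprod.lift φ (CochainComplex.mappingCone.inr (𝟙 K)))))) :
    QuasiIso ((Φ T L).map φ) := by
  let ι := biprod.lift φ (CochainComplex.mappingCone.inr (𝟙 K))
  let F := eval A (ComplexShape.up ℤ)
  have hr : ∀ n, ι.f n ≫ (biprod.snd : K' ⊞ C₀ K ⟶ C₀ K).f n ≫
      (CochainComplex.mappingCone.snd (𝟙 K)).v n n (add_zero n) = 𝟙 _ := fun n => by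
    rw [← Category.assoc, ← HomologicalComplex.comp_f, biprod.lift_snd]
    simp
  haveI : ∀ n, Mono (ι.f n) := fun n => mono_of_mono_fac (h := 𝟙 _) (hr n)
  haveI : Mono ι := HomologicalComplex.mono_of_mono_f _ inferInstance
  have hS : (ShortComplex.mk ι (cokernel.π ι) (cokernel.condition ι)).ShortExact :=
    { exact := ShortComplex.exact_cokernel ι }
  have hSm := shortExact_map T hS L fun p q => mono_map_split T _ _ (hr q) _
  haveI : Mono ((Φ T L).map ι) := hSm.mono_f
  haveI : QuasiIso ((Φ T L).map ι) := by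
    rw [quasiIso_iff]
    intro i
    rw [quasiIsoAt_iff_isIso_homologyMap]
    haveI : Mono (homologyMap ((Φ T L).map ι) i) :=
      (hSm.homology_exact₁ (i - 1) i (by simp)).mono_g ((hc (i - 1)).eq_of_src _ _)
    haveI : Epi (homologyMap ((Φ T L).map ι) i) := (hSm.homology_exact₂ i).epi_f ((hc i).eq_of_tgt _ _)
    exact isIso_of_mono_of_epi _
  haveI : QuasiIso ((Φ T L).map (biprod.fst : K' ⊞ C₀ K ⟶ K')) := by
    rw [quasiIso_iff]
    intro i
    rw [quasiIsoAt_iff_isIso_homologyMap]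
    refine ⟨homologyMap ((Φ T L).map biprod.inl) i, ?_, ?_⟩
    · have e : biprod.fst ≫ biprod.inl = 𝟙 (K' ⊞ C₀ K) - biprod.snd ≫ biprod.inr := by
        rw [← biprod.total, add_sub_cancel_right]
      rw [← homologyMap_comp, ← Functor.map_comp, e, Functor.map_sub, homologyMap_sub, CategoryTheory.Functor.map_id,
        homologyMap_id, Functor.map_comp, homologyMap_comp, (acyc_Φ_C₀ T L K i).eq_of_tgt
          (homologyMap ((Φ T L).map biprod.snd) i) 0, zero_comp, sub_zero]
    · rw [← homologyMap_comp, ← Functor.map_comp, biprod.inl_fst, CategoryTheory.Functor.map_id, homologyMap_id]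
  rw [show φ = ι ≫ biprod.fst from (biprod.lift_fst _ _).symm, Functor.map_comp]
  infer_instance

end exact

end Groth.Agent.KFlatLib
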