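import Groth.Agent.KFlatLib.Flat

/-!
Bounded above complexes of flat objects are K-flat.
-/

universe v u

open CategoryTheory Limits HomologicalComplex

namespace Groth.Agent.KFlatLib

variable {A : Type u} [Category.{v} A] [Abelian A]

section trunc

variable (K : CochainComplex A ℤ)

/-- `0` in degrees `≥ a`, identity below -/
noncomputable def cut (a i : ℤ) : K.X i ⟶ K.X i := if a ≤ i then 0 else 𝟙 _

theorem cutι_zero {a i : ℤ} (h : i < a) : kernel.ι (cut K a i) = 0 := by
  have := kernel.condition (cut K a i)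
  have e : cut K a i = 𝟙 _ := if_neg (by omega)
  exact (Category.comp_id _).symm.trans ((congrArg (_ ≫ ·) e.symm).trans this)

theorem cut_zero {a i : ℤ} (h : a ≤ i) : cut K a i = 0 := if_pos h

theorem isIso_cutι {a i : ℤ} (h : a ≤ i) : IsIso (kernel.ι (cut K a i)) := by
  refine ⟨kernel.lift _ (𝟙 _) (by simp [cut_zero K h]), ?_, by simp⟩
  ext; simp

theorem isZero_cut {a i : ℤ} (h : i < a) : IsZero (kernel (cut K a i)) :=
  IsZero.of_mono_eq_zero _ (cutι_zero K h)

/-- brutal truncation as a subcomplex -/
noncomputable def tr (a : ℤ) : CochainComplex A ℤ where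
  X i := kernel (cut K a i)
  d i j := kernel.lift _ (kernel.ι (cut K a i) ≫ K.d i j) (by
    by_cases hij : i + 1 = j
    · by_cases h : a ≤ i
      · rw [cut_zero K (show a ≤ j by omega), comp_zero]
      · rw [cutι_zero K (show i < a by omega), zero_comp, zero_comp]
    · rw [K.shape i j hij, comp_zero, zero_comp])
  shape i j h := by ext; simp [K.shape i j h]
  d_comp_d' i j k _ _ := by ext; simp

/-- inclusion -/
noncomputable def trι (a : ℤ) : tr K a ⟶ K where
  f i := kernel.ι _
  comm' i j _ := by simp [tr]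

instance mono_trι_f (a i : ℤ) : Mono ((trι K a).f i) := (inferInstance : Mono (kernel.ι (cut K a i)))

/-- transition -/
noncomputable def trMap {a a' : ℤ} (h : a' ≤ a) : tr K a ⟶ tr K a' where
  f i := kernel.lift _ (kernel.ι (cut K a i)) (by
    by_cases h' : a' ≤ i
    · rw [cut_zero K h', comp_zero]
    · rw [cutι_zero K (show i < a by omega)]
      exact zero_comp)
  comm' i j _ := by
    rw [← cancel_mono ((trι K a').f j)]
    simp [tr, trι]

@[reassoc (attr := simp)]
theorem trMap_ι {a a' : ℤ} (h : a' ≤ a) : trMap K h ≫ trι K a' = trι K a := by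
  ext i : 1
  exact kernel.lift_ι _ _ _

instance mono_trι (a : ℤ) : Mono (trι K a) := HomologicalComplex.mono_of_mono_f _ inferInstance

/-- the system -/
noncomputable def trSeq (b : ℤ) : AsSmall.{v} ℕ ⥤ CochainComplex A ℤ where
  obj n := tr K (b + 1 - ((ULift.down n) : ℕ))
  map {m n} g := trMap K (by
    have : ((ULift.down m) : ℕ) ≤ (ULift.down n) := leOfHom g.down
    omega)
  map_id n := by rw [← cancel_mono (trι K _)]; simp
  map_comp f g := by rw [← cancel_mono (trι K _)]; simp

/-- the cocone -/
noncomputable def trCocone (b : ℤ) : Cocone (trSeq K b) where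
  pt := K
  ι :=
    { app := fun n => trι K _
      naturality := fun m n g => by
        have : (ULift.down m) ≤ (ULift.down n) := leOfHom g.down
        exact (trMap_ι K (show b + 1 - ((ULift.down n : ℕ) : ℤ) ≤ b + 1 - ((ULift.down m : ℕ) : ℤ) by omega)).trans
          (Category.comp_id _).symm }

/-- it is a colimit -/
noncomputable def isColimitTrCocone (b : ℤ) : IsColimit (trCocone K b) := by
  refine HomologicalComplex.isColimitOfEval _ _ fun i => ?_
  let N : AsSmall.{v} ℕ := AsSmall.up.obj (b + 1 - i).toNat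
  haveI hN : ∀ n : AsSmall.{v} ℕ, (b + 1 - i).toNat ≤ (ULift.down n) → IsIso ((trι K (b + 1 - ((ULift.down n) : ℕ))).f i) :=
    fun n hn => isIso_cutι K (by omega)
  haveI := hN N le_rfl
  let e := asIso ((trι K (b + 1 - ((ULift.down N : ℕ) : ℤ))).f i)
  refine
    { desc := fun s => e.inv ≫ s.ι.app N
      fac := fun s n => ?_
      uniq := fun s m hm => ?_ }
  · let M : AsSmall.{v} ℕ := AsSmall.up.obj (max (ULift.down n) (ULift.down N))
    let g : n ⟶ M := AsSmall.up.map (homOfLE (le_max_left (ULift.down n) (ULift.down N)) : ((ULift.down n) : ℕ) ⟶ max (ULift.down n) (ULift.down N))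
    let g' : N ⟶ M := AsSmall.up.map (homOfLE (le_max_right (ULift.down n) (ULift.down N)) : ((ULift.down N) : ℕ) ⟶ max (ULift.down n) (ULift.down N))
    haveI := hN M (le_max_right _ _)
    show (trι K (b + 1 - ((ULift.down n) : ℕ))).f i ≫ e.inv ≫ s.ι.app N = s.ι.app n
    have w1 : ((trSeq K b).map g).f i ≫ s.ι.app M = s.ι.app n := s.w g
    have w2 : ((trSeq K b).map g').f i ≫ s.ι.app M = s.ι.app N := s.w g'
    have c1 : ((trSeq K b).map g).f i ≫ ((trCocone K b).ι.app M).f i = ((trCocone K b).ι.app n).f i := by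
      rw [← HomologicalComplex.comp_f, Cocone.w]
    have c2 : ((trSeq K b).map g').f i ≫ ((trCocone K b).ι.app M).f i = e.hom := by
      rw [← HomologicalComplex.comp_f, Cocone.w]; rfl
    have key : ((trCocone K b).ι.app n).f i ≫ e.inv ≫ ((trSeq K b).map g').f i = ((trSeq K b).map g).f i := by
      haveI : Mono (((trCocone K b).ι.app M).f i) := mono_trι_f K _ i
      rw [← cancel_mono (((trCocone K b).ι.app M).f i), Category.assoc, Category.assoc, c1]
      exact (congrArg (fun t => _ ≫ e.inv ≫ t) c2).trans ((congrArg (_ ≫ ·) e.inv_hom_id).trans (Category.comp_id _))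
    rw [← w1, ← w2, ← key]
    simp only [Category.assoc]
    rfl
  · exact e.eq_inv_comp.2 (hm N)

end trunc

variable (T : A ⥤ A ⥤ A) [T.Additive] [∀ X, (T.obj X).Additive]
  [∀ K L : CochainComplex A ℤ, HomologicalComplex.HasMapBifunctor K L T (ComplexShape.up ℤ)]
  [IsGrothendieckAbelian.{v} A] [∀ X, PreservesColimitsOfSize.{v, v} (T.obj X)]
  [∀ X, PreservesColimitsOfSize.{v, v} (T.flip.obj X)]

theorem isKFlat_tr (K : CochainComplex A ℤ) (b : ℤ) (hb : ∀ i, b < i → IsZero (K.X i))
    (hflat : ∀ i, (T.flip.obj (K.X i)).PreservesMonomorphisms) (n : ℕ) : IsKFlat T (tr K (b + 1 - n)) := by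
  induction n with
  | zero =>
    have hz : ∀ i, IsZero ((tr K (b + 1 - (0 : ℕ))).X i) := fun i => by
      by_cases h : i < b + 1
      · exact isZero_cut K (by push_cast; omega)
      · exact IsZero.of_mono ((trι K _).f i) (hb i (by omega))
    exact isKFlat_of_single T 0 (fun i _ => hz i)
      (TFlat.of_isZero T (hz 0)).2
  | succ n ih =>
    set a := b + 1 - ((n + 1 : ℕ) : ℤ) with ha
    let f : tr K (b + 1 - (n : ℤ)) ⟶ tr K a := trMap K (by omega)
    haveI : Mono f := mono_of_mono_fac (h := trι K _) (trMap_ι K _)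
    let S := ShortComplex.mk f (cokernel.π f) (cokernel.condition f)
    have hS : S.ShortExact := { exact := ShortComplex.exact_cokernel f }
    have hi : ∀ i, i ≠ a → IsIso (f.f i) := fun i hia => by
      by_cases h : i < a
      · exact isIso_of_source_target_iso_zero _ (isZero_cut K (by omega)).isoZero (isZero_cut K h).isoZero
      · haveI := isIso_cutι K (show a ≤ i by omega)
        haveI := isIso_cutι K (show b + 1 - (n : ℤ) ≤ i by omega)
        haveI : IsIso ((trι K a).f i) := isIso_cutι K (by omega)
        haveI : IsIso (f.f i ≫ (trι K a).f i) := by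
          rw [← HomologicalComplex.comp_f, trMap_ι]
          exact isIso_cutι K (by omega)
        exact IsIso.of_isIso_comp_right _ ((trι K a).f i)
    have hSn : ∀ i, (S.map (eval A (ComplexShape.up ℤ) i)).ShortExact := fun i => hS.map_of_exact _
    refine (IsKFlat.two_of_three T hS fun X i => ?_).2.1 ih (isKFlat_of_single T a (fun i hia => ?_) ?_)
    · by_cases hia : i = a
      · subst hia
        exact ⟨fun g g' _ => (Functor.map_isZero (T.obj X) (isZero_cut K (by omega))).eq_of_tgt g g'⟩
      · haveI := hi i hia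
        exact (inferInstance : Mono ((T.obj X).map (f.f i)))
    · haveI : IsIso (S.map (eval A (ComplexShape.up ℤ) i)).f := hi i hia
      exact (hSn i).isIso_f_iff.1 inferInstance
    · haveI : IsIso ((trι K a).f a) := isIso_cutι K le_rfl
      have hz : IsZero ((tr K (b + 1 - (n : ℤ))).X a) := isZero_cut K (by omega)
      have hg : IsIso (S.map (eval A (ComplexShape.up ℤ) a)).g := (hSn a).isIso_g_iff.2 hz
      haveI := hflat a
      exact Functor.preservesMonomorphisms.of_iso (T.flip.mapIso
        ((asIso ((trι K a).f a)).symm ≪≫ @asIso _ _ _ _ _ hg))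

theorem isKFlat_of_bounded_above (K : CochainComplex A ℤ) (b : ℤ) (hb : ∀ i, b < i → IsZero (K.X i))
    (hflat : ∀ i, (T.flip.obj (K.X i)).PreservesMonomorphisms) : IsKFlat T K :=
  IsKFlat.colimit T (isColimitTrCocone K b) fun n => isKFlat_tr T K b hb hflat (ULift.down n)

end Groth.Agent.KFlatLib
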