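import Groth.Agent.KFlatLib.LDerived
import Groth.Agent.KInjRes.Products

/-!
Derived functors computed by good objects stable under coproducts preserve coproducts.
-/

universe w w' v v' u u'

open CategoryTheory Limits DerivedCategory
open scoped ZeroObject

namespace Groth.Agent.KFlatLib

section

variable {A : Type u} [Category.{v} A] [Abelian A] [IsGrothendieckAbelian.{v} A] [HasDerivedCategory.{w} A]

open Groth.Agent.KInjRes in
theorem exists_unique_desc_Q {T : Type v} (X : T → CochainComplex A ℤ) {Z : DerivedCategory A}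
    (f : ∀ t, Q.obj (X t) ⟶ Z) :
    ∃! m : Q.obj (∐ X) ⟶ Z, ∀ t, Q.map (Limits.Sigma.ι X t) ≫ m = f t := by
  obtain ⟨I, hI, ⟨i⟩⟩ := exists_kInjective_iso (fun K => by
    obtain ⟨I, f, h1, h2, -⟩ := exists_kInjective_resolution K
    exact ⟨I, f, h1, h2⟩) Z
  choose a ha using fun t => (Q_map_kInjective (X t) I).1 (f t ≫ i.inv)
  refine ⟨Q.map (Limits.Sigma.desc a) ≫ i.hom, fun t => ?_, fun m hm => ?_⟩
  · rw [← Q.map_comp_assoc, Limits.Sigma.ι_desc, ha]
    simp
  · obtain ⟨b, hb⟩ := (Q_map_kInjective (∐ X) I).1 (m ≫ i.inv)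
    have h0 : ∀ t, ∃ g : CochainComplex.mappingCone (𝟙 (X t)) ⟶ I,
        CochainComplex.mappingCone.inr (𝟙 (X t)) ≫ g = Limits.Sigma.ι X t ≫ (b - Limits.Sigma.desc a) := fun t => by
      have h1 : Q.map (Limits.Sigma.ι X t ≫ (b - Limits.Sigma.desc a)) = Q.map (0 : X t ⟶ I) := by
        have h2 : Q.map (Limits.Sigma.ι X t) ≫ m ≫ i.inv = f t ≫ i.inv := by
          rw [← hm t, Category.assoc]
        rw [Preadditive.comp_sub, Functor.map_sub, Q.map_comp, hb, h2, Limits.Sigma.ι_desc, ha, sub_self,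
          Functor.map_zero]
      obtain ⟨H⟩ := (Q_map_kInjective (X t) I).2 _ _ h1
      exact ⟨CochainComplex.mappingCone.desc (𝟙 (X t)) (CochainComplex.HomComplex.Cochain.ofHomotopy H)
        (Limits.Sigma.ι X t ≫ (b - Limits.Sigma.desc a)) (by simp), CochainComplex.mappingCone.inr_desc _ _ _ _⟩
    choose g hg using h0
    have h3 : b - Limits.Sigma.desc a =
        Limits.Sigma.map (fun t => CochainComplex.mappingCone.inr (𝟙 (X t))) ≫ Limits.Sigma.desc g :=
      Limits.Sigma.hom_ext _ _ fun t => by simp [hg]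
    have h4 : Q.map (b - Limits.Sigma.desc a) = 0 := by
      rw [h3, Q.map_comp, (isZero_Q_of_acyclic _ (acyclic_sigma _ fun t => acyclic_cone_id (X t))).eq_of_tgt
        (Q.map (Limits.Sigma.map fun t => CochainComplex.mappingCone.inr (𝟙 (X t)))) 0, zero_comp]
    rw [Functor.map_sub, sub_eq_zero] at h4
    rw [← h4, hb, Category.assoc, Iso.inv_hom_id, Category.comp_id]

/-- `Q` preserves coproducts -/
theorem isIso_desc_Q {T : Type v} (X : T → CochainComplex A ℤ) [HasCoproduct fun t => Q.obj (X t)] :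
    IsIso (Limits.Sigma.desc fun t => Q.map (Limits.Sigma.ι X t)) := by
  obtain ⟨m, hm, -⟩ := exists_unique_desc_Q X (fun t => Limits.Sigma.ι (fun t => Q.obj (X t)) t)
  refine ⟨m, Limits.Sigma.hom_ext _ _ fun t => by simp [hm], ?_⟩
  exact (exists_unique_desc_Q X fun t => Q.map (Limits.Sigma.ι X t)).unique
    (fun t => by rw [← Category.assoc, hm, Limits.Sigma.ι_desc]) (fun t => Category.comp_id _)

variable {B : Type u'} [Category.{v} B] [Abelian B] [IsGrothendieckAbelian.{v} B] [HasDerivedCategory.{w'} B]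

theorem IsGood.isIso_sigma_desc {G : CochainComplex A ℤ ⥤ CochainComplex B ℤ} {P : CochainComplex A ℤ → Prop}
    (hg : IsGood DerivedCategory.Q (G ⋙ DerivedCategory.Q) (HomologicalComplex.quasiIso A (ComplexShape.up ℤ)) P)
    {ι : Type v} (hP : ∀ K : ι → CochainComplex A ℤ, (∀ i, P (K i)) → P (∐ K))
    [PreservesColimitsOfShape (Discrete ι) G]
    (LF : DerivedCategory A ⥤ DerivedCategory B) (α : DerivedCategory.Q ⋙ LF ⟶ G ⋙ DerivedCategory.Q)
    [LF.IsLeftDerivedFunctor α (HomologicalComplex.quasiIso A (ComplexShape.up ℤ))]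
    (C : ι → DerivedCategory A) [HasCoproduct C] [HasCoproduct fun i => LF.obj (C i)] :
    IsIso (Limits.Sigma.desc fun i => LF.map (Limits.Sigma.ι C i)) := by
  choose K q hK hq using fun i => hg.res (DerivedCategory.Q.objPreimage (C i))
  haveI : ∀ i, IsIso (DerivedCategory.Q.map (q i)) := fun i =>
    Localization.inverts DerivedCategory.Q (HomologicalComplex.quasiIso A (ComplexShape.up ℤ)) (q i) (hq i)
  let e : ∀ i, DerivedCategory.Q.obj (K i) ≅ C i := fun i =>
    asIso (DerivedCategory.Q.map (q i)) ≪≫ DerivedCategory.Q.objObjPreimageIso (C i)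
  haveI : HasCoproduct fun i => DerivedCategory.Q.obj (K i) := Groth.Agent.KInjRes.hasCoproduct_derivedCategory _
  haveI : HasCoproduct fun i => DerivedCategory.Q.obj (G.obj (K i)) := Groth.Agent.KInjRes.hasCoproduct_derivedCategory _
  haveI := isIso_desc_Q K
  haveI := isIso_desc_Q (fun i => G.obj (K i))
  haveI : IsIso (α.app (∐ K)) := hg.isIso_app LF α (hP K hK)
  haveI : ∀ i, IsIso (α.app (K i)) := fun i => hg.isIso_app LF α (hK i)
  let E : DerivedCategory.Q.obj (∐ K) ⟶ ∐ C :=
    CategoryTheory.inv (Limits.Sigma.desc fun i => DerivedCategory.Q.map (Limits.Sigma.ι K i)) ≫ Limits.Sigma.map fun i => (e i).hom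
  let f : ∀ i, LF.obj (C i) ⟶ DerivedCategory.Q.obj (G.obj (K i)) := fun i => LF.map (e i).inv ≫ α.app (K i)
  have key : (Limits.Sigma.desc fun i => LF.map (Limits.Sigma.ι C i)) =
      Limits.Sigma.map f ≫ (Limits.Sigma.desc fun i => DerivedCategory.Q.map (Limits.Sigma.ι (fun i => G.obj (K i)) i)) ≫
        DerivedCategory.Q.map (sigmaComparison G K) ≫ CategoryTheory.inv (α.app (∐ K)) ≫ LF.map E := by
    refine Limits.Sigma.hom_ext _ _ fun i => ?_
    rw [Limits.Sigma.ι_desc, Limits.Sigma.ι_map_assoc, Limits.Sigma.ι_desc_assoc, ← DerivedCategory.Q.map_comp_assoc,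
      ι_comp_sigmaComparison]
    have n : LF.map (DerivedCategory.Q.map (Limits.Sigma.ι K i)) ≫ α.app (∐ K) =
        α.app (K i) ≫ DerivedCategory.Q.map (G.map (Limits.Sigma.ι K i)) := α.naturality (Limits.Sigma.ι K i)
    have n₂ : α.app (K i) ≫ DerivedCategory.Q.map (G.map (Limits.Sigma.ι K i)) ≫ CategoryTheory.inv (α.app (∐ K)) =
        LF.map (DerivedCategory.Q.map (Limits.Sigma.ι K i)) := by
      rw [← Category.assoc, ← n, Category.assoc, IsIso.hom_inv_id, Category.comp_id]
    show _ = (LF.map (e i).inv ≫ α.app (K i)) ≫ _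
    rw [Category.assoc, reassoc_of% n₂, ← LF.map_comp, ← LF.map_comp]
    congr 1
    have : DerivedCategory.Q.map (Limits.Sigma.ι K i) =
        Limits.Sigma.ι (fun i => DerivedCategory.Q.obj (K i)) i ≫ Limits.Sigma.desc fun i => DerivedCategory.Q.map (Limits.Sigma.ι K i) :=
      (Limits.Sigma.ι_desc (f := fun i => DerivedCategory.Q.obj (K i)) (fun i => DerivedCategory.Q.map (Limits.Sigma.ι K i)) i).symm
    dsimp only [E]
    rw [this, Category.assoc, IsIso.hom_inv_id_assoc, Limits.Sigma.ι_map, Iso.inv_hom_id_assoc]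
  rw [key]
  haveI : ∀ i, IsIso (f i) := fun i => by dsimp only [f]; infer_instance
  haveI : HasCoproductsOfShape ι (DerivedCategory A) := ⟨fun F =>
    haveI := Groth.Agent.KInjRes.hasCoproduct_derivedCategory (F.obj ∘ Discrete.mk)
    hasColimit_of_iso (F := Discrete.functor (F.obj ∘ Discrete.mk)) Discrete.natIsoFunctor⟩
  haveI : HasCoproductsOfShape ι (DerivedCategory B) := ⟨fun F =>
    haveI := Groth.Agent.KInjRes.hasCoproduct_derivedCategory (F.obj ∘ Discrete.mk)
    hasColimit_of_iso (F := Discrete.functor (F.obj ∘ Discrete.mk)) Discrete.natIsoFunctor⟩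
  haveI : IsIso (Limits.Sigma.map fun i => (e i).hom) := (Limits.Sigma.mapIso e).isIso_hom
  haveI : IsIso (Limits.Sigma.map f) := (Limits.Sigma.mapIso fun i => asIso (f i)).isIso_hom
  haveI : IsIso E := by dsimp only [E]; infer_instance
  infer_instance

end

section bifunctor

variable {A : Type u} [Category.{v} A] [Abelian A] [IsGrothendieckAbelian.{v} A] (T : A ⥤ A ⥤ A)
  [T.Additive] [∀ X, (T.obj X).Additive]
  [∀ K L : CochainComplex A ℤ, HomologicalComplex.HasMapBifunctor K L T (ComplexShape.up ℤ)]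

/-- coproducts of K-flat complexes are K-flat -/
theorem IsKFlat.sigma [∀ X, PreservesColimitsOfSize.{v, v} (T.obj X)] {ι : Type v}
    (K : ι → CochainComplex A ℤ) (h : ∀ i, IsKFlat T (K i)) : IsKFlat T (∐ K) := fun L hL => by
  haveI := preservesColimits_Φ T L
  letI := HasDerivedCategory.standard A
  exact acyc_of_iso (PreservesCoproduct.iso (Φ T L) K).symm
    ((acyc_iff _).2 (Groth.Agent.KInjRes.acyclic_sigma _ fun i => (acyc_iff _).1 (h i L hL)))

theorem preservesColimits_flipObj [∀ X, PreservesColimitsOfSize.{v, v} (T.flip.obj X)] (E : CochainComplex A ℤ)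
    (ι : Type v) : PreservesColimitsOfShape (Discrete ι) (T.map₂CochainComplex.flip.obj E) := by
  haveI := preservesColimits_Φ T.flip E
  exact preservesColimitsOfShape_of_natIso (F := Φ T.flip E) (NatIso.ofComponents (fun K => ΦFlip T E K) fun φ =>
    HomologicalComplex.mapBifunctorFlipIso_hom_naturality φ (𝟙 E) T (ComplexShape.up ℤ))

/-- `- ⊗^L E` preserves coproducts -/
theorem isIso_sigma_desc_tensor [∀ X, PreservesColimitsOfSize.{v, v} (T.obj X)]
    [∀ X, PreservesColimitsOfSize.{v, v} (T.flip.obj X)] [HasDerivedCategory.{w} A]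
    (hflat : ∀ B : A, ∃ (Q : A) (π : Q ⟶ B), Epi π ∧ TFlat T.flip Q)
    (hres : ∀ L, ∃ (L' : CochainComplex A ℤ) (q : L' ⟶ L), IsKFlat T L' ∧ QuasiIso q)
    (E : CochainComplex A ℤ)
    (hE : (T.map₂CochainComplex.flip.obj E ⋙ DerivedCategory.Q).HasLeftDerivedFunctor
      (HomologicalComplex.quasiIso A (ComplexShape.up ℤ))) {ι : Type v} (C : ι → DerivedCategory A) [hC : HasCoproduct C]
    [hC' : HasCoproduct fun i => ((T.map₂CochainComplex.flip.obj E ⋙ DerivedCategory.Q).totalLeftDerived DerivedCategory.Q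
      (HomologicalComplex.quasiIso A (ComplexShape.up ℤ))).obj (C i)] :
    IsIso (Limits.Sigma.desc fun i => ((T.map₂CochainComplex.flip.obj E ⋙ DerivedCategory.Q).totalLeftDerived
      DerivedCategory.Q (HomologicalComplex.quasiIso A (ComplexShape.up ℤ))).map (Limits.Sigma.ι C i)) := by
  haveI : ∀ X, PreservesColimitsOfSize.{v, v} (T.flip.flip.obj X) := fun X =>
    (inferInstance : PreservesColimitsOfSize.{v, v} (T.obj X))
  haveI := preservesColimits_flipObj T E ι
  exact (isGood_tensor T hflat hres E).isIso_sigma_desc (fun K h => IsKFlat.sigma T.flip K h) _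
    ((T.map₂CochainComplex.flip.obj E ⋙ DerivedCategory.Q).totalLeftDerivedCounit DerivedCategory.Q
      (HomologicalComplex.quasiIso A (ComplexShape.up ℤ))) C

end bifunctor

end Groth.Agent.KFlatLib
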