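import Groth.Agent.KFlatLib.Bounded

/-!
K-flat resolutions.
-/

universe v u

open CategoryTheory Limits HomologicalComplex
open CochainComplex.HomComplex

namespace Groth.Agent.KFlatLib

variable {A : Type u} [Category.{v} A] [Abelian A]

section zeroDiff

variable (P : ℤ → A)

/-- zero differentials -/
noncomputable def zd : CochainComplex A ℤ where
  X := P
  d _ _ := 0

/-- map out of a zero differential complex -/
noncomputable def zdDesc {K : CochainComplex A ℤ} (g : ∀ n, P n ⟶ K.X n) (hg : ∀ n, g n ≫ K.d n (n + 1) = 0) :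
    zd P ⟶ K where
  f := g
  comm' i j h := by
    obtain rfl : i + 1 = j := h
    simp [hg, zd]

/-- the single pieces -/
noncomputable def zdPieces : Discrete (ULift.{v} ℤ) ⥤ CochainComplex A ℤ :=
  Discrete.functor fun q => (HomologicalComplex.single A (ComplexShape.up ℤ) q.down).obj (P q.down)

/-- cocone of pieces -/
noncomputable def zdCocone : Cocone (zdPieces P) where
  pt := zd P
  ι := Discrete.natTrans fun q => HomologicalComplex.mkHomFromSingle (K := zd P) (𝟙 (P q.as.down))
    fun k _ => (Category.id_comp _).trans rfl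

theorem isZero_piece (q : Discrete (ULift.{v} ℤ)) (i : ℤ) (h : i ≠ q.as.down) : IsZero (((zdPieces P).obj q).X i) :=
  HomologicalComplex.isZero_single_obj_X _ _ _ _ h

/-- it is a colimit -/
noncomputable def isColimitZdCocone : IsColimit (zdCocone P) := by
  refine HomologicalComplex.isColimitOfEval _ _ fun i => ?_
  let e := HomologicalComplex.singleObjXSelf (ComplexShape.up ℤ) i (P i)
  refine
    { desc := fun s => e.inv ≫ s.ι.app ⟨⟨i⟩⟩
      fac := fun s q => ?_
      uniq := fun s m hm => ?_ }
  · obtain ⟨⟨q⟩⟩ := q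
    by_cases h : i = q
    · subst h
      show (HomologicalComplex.mkHomFromSingle (K := zd P) (𝟙 (P i)) (fun k _ => (Category.id_comp _).trans rfl)).f i ≫ e.inv ≫ _ = _
      rw [HomologicalComplex.mkHomFromSingle_f]
      refine (Category.assoc _ _ _).trans ?_
      refine (congrArg (e.hom ≫ ·) (Category.id_comp _)).trans ?_
      exact e.hom_inv_id_assoc _
    · exact (isZero_piece P _ i h).eq_of_src _ _
  · have h := hm ⟨⟨i⟩⟩
    rw [← h]
    show m = e.inv ≫ (HomologicalComplex.mkHomFromSingle (K := zd P) (𝟙 (P i)) (fun k _ => (Category.id_comp _).trans rfl)).f i ≫ m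
    rw [HomologicalComplex.mkHomFromSingle_f]
    refine Eq.trans ?_ (congrArg (e.inv ≫ ·) (Category.assoc _ _ _)).symm
    refine Eq.trans ?_ (e.inv_hom_id_assoc _).symm
    exact (Category.id_comp m).symm

end zeroDiff

section cone

variable {K L : CochainComplex A ℤ} (φ : K ⟶ L)

theorem tflat_cone (T : A ⥤ A ⥤ A) [T.Additive] [∀ X, (T.obj X).Additive]
    [∀ K L : CochainComplex A ℤ, HomologicalComplex.HasMapBifunctor K L T (ComplexShape.up ℤ)] (n : ℤ)
    (hK : TFlat T (K.X (n + 1))) (hL : TFlat T (L.X n)) : TFlat T ((CochainComplex.mappingCone φ).X n) := by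
  haveI : HasBinaryBiproduct (K.X (n + 1)) (L.X n) := inferInstance
  exact TFlat.of_iso T (HomologicalComplex.homotopyCofiber.XIsoBiprod φ n (n + 1) rfl).symm (TFlat.biprod T hK hL)

end cone

variable (T : A ⥤ A ⥤ A) [T.Additive] [∀ X, (T.obj X).Additive]
  [∀ K L : CochainComplex A ℤ, HomologicalComplex.HasMapBifunctor K L T (ComplexShape.up ℤ)]
  [IsGrothendieckAbelian.{v} A] [∀ X, PreservesColimitsOfSize.{v, v} (T.obj X)]
  [∀ X, PreservesColimitsOfSize.{v, v} (T.flip.obj X)]

theorem hasExactColimits_discrete (I : Type v) : HasExactColimitsOfShape (Discrete I) A := inferInstance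

theorem isKFlat_zd {P : ℤ → A} (h : ∀ q, TFlat T (P q)) : IsKFlat T (zd P) :=
  IsKFlat.colimit T (isColimitZdCocone P) fun q =>
    isKFlat_of_single T q.as.down (fun i hi => isZero_piece P q i hi)
      (TFlat.of_iso T (HomologicalComplex.singleObjXSelf (ComplexShape.up ℤ) q.as.down (P q.as.down)).symm
        (h q.as.down)).2

variable (G : CochainComplex A ℤ)

/-- an intermediate stage of a resolution of `G` -/
structure Stage where
  /-- complex -/
  K : CochainComplex A ℤ
  /-- map -/
  f : K ⟶ G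
  kflat : IsKFlat T K

variable (hflat : ∀ B : A, ∃ (P : A) (π : P ⟶ B), Epi π ∧ TFlat T P)

/-- chosen flat cover -/
noncomputable def cov (B : A) : A := (hflat B).choose

/-- chosen flat cover map -/
noncomputable def covπ (B : A) : cov T hflat B ⟶ B := (hflat B).choose_spec.choose

instance epi_covπ (B : A) : Epi (covπ T hflat B) := (hflat B).choose_spec.choose_spec.1

theorem tflat_cov (B : A) : TFlat T (cov T hflat B) := (hflat B).choose_spec.choose_spec.2

variable {G}

/-- pairs of a cycle and a bounding element -/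
noncomputable abbrev PB (s : Stage T G) (n : ℤ) : A := pullback (s.K.iCycles n ≫ s.f.f n) (G.d (n - 1) n)

/-- the cells attached at the next stage -/
noncomputable def cells (s : Stage T G) (n : ℤ) : A := cov T hflat (PB T s n)

/-- attaching map -/
noncomputable def attach (s : Stage T G) : zd (cells T hflat s) ⟶ s.K :=
  zdDesc (cells T hflat s) (fun n => covπ T hflat _ ≫ pullback.fst _ _ ≫ s.K.iCycles n) fun n => by simp

/-- null homotopy -/
noncomputable def attachH (s : Stage T G) : Cochain (zd (cells T hflat s)) G (-1) :=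
  Cochain.mk fun p q hpq => covπ T hflat _ ≫ pullback.snd (s.K.iCycles p ≫ s.f.f p) (G.d (p - 1) p) ≫
    (G.XIsoOfEq (show p - 1 = q by omega)).hom

theorem δ_attachH (s : Stage T G) :
    δ (-1) 0 (attachH T hflat s) = Cochain.ofHom (attach T hflat s ≫ s.f) := by
  ext p
  rw [δ_v (-1) 0 (neg_add_cancel 1) _ p p (add_zero p) (p - 1) (p + 1) rfl rfl, Cochain.ofHom_v,
    HomologicalComplex.comp_f]
  show _ + _ • ((0 : (zd (cells T hflat s)).X p ⟶ (zd (cells T hflat s)).X (p + 1)) ≫ _) = _
  rw [zero_comp, smul_zero, add_zero]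
  simp [attachH, attach, zdDesc]
  exact (congrArg (covπ T hflat _ ≫ ·) pullback.condition.symm).trans
    ((congrArg (covπ T hflat _ ≫ ·) (Category.assoc _ _ _).symm).trans (Category.assoc _ _ _).symm)

/-- next stage -/
noncomputable def nextStage (s : Stage T G) : Stage T G where
  K := CochainComplex.mappingCone (attach T hflat s)
  f := CochainComplex.mappingCone.desc _ (attachH T hflat s) s.f (δ_attachH T hflat s)
  kflat := (IsKFlat.mappingCone_two_of_three T _).1 (isKFlat_zd T fun _ => tflat_cov T hflat _) s.kflat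

/-- transition -/
noncomputable def nextMap (s : Stage T G) : s.K ⟶ (nextStage T hflat s).K := CochainComplex.mappingCone.inr _

theorem nextMap_f (s : Stage T G) : nextMap T hflat s ≫ (nextStage T hflat s).f = s.f :=
  CochainComplex.mappingCone.inr_desc (attach T hflat s) (attachH T hflat s) s.f (δ_attachH T hflat s)

theorem kills (s : Stage T G) (n : ℤ) {B : A} (x : B ⟶ s.K.homology n) (hx : x ≫ homologyMap s.f n = 0) :
    x ≫ homologyMap (nextMap T hflat s) n = 0 := by
  obtain ⟨B₁, π₁, hπ₁, z, hz⟩ := surjective_up_to_refinements_of_epi (s.K.homologyπ n) x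
  rw [← cancel_epi π₁, comp_zero, reassoc_of% hz, homologyπ_naturality]
  have h0 : (z ≫ cyclesMap s.f n) ≫ G.homologyπ n = 0 := by
    rw [Category.assoc, ← homologyπ_naturality, ← reassoc_of% hz, hx, comp_zero]
  obtain ⟨B₂, π₂, hπ₂, y, hy⟩ := (G.comp_homologyπ_eq_zero_iff_up_to_refinements (n - 1) n (by simp) _).1 h0
  have hl : (π₂ ≫ z) ≫ s.K.iCycles n ≫ s.f.f n = y ≫ G.d (n - 1) n := by
    have := congrArg (· ≫ G.iCycles n) hy
    simpa using this
  obtain ⟨B₃, π₃, hπ₃, m, hm⟩ :=
    surjective_up_to_refinements_of_epi (covπ T hflat (PB T s n)) (pullback.lift _ _ hl)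
  rw [← cancel_epi π₂, comp_zero, ← cancel_epi π₃, comp_zero, ← Category.assoc π₂, ← Category.assoc π₃,
    ← Category.assoc, comp_homologyπ_eq_zero_iff_up_to_refinements _ (n - 1) n (by simp)]
  refine ⟨B₃, 𝟙 _, inferInstance,
    m ≫ (CochainComplex.mappingCone.inl (attach T hflat s)).v n (n - 1) (by omega), ?_⟩
  rw [← cancel_mono (iCycles _ n)]
  simp only [Category.id_comp, Category.assoc, toCycles_i, cyclesMap_i]
  erw [CochainComplex.mappingCone.inl_v_d (attach T hflat s) n (n - 1) (n + 1) (by omega) (by omega)]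
  rw [show (zd (cells T hflat s)).d n (n + 1) = 0 from rfl, zero_comp, sub_zero]
  have hm' : m ≫ (attach T hflat s).f n = π₃ ≫ π₂ ≫ z ≫ s.K.iCycles n := by
    show m ≫ covπ T hflat _ ≫ pullback.fst _ _ ≫ s.K.iCycles n = _
    rw [← reassoc_of% hm, pullback.lift_fst_assoc, Category.assoc]
  refine Eq.trans ?_ ((congrArg (· ≫ (CochainComplex.mappingCone.inr (attach T hflat s)).f n) hm').symm.trans
    (Category.assoc _ _ _))
  simp [nextMap]
  rfl

/-- the tower -/
noncomputable def tower (s : Stage T G) : ℕ → Stage T G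
  | 0 => s
  | m + 1 => nextStage T hflat (tower s m)

/-- the sequence of complexes -/
noncomputable def seq (s : Stage T G) : AsSmall.{v} ℕ ⥤ CochainComplex A ℤ :=
  AsSmall.down ⋙ Functor.ofSequence (X := fun m => (tower T hflat s m).K) fun m => nextMap T hflat _

/-- the map to `G` -/
noncomputable def seqTo (s : Stage T G) : seq T hflat s ⟶ (Functor.const _).obj G :=
  Functor.whiskerLeft AsSmall.down
    (NatTrans.ofSequence (G := (Functor.const ℕ).obj G) (fun m => (tower T hflat s m).f) fun m => by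
      rw [Functor.ofSequence_map_homOfLE_succ]
      exact (nextMap_f T hflat _).trans (Category.comp_id _).symm)

/-- the cocone -/
noncomputable def seqCocone (s : Stage T G) : Cocone (seq T hflat s) := ⟨G, seqTo T hflat s⟩

include hflat in
/-- Killing the kernel in homology. -/
theorem exists_resolution_of_stage (s : Stage T G) (hepi : ∀ n, Epi (s.f.f n)) (hH : ∀ n, Epi (homologyMap s.f n)) :
    ∃ (K : CochainComplex A ℤ) (j : s.K ⟶ K) (q : K ⟶ G), IsKFlat T K ∧ QuasiIso q ∧ (∀ n, Epi (q.f n)) ∧
      j ≫ q = s.f ∧ ((∀ n, TFlat T (s.K.X n)) → ∀ n, TFlat T (K.X n)) := by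
  haveI : IsFiltered (AsSmall.{v} ℕ) := IsFiltered.of_equivalence AsSmall.equiv
  let F := seq T hflat s
  let q : colimit F ⟶ G := colimit.desc F (seqCocone T hflat s)
  let j : s.K ⟶ colimit F := colimit.ι F (AsSmall.up.obj 0)
  have hj : j ≫ q = s.f := colimit.ι_desc _ _
  refine ⟨colimit F, j, q, IsKFlat.colimit T (colimit.isColimit F) fun m => (tower T hflat s _).kflat, ?_,
    fun n => ?_, hj, fun ht n => ?_⟩
  · rw [quasiIso_iff]
    intro i
    rw [quasiIsoAt_iff_isIso_homologyMap]
    let H := homologyFunctor A (ComplexShape.up ℤ) i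
    let α : F ⋙ H ⟶ (Functor.const _).obj (H.obj G) :=
      { app := fun m => H.map ((seqTo T hflat s).app m)
        naturality := fun m m' g => by
          show H.map (F.map g) ≫ H.map ((seqTo T hflat s).app m') = H.map ((seqTo T hflat s).app m) ≫ 𝟙 _
          rw [← Functor.map_comp, (seqTo T hflat s).naturality g, Category.comp_id]
          exact congrArg H.map (Category.comp_id _) }
    have hq : ∀ m, H.map (colimit.ι F m) ≫ H.map q = α.app m := fun m => by
      rw [← Functor.map_comp]
      exact congrArg H.map (colimit.ι_desc _ _)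
    haveI := preservesColimitsOfShape_homologyFunctor (A := A) (J := AsSmall.{v} ℕ) i
    have hc : IsColimit (H.mapCocone (colimit.cocone F)) := isColimitOfPreserves H (colimit.isColimit F)
    haveI : IsConnected (AsSmall.{v} ℕ) := IsFiltered.isConnected _
    -- the kernels are killed at the next stage
    let κ : kernel α ⟶ F ⋙ H := kernel.ι α
    have hk : ∀ m, (kernel.ι α).app m ≫ H.map (F.map (AsSmall.up.map (homOfLE (Nat.le_succ (ULift.down m))))) = 0 := by
      rintro ⟨m⟩
      have h0 : (kernel.ι α).app ⟨m⟩ ≫ α.app ⟨m⟩ = 0 := by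
        rw [← NatTrans.comp_app, kernel.condition]; rfl
      have h1 := kills T hflat (tower T hflat s m) i ((kernel.ι α).app ⟨m⟩) h0
      have h2 : F.map (AsSmall.up.map (homOfLE (Nat.le_succ m))) = nextMap T hflat (tower T hflat s m) :=
        Functor.ofSequence_map_homOfLE_succ _ m
      exact (congrArg (fun t => (kernel.ι α).app ⟨m⟩ ≫ H.map t) h2).trans h1
    have hK0 : IsZero (colimit (kernel α)) := by
      rw [IsZero.iff_id_eq_zero]
      refine colimit.hom_ext fun m => ?_
      let g : m ⟶ AsSmall.up.obj ((ULift.down m) + 1) := AsSmall.up.map (homOfLE (Nat.le_succ (ULift.down m)))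
      have : (kernel α).map g = 0 := by
        haveI : Mono ((kernel.ι α).app (AsSmall.up.obj ((ULift.down m) + 1))) := inferInstance
        rw [← cancel_mono ((kernel.ι α).app _), zero_comp, (kernel.ι α).naturality]
        exact hk m
      rw [Category.comp_id, comp_zero, ← colimit.w (kernel α) g, this, zero_comp]
    let S := ShortComplex.mk (kernel.ι α) α (kernel.condition α)
    have hS : (S.map (colim : (AsSmall.{v} ℕ ⥤ A) ⥤ A)).Exact :=
      (ShortComplex.exact_of_f_is_kernel S (kernelIsKernel α)).map _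
    haveI : Mono (colim.map α) := hS.mono_g (hK0.eq_of_src _ _)
    let e₁ := hc.coconePointUniqueUpToIso (colimit.isColimit (F ⋙ H))
    let e₂ := (colimit.isColimit ((Functor.const (AsSmall.{v} ℕ)).obj (H.obj G))).coconePointUniqueUpToIso
      (isColimitConstCocone (AsSmall.{v} ℕ) (H.obj G))
    have hfac : H.map q = e₁.hom ≫ colim.map α ≫ e₂.hom := hc.hom_ext fun m => by
      show H.map (colimit.ι F m) ≫ H.map q = H.map (colimit.ι F m) ≫ e₁.hom ≫ colim.map α ≫ e₂.hom
      rw [hq]
      refine Eq.symm ?_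
      have a1 : H.map (colimit.ι F m) ≫ e₁.hom = colimit.ι (F ⋙ H) m :=
        hc.comp_coconePointUniqueUpToIso_hom (colimit.isColimit (F ⋙ H)) m
      have a2 : colimit.ι ((Functor.const (AsSmall.{v} ℕ)).obj (H.obj G)) m ≫ e₂.hom = 𝟙 _ :=
        (colimit.isColimit _).comp_coconePointUniqueUpToIso_hom (isColimitConstCocone _ _) m
      rw [reassoc_of% a1]
      erw [ι_colimMap_assoc, a2]
      exact Category.comp_id _
    haveI : Mono (homologyMap q i) := by
      show Mono (H.map q)
      rw [hfac]
      exact @mono_comp _ _ _ _ _ _ (inferInstance : Mono e₁.hom) _ (mono_comp (colim.map α) e₂.hom)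
    haveI := hH i
    haveI : Epi (homologyMap q i) :=
      epi_of_epi_fac (show homologyMap j i ≫ homologyMap q i = homologyMap s.f i by rw [← homologyMap_comp, hj])
    exact isIso_of_mono_of_epi _
  · haveI := hepi n
    exact epi_of_epi_fac (show j.f n ≫ q.f n = s.f.f n by rw [← HomologicalComplex.comp_f, hj])
  · refine TFlat.colimit T (isColimitOfPreserves (eval A (ComplexShape.up ℤ) n) (colimit.isColimit F)) ?_
    have : ∀ (m : ℕ) n, TFlat T ((tower T hflat s m).K.X n) := fun m => by
      induction m with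
      | zero => exact ht
      | succ m ih => exact fun n => tflat_cone _ T n (tflat_cov T hflat _) (ih n)
    exact fun m => this _ n

/-- initial cells mapping onto cycles -/
noncomputable def cells₀ (G : CochainComplex A ℤ) : zd (fun n => cov T hflat (G.cycles n)) ⟶ G :=
  zdDesc _ (fun n => covπ T hflat _ ≫ G.iCycles n) fun n => by simp

include hflat in
theorem exists_initial (G : CochainComplex A ℤ) :
    ∃ s : Stage T G, (∀ n, Epi (s.f.f n)) ∧ (∀ n, Epi (homologyMap s.f n)) ∧ ∀ n, TFlat T (s.K.X n) := by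
  let P := fun m : ℤ => cov T hflat (G.X (m - 1))
  let β : zd P ⟶ G := zdDesc P (fun m => covπ T hflat _ ≫ G.d (m - 1) m) fun m => by simp
  let α : Cochain (zd P) G (-1) :=
    Cochain.mk fun p q hpq => covπ T hflat _ ≫ (G.XIsoOfEq (show p - 1 = q by omega)).hom
  have hα : δ (-1) 0 α = Cochain.ofHom (𝟙 (zd P) ≫ β) := by
    ext p
    rw [δ_v (-1) 0 (neg_add_cancel 1) _ p p (add_zero p) (p - 1) (p + 1) rfl rfl, Cochain.ofHom_v]
    show _ + _ • ((0 : (zd P).X p ⟶ (zd P).X (p + 1)) ≫ _) = _
    rw [zero_comp, smul_zero, add_zero]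
    simp [α, β, zdDesc]
    rfl
  let g₁ : C₀ (zd P) ⟶ G := CochainComplex.mappingCone.desc _ α β hα
  let Q := fun n => cov T hflat (G.cycles n)
  let g₀ : zd Q ⟶ G := cells₀ T hflat G
  let σ := ShortComplex.Splitting.ofHasBinaryBiproduct (zd Q) (C₀ (zd P))
  have hk : IsKFlat T (zd Q ⊞ C₀ (zd P)) := (IsKFlat.two_of_three T σ.shortExact fun X q =>
      mono_map_split T _ ((biprod.fst : zd Q ⊞ C₀ (zd P) ⟶ zd Q).f q)
        (by rw [← HomologicalComplex.comp_f, biprod.inl_fst]; rfl) X).2.1
      (isKFlat_zd T fun _ => tflat_cov T hflat _) (isKFlat_C₀ T _)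
  refine ⟨⟨_, biprod.desc g₀ g₁, hk⟩, fun n => ?_, fun n => ?_, fun n => ?_⟩
  · have e : (CochainComplex.mappingCone.inl (𝟙 (zd P))).v (n + 1) n (by omega) ≫
        (biprod.inr : C₀ (zd P) ⟶ zd Q ⊞ C₀ (zd P)).f n ≫ (biprod.desc g₀ g₁).f n =
        covπ T hflat (G.X (n + 1 - 1)) ≫ (G.XIsoOfEq (show n + 1 - 1 = n by omega)).hom := by
      rw [← HomologicalComplex.comp_f, biprod.inr_desc]
      exact CochainComplex.mappingCone.inl_v_desc_f _ _ _ _ _ _ _
    exact @epi_of_epi_fac _ _ _ _ _ _ _ _ (@epi_comp _ _ _ _ _ _ (epi_covπ T hflat _) _ inferInstance) ((Category.assoc _ _ _).trans e)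
  · haveI : Epi (homologyMap g₀ n) := by
      refine epi_of_epi_fac (show ((zd Q).liftCycles (𝟙 (Q n)) (n + 1) (by simp) (comp_zero) ≫ (zd Q).homologyπ n) ≫
        homologyMap g₀ n = covπ T hflat _ ≫ G.homologyπ n from ?_)
      rw [Category.assoc, homologyπ_naturality, ← Category.assoc]
      congr 1
      rw [← cancel_mono (G.iCycles n)]
      simp [g₀, cells₀, zdDesc, liftCycles_i_assoc]
      exact Category.id_comp _
    exact epi_of_epi_fac (show homologyMap (biprod.inl : zd Q ⟶ _) n ≫ homologyMap (biprod.desc g₀ g₁) n =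
      homologyMap g₀ n by rw [← homologyMap_comp, biprod.inl_desc])
  · exact TFlat.of_iso T (HomologicalComplex.biprodXIso (zd Q) (C₀ (zd P)) n).symm
      (TFlat.biprod T (tflat_cov T hflat _) (tflat_cone _ T n (tflat_cov T hflat _) (tflat_cov T hflat _)))

include hflat in
/-- K-flat resolutions exist. -/
theorem exists_resolution (G : CochainComplex A ℤ) :
    ∃ (K : CochainComplex A ℤ) (q : K ⟶ G), IsKFlat T K ∧ (∀ n, TFlat T (K.X n)) ∧ QuasiIso q ∧
      ∀ n, Epi (q.f n) := by
  obtain ⟨s, h₁, h₂, h₃⟩ := exists_initial T hflat G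
  obtain ⟨K, j, q, hK, hq, he, -, ht⟩ := exists_resolution_of_stage T hflat s h₁ h₂
  exact ⟨K, q, hK, ht h₃, hq, he⟩

include hflat in
/-- maps from K-flat complexes factor -/
theorem exists_factor {K L : CochainComplex A ℤ} (a : K ⟶ L) (hK : IsKFlat T K) :
    ∃ (N : CochainComplex A ℤ) (b : K ⟶ N) (c : N ⟶ L), IsKFlat T N ∧ QuasiIso c ∧ b ≫ c = a ∧
      ((∀ n, TFlat T (K.X n)) → ∀ n, TFlat T (N.X n)) := by
  obtain ⟨s, h₁, h₂, h₃⟩ := exists_initial T hflat L
  let σ := ShortComplex.Splitting.ofHasBinaryBiproduct K s.K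
  have hk : IsKFlat T (K ⊞ s.K) := (IsKFlat.two_of_three T σ.shortExact fun X q =>
      mono_map_split T _ ((biprod.fst : K ⊞ s.K ⟶ K).f q)
        (by rw [← HomologicalComplex.comp_f, biprod.inl_fst]; rfl) X).2.1 hK s.kflat
  let s' : Stage T L := ⟨_, biprod.desc a s.f, hk⟩
  obtain ⟨N, j, c, hN, hc, -, hj, ht⟩ := exists_resolution_of_stage T hflat s'
    (fun n => by
      haveI := h₁ n
      exact epi_of_epi_fac (show (biprod.inr : s.K ⟶ K ⊞ s.K).f n ≫ s'.f.f n = s.f.f n by
        rw [← HomologicalComplex.comp_f, biprod.inr_desc]))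
    (fun n => by
      haveI := h₂ n
      exact epi_of_epi_fac (show homologyMap (biprod.inr : s.K ⟶ K ⊞ s.K) n ≫ homologyMap s'.f n = homologyMap s.f n
        by rw [← homologyMap_comp, biprod.inr_desc]))
  refine ⟨N, biprod.inl ≫ j, c, hN, hc, ?_, fun hf => ht fun n => ?_⟩
  · rw [Category.assoc, hj]
    exact biprod.inl_desc _ _
  · exact TFlat.of_iso T (HomologicalComplex.biprodXIso K s.K n).symm (TFlat.biprod T (hf n) (h₃ n))

end Groth.Agent.KFlatLib
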