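import Groth.Agent.KFlatLib.Quasi
import Groth.Agent.KFlatLib.Resolution
import Groth.Prelude.Def_KFlatSite

/-!
K-flat complexes of modules over a commutative ring.
-/

universe u

open CategoryTheory Limits HomologicalComplex MonoidalCategory

namespace Groth.Agent.KFlatLib

variable (R : Type u) [CommRing R]

/-- the tensor bifunctor -/
noncomputable abbrev TM : ModuleCat.{u} R ⥤ ModuleCat.{u} R ⥤ ModuleCat.{u} R := curriedTensor (ModuleCat.{u} R)

instance (X : ModuleCat.{u} R) : PreservesColimitsOfSize.{u, u} ((TM R).obj X) :=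
  (inferInstance : PreservesColimitsOfSize.{u, u} (tensorLeft X))

instance (X : ModuleCat.{u} R) : PreservesColimitsOfSize.{u, u} ((TM R).flip.obj X) :=
  preservesColimits_of_natIso (BraidedCategory.tensorLeftIsoTensorRight X)

instance (X : ModuleCat.{u} R) : PreservesColimitsOfSize.{u, u} ((TM R).flip.flip.obj X) :=
  (inferInstance : PreservesColimitsOfSize.{u, u} ((TM R).obj X))

variable {R}

theorem tflat_of_flat {M : ModuleCat.{u} R} (h : Module.Flat R M) : TFlat (TM R) M := by
  refine ⟨⟨fun f hf => ?_⟩, ⟨fun f hf => ?_⟩⟩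
  · rw [ModuleCat.mono_iff_injective]
    exact Module.Flat.lTensor_preserves_injective_linearMap (M := (M : Type u)) f.hom
      ((ModuleCat.mono_iff_injective f).1 hf)
  · rw [ModuleCat.mono_iff_injective]
    exact Module.Flat.rTensor_preserves_injective_linearMap (M := (M : Type u)) f.hom
      ((ModuleCat.mono_iff_injective f).1 hf)

theorem flat_of_tflat {M : ModuleCat.{u} R} (h : TFlat (TM R) M) : Module.Flat R M := by
  rw [Module.Flat.iff_lTensor_preserves_injective_linearMap]
  intro N N' _ _ _ _ f hf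
  haveI := h.1
  haveI : Mono (ModuleCat.ofHom f) := (ModuleCat.mono_iff_injective _).2 hf
  exact (ModuleCat.mono_iff_injective (((TM R).obj M).map (ModuleCat.ofHom f))).1 inferInstance

variable (R) in
theorem enough_tflat_module (B : ModuleCat.{u} R) :
    ∃ (P : ModuleCat.{u} R) (π : P ⟶ B), Epi π ∧ TFlat (TM R) P := by
  refine ⟨ModuleCat.of R (B →₀ R), ModuleCat.ofHom (Finsupp.linearCombination R id), ?_,
    tflat_of_flat (inferInstanceAs (Module.Flat R (B →₀ R)))⟩
  rw [ModuleCat.epi_iff_surjective]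
  exact Finsupp.linearCombination_id_surjective R B

variable (R) in
theorem exists_flip_resolution_module (L : CochainComplex (ModuleCat.{u} R) ℤ) :
    ∃ (L' : CochainComplex (ModuleCat.{u} R) ℤ) (q : L' ⟶ L), IsKFlat (TM R).flip L' ∧ QuasiIso q :=
  let ⟨K, q, hK, _, hq, _⟩ := exists_resolution (TM R).flip
    (fun B => let ⟨P, π, h₁, h₂⟩ := enough_tflat_module R B; ⟨P, π, h₁, h₂.2, h₂.1⟩) L
  ⟨K, q, hK, hq⟩

theorem isKFlat_module_iff (K : CochainComplex (ModuleCat.{u} R) ℤ) :
    (∀ L : _root_.DRing.Cx R, (∀ i : ℤ, IsZero (L.homology i)) → ∀ i : ℤ, IsZero ((L ⊗ K).homology i)) ↔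
      IsKFlat (TM R) K :=
  Iff.rfl

end Groth.Agent.KFlatLib
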