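import Groth.Agent.KFlatLib.Basic

/-!
K-flatness is invariant under homotopy equivalences and satisfies two out of three in `K(A)`.
-/

universe v u

open CategoryTheory Limits HomologicalComplex

namespace Groth.Agent.KFlatLib

variable {A : Type u} [Category.{v} A] [Abelian A]
variable (T : A ⥤ A ⥤ A) [T.Additive] [∀ X, (T.obj X).Additive]
  [∀ K L : CochainComplex A ℤ, HomologicalComplex.HasMapBifunctor K L T (ComplexShape.up ℤ)]

theorem IsKFlat.of_homotopyEquiv {K K' : CochainComplex A ℤ} (e : HomotopyEquiv K K') (h : IsKFlat T K) :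
    IsKFlat T K' := fun L hL i => by
  have h₁ := HomologicalComplex.mapBifunctorMapHomotopy₂ (𝟙 L) e.homotopyInvHomId T (ComplexShape.up ℤ)
  have h₂ := h₁.homologyMap_eq i
  rw [IsZero.iff_id_eq_zero]
  have h₃ : homologyMap ((Φ T L).map (e.inv ≫ e.hom)) i = homologyMap ((Φ T L).map (𝟙 K')) i := h₂
  rw [Functor.map_comp, homologyMap_comp, CategoryTheory.Functor.map_id, homologyMap_id,
    (h L hL i).eq_of_tgt (homologyMap ((Φ T L).map e.inv) i) 0, zero_comp] at h₃
  exact h₃.symm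

variable [IsGrothendieckAbelian.{v} A] [∀ X, PreservesColimitsOfSize.{v, v} (T.obj X)]

theorem IsKFlat.two_of_three_distinguished
    (t : Pretriangulated.Triangle (HomotopyCategory A (ComplexShape.up ℤ)))
    (ht : t ∈ Pretriangulated.distinguishedTriangles) :
    (IsKFlat T t.obj₁.as → IsKFlat T t.obj₂.as → IsKFlat T t.obj₃.as) ∧
    (IsKFlat T t.obj₁.as → IsKFlat T t.obj₃.as → IsKFlat T t.obj₂.as) ∧
    (IsKFlat T t.obj₂.as → IsKFlat T t.obj₃.as → IsKFlat T t.obj₁.as) := by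
  obtain ⟨K, L, φ, ⟨e⟩⟩ := ht
  have key : ∀ {X : HomotopyCategory A (ComplexShape.up ℤ)} {Y : CochainComplex A ℤ}
      (_ : X ≅ (HomotopyCategory.quotient _ _).obj Y), (IsKFlat T X.as ↔ IsKFlat T Y) := fun {X Y} i =>
    ⟨IsKFlat.of_homotopyEquiv T (HomotopyCategory.homotopyEquivOfIso i),
      IsKFlat.of_homotopyEquiv T (HomotopyCategory.homotopyEquivOfIso i).symm⟩
  have k₁ : IsKFlat T t.obj₁.as ↔ IsKFlat T K := key (Pretriangulated.Triangle.π₁.mapIso e)
  have k₂ : IsKFlat T t.obj₂.as ↔ IsKFlat T L := key (Pretriangulated.Triangle.π₂.mapIso e)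
  have k₃ : IsKFlat T t.obj₃.as ↔ IsKFlat T (CochainComplex.mappingCone φ) :=
    key (Pretriangulated.Triangle.π₃.mapIso e)
  obtain ⟨a, b, c⟩ := IsKFlat.mappingCone_two_of_three T φ
  exact ⟨fun h h' => k₃.2 (a (k₁.1 h) (k₂.1 h')), fun h h' => k₂.2 (b (k₁.1 h) (k₃.1 h')),
    fun h h' => k₁.2 (c (k₂.1 h) (k₃.1 h'))⟩

end Groth.Agent.KFlatLib
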