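import Groth.Agent.KFlatLib.GoodDerived
import Groth.Agent.KFlatLib.Quasi
import Groth.Agent.KFlatLib.Resolution
import Groth.Agent.KFlatLib.Homotopy
import Mathlib.Algebra.Homology.DerivedCategory.Fractions

/-!
Left derived functors on the derived category computed by K-flat (or similar) complexes.
-/

universe w w' v v' u u' v'' u''

open CategoryTheory Limits HomologicalComplex

namespace Groth.Agent.KFlatLib

variable {A : Type u} [Category.{v} A] [Abelian A] [HasDerivedCategory.{w} A]

section general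

variable {H : Type u''} [Category.{v''} H] (P : CochainComplex A ℤ → Prop)

/-- derived functors from `K(A)` -/
theorem isGood_Qh (F : HomotopyCategory A (ComplexShape.up ℤ) ⥤ H)
    (hres : ∀ Z, ∃ (K : CochainComplex A ℤ) (q : K ⟶ Z), P K ∧ QuasiIso q)
    (hP : ∀ {K K' : CochainComplex A ℤ}, HomotopyEquiv K K' → P K → P K')
    (hinv : ∀ {K K' : CochainComplex A ℤ} (φ : K ⟶ K'), P K → P K' → QuasiIso φ →
      IsIso (F.map ((HomotopyCategory.quotient _ _).map φ))) :
    IsGood DerivedCategory.Qh F (HomotopyCategory.quasiIso A (ComplexShape.up ℤ)) (fun X => P X.as) := by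
  refine IsGood.of_fractions (fun Z => ?_) (fun X Y s hX hY hs => ?_)
  · obtain ⟨K, q, hK, hq⟩ := hres Z.as
    exact ⟨(HomotopyCategory.quotient _ _).obj K, (HomotopyCategory.quotient _ _).map q, hK,
      (HomotopyCategory.quotient_map_mem_quasiIso_iff _).2 ((HomologicalComplex.mem_quasiIso_iff _).2 hq)⟩
  · obtain ⟨φ, rfl⟩ := (HomotopyCategory.quotient A (ComplexShape.up ℤ)).map_surjective (X := X.as) (Y := Y.as) s
    exact hinv φ hX hY ((HomologicalComplex.mem_quasiIso_iff _).1
      ((HomotopyCategory.quotient_map_mem_quasiIso_iff φ).1 hs))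

/-- derived functors from complexes -/
theorem isGood_Q (G : CochainComplex A ℤ ⥤ H)
    (hhom : ∀ {K L : CochainComplex A ℤ} (a b : K ⟶ L), Homotopy a b → G.map a = G.map b)
    (hres : ∀ Z, ∃ (K : CochainComplex A ℤ) (q : K ⟶ Z), P K ∧ QuasiIso q)
    (hP : ∀ {K K' : CochainComplex A ℤ}, HomotopyEquiv K K' → P K → P K')
    (hinv : ∀ {K K' : CochainComplex A ℤ} (φ : K ⟶ K'), P K → P K' → QuasiIso φ → IsIso (G.map φ)) :
    IsGood DerivedCategory.Q G (HomologicalComplex.quasiIso A (ComplexShape.up ℤ)) P := by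
  let G' : HomotopyCategory A (ComplexShape.up ℤ) ⥤ H :=
    CategoryTheory.Quotient.lift _ G fun _ _ a b ⟨h⟩ => hhom a b h
  refine IsGood.precomp (HomotopyCategory.quotient A (ComplexShape.up ℤ)) (DerivedCategory.quotientCompQhIso A)
    (F := G') (CategoryTheory.Quotient.lift.isLift _ G fun _ _ a b ⟨h⟩ => hhom a b h) _ P
    (fun X Y s => (HomotopyCategory.quotient_map_mem_quasiIso_iff s).symm) (fun X => Iff.rfl) (fun Z => ?_)
    (isGood_Qh P G' hres hP fun φ h h' hq => hinv φ h h' hq)
  obtain ⟨K, q, hK, hq⟩ := hres Z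
  exact ⟨K, q, hK, (HomologicalComplex.mem_quasiIso_iff _).2 hq⟩

end general

section termwise

variable {B : Type u'} [Category.{v'} B] [Abelian B] [HasDerivedCategory.{w'} B] (F : A ⥤ B) [F.Additive]
  (P : CochainComplex A ℤ → Prop)

omit [HasDerivedCategory.{w} A] in
theorem acyclic_mappingCone_iff {K K' : CochainComplex A ℤ} (φ : K ⟶ K') :
    (CochainComplex.mappingCone φ).Acyclic ↔ QuasiIso φ := by
  have h := (HomotopyCategory.subcategoryAcyclic A).trW_iff_of_distinguished _
    (HomotopyCategory.mappingCone_triangleh_distinguished φ)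
  rw [← HomotopyCategory.quotient_obj_mem_subcategoryAcyclic_iff_acyclic,
    ← HomologicalComplex.mem_quasiIso_iff, ← HomotopyCategory.quotient_map_mem_quasiIso_iff,
    HomotopyCategory.quasiIso_eq_trW_subcategoryAcyclic]
  exact h.symm

/-- a termwise functor is left derivable at a class of complexes on which it preserves acyclicity -/
theorem isGood_mapKh
    (hres : ∀ Z, ∃ (K : CochainComplex A ℤ) (q : K ⟶ Z), P K ∧ QuasiIso q)
    (hP : ∀ {K K' : CochainComplex A ℤ}, HomotopyEquiv K K' → P K → P K')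
    (hcone : ∀ {K K' : CochainComplex A ℤ} (φ : K ⟶ K'), P K → P K' → P (CochainComplex.mappingCone φ))
    (hF : ∀ K, P K → Acyc K → Acyc ((F.mapHomologicalComplex (ComplexShape.up ℤ)).obj K)) :
    IsGood DerivedCategory.Qh (F.mapHomotopyCategory (ComplexShape.up ℤ) ⋙ DerivedCategory.Qh)
      (HomotopyCategory.quasiIso A (ComplexShape.up ℤ)) (fun X => P X.as) := by
  refine isGood_Qh P _ hres hP fun {K K'} φ h h' hq => ?_
  haveI : QuasiIso ((F.mapHomologicalComplex (ComplexShape.up ℤ)).map φ) := by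
    rw [← acyclic_mappingCone_iff, ← acyc_iff]
    exact acyc_of_iso (CochainComplex.mappingCone.mapHomologicalComplexIso φ F)
      (hF _ (hcone φ h h') ((acyc_iff _).2 ((acyclic_mappingCone_iff φ).2 hq)))
  have hW : HomotopyCategory.quasiIso B (ComplexShape.up ℤ)
      ((HomotopyCategory.quotient B (ComplexShape.up ℤ)).map ((F.mapHomologicalComplex (ComplexShape.up ℤ)).map φ)) :=
    (HomotopyCategory.quotient_map_mem_quasiIso_iff _).2 ((HomologicalComplex.mem_quasiIso_iff _).2 inferInstance)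
  exact Localization.inverts DerivedCategory.Qh (HomotopyCategory.quasiIso B (ComplexShape.up ℤ)) _ hW

end termwise

section bifunctor

variable (T : A ⥤ A ⥤ A) [T.Additive] [∀ X, (T.obj X).Additive] [IsGrothendieckAbelian.{v} A]
  [∀ X, PreservesColimitsOfSize.{v, v} (T.obj X)] [∀ X, PreservesColimitsOfSize.{v, v} (T.flip.obj X)]
  [∀ K L : CochainComplex A ℤ, HomologicalComplex.HasMapBifunctor K L T (ComplexShape.up ℤ)]

/-- `- ⊗ E` is left derivable at complexes K-flat for the flipped product -/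
theorem isGood_tensor (hflat : ∀ B : A, ∃ (Q : A) (π : Q ⟶ B), Epi π ∧ TFlat T.flip Q)
    (hres : ∀ L, ∃ (L' : CochainComplex A ℤ) (q : L' ⟶ L), IsKFlat T L' ∧ QuasiIso q)
    (E : CochainComplex A ℤ) :
    IsGood DerivedCategory.Q (T.map₂CochainComplex.flip.obj E ⋙ DerivedCategory.Q)
      (HomologicalComplex.quasiIso A (ComplexShape.up ℤ)) (IsKFlat T.flip) := by
  haveI : ∀ X, PreservesColimitsOfSize.{v, v} (T.flip.flip.obj X) := fun X =>
    (inferInstance : PreservesColimitsOfSize.{v, v} (T.obj X))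
  refine isGood_Q _ _ (fun {K L} a b h => ?_) (fun Z => ?_)
    (fun {K K'} e h => IsKFlat.of_homotopyEquiv T.flip e h) (fun {K K'} φ h h' hq => ?_)
  · have h₁ := HomologicalComplex.mapBifunctorMapHomotopy₁ h (𝟙 E) T (ComplexShape.up ℤ)
    exact DerivedCategory.Q_map_eq_of_homotopy A h₁
  · obtain ⟨K, q, hK, -, hq, -⟩ := exists_resolution T.flip hflat Z
    exact ⟨K, q, hK, hq⟩
  · haveI := hq
    haveI : QuasiIso ((Φ T.flip E).map φ) := quasiIso_right T.flip φ h h' E (hres E)
    have e : (Φ T.flip E).map φ ≫ (ΦFlip T E K').hom =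
        (ΦFlip T E K).hom ≫ HomologicalComplex.mapBifunctorMap φ (𝟙 E) T (ComplexShape.up ℤ) :=
      HomologicalComplex.mapBifunctorFlipIso_hom_naturality φ (𝟙 E) T (ComplexShape.up ℤ)
    haveI : QuasiIso ((T.map₂CochainComplex.flip.obj E).map φ) :=
      (quasiIso_iff_comp_left (ΦFlip T E K).hom _).1
        (e ▸ (inferInstance : QuasiIso ((Φ T.flip E).map φ ≫ (ΦFlip T E K').hom)))
    exact inferInstanceAs (IsIso (DerivedCategory.Q.map ((T.map₂CochainComplex.flip.obj E).map φ)))

end bifunctor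

end Groth.Agent.KFlatLib
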