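import Groth.Agent.KInjRes.Stable

/-!
Homology of cochain complexes commutes with colimits of shapes with exact colimits.
-/

universe v u

open CategoryTheory Limits HomologicalComplex

namespace Groth.Agent.KFlatLib

variable {A : Type u} [Category.{v} A] [Abelian A] {J : Type*} [Category J] [HasColimitsOfShape J A]
  [HasExactColimitsOfShape J A]

theorem preservesColimitsOfShape_homologyFunctor (i : ℤ) :
    PreservesColimitsOfShape J (homologyFunctor A (ComplexShape.up ℤ) i) := by
  suffices PreservesColimitsOfShape J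
      (shortComplexFunctor' A (ComplexShape.up ℤ) (i - 1) i (i + 1) ⋙ ShortComplex.homologyFunctor A) from
    preservesColimitsOfShape_of_natIso
      (homologyFunctorIso' A (ComplexShape.up ℤ) (i - 1) i (i + 1) (by simp) (by simp)).symm
  refine ⟨fun {D} => ⟨fun {c} hc => ?_⟩⟩
  let S := KInjRes.diagSC D i
  let e := fun n => (colimit.isColimit (D ⋙ eval A (ComplexShape.up ℤ) n)).coconePointUniqueUpToIso
    (isColimitOfPreserves (eval A (ComplexShape.up ℤ) n) hc)
  have he : ∀ n j, colimit.ι (D ⋙ eval A (ComplexShape.up ℤ) n) j ≫ (e n).hom = (c.ι.app j).f n :=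
    fun n j => (colimit.isColimit _).comp_coconePointUniqueUpToIso_hom
      (isColimitOfPreserves (eval A (ComplexShape.up ℤ) n) hc) j
  let E : S.map (colim : (J ⥤ A) ⥤ A) ≅ c.pt.sc' (i - 1) i (i + 1) :=
    ShortComplex.isoMk (e _) (e _) (e _)
      (colimit.hom_ext fun j => by
        show colimit.ι (D ⋙ eval A (ComplexShape.up ℤ) (i - 1)) j ≫ (e (i - 1)).hom ≫ c.pt.d (i - 1) i =
          colimit.ι (D ⋙ eval A (ComplexShape.up ℤ) (i - 1)) j ≫ colim.map (KInjRes.diagSC D i).f ≫ (e i).hom
        erw [reassoc_of% he, ι_colimMap_assoc, (c.ι.app j).comm]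
        exact congrArg (_ ≫ ·) (he _ j).symm)
      (colimit.hom_ext fun j => by
        show colimit.ι (D ⋙ eval A (ComplexShape.up ℤ) i) j ≫ (e i).hom ≫ c.pt.d i (i + 1) =
          colimit.ι (D ⋙ eval A (ComplexShape.up ℤ) i) j ≫ colim.map (KInjRes.diagSC D i).g ≫ (e (i + 1)).hom
        erw [reassoc_of% he, ι_colimMap_assoc, (c.ι.app j).comm]
        exact congrArg (_ ≫ ·) (he _ j).symm)
  let τ : ∀ j, (evaluation J A).obj j ⟶ colim := fun j =>
    { app := fun F => colimit.ι F j, naturality := fun F G α => (ι_colimMap α j).symm }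
  let sc := shortComplexFunctor' A (ComplexShape.up ℤ) (i - 1) i (i + 1)
  let a : ∀ j, S.homology.obj j ≅ (sc.obj (D.obj j)).homology := fun j =>
    (S.mapHomologyIso ((evaluation J A).obj j)).symm
  let b : colimit S.homology ≅ (sc.obj c.pt).homology :=
    (S.mapHomologyIso (colim : (J ⥤ A) ⥤ A)).symm ≪≫ ShortComplex.homologyMapIso E
  have hab : ∀ j, colimit.ι S.homology j ≫ b.hom =
      (a j).hom ≫ ShortComplex.homologyMap (sc.map (c.ι.app j)) := fun j => by
    have h1 : (τ j).app S.homology = (S.mapHomologyIso ((evaluation J A).obj j)).inv ≫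
        ShortComplex.homologyMap (S.mapNatTrans (τ j)) ≫ (S.mapHomologyIso (colim : (J ⥤ A) ⥤ A)).hom :=
      NatTrans.app_homology (τ j) S
    have h3 : S.mapNatTrans (τ j) ≫ E.hom = sc.map (c.ι.app j) := by
      ext <;> exact he _ j
    show (τ j).app S.homology ≫ b.hom = _
    rw [h1]
    simp only [a, b, Iso.trans_hom, Iso.symm_hom, Category.assoc, Iso.hom_inv_id_assoc,
      ShortComplex.homologyMapIso_hom]
    refine congrArg (_ ≫ ·) ?_
    rw [← ShortComplex.homologyMap_comp, h3]
    rfl
  have hnat : ∀ {j k : J} (g : j ⟶ k),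
      S.homology.map g ≫ (a k).hom = (a j).hom ≫ ShortComplex.homologyMap (sc.map (D.map g)) := by
    intro j k g
    let σ : (evaluation J A).obj j ⟶ (evaluation J A).obj k := (evaluation J A).map g
    have h1 : σ.app S.homology = (S.mapHomologyIso ((evaluation J A).obj j)).inv ≫
        ShortComplex.homologyMap (S.mapNatTrans σ) ≫ (S.mapHomologyIso ((evaluation J A).obj k)).hom :=
      NatTrans.app_homology σ S
    show σ.app S.homology ≫ (a k).hom = _
    rw [h1]
    simp only [a, Iso.symm_hom, Category.assoc]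
    have h4 : S.mapNatTrans σ = sc.map (D.map g) := rfl
    refine congrArg (_ ≫ ·) ?_
    erw [Iso.hom_inv_id, Category.comp_id, h4]
    rfl
  refine ⟨(IsColimit.precomposeHomEquiv
    (NatIso.ofComponents a hnat : S.homology ≅ D ⋙ sc ⋙ ShortComplex.homologyFunctor A) _).1
    (IsColimit.ofIsoColimit (colimit.isColimit S.homology) (Cocone.ext b fun j => ?_))⟩
  exact hab j

end Groth.Agent.KFlatLib
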