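import Groth.Agent.KFlatLib.Basic
import Groth.Agent.KFlatLib.HomologyColim

/-!
Complexes concentrated in one degree, colimits and bounded above complexes of flat objects.
-/

universe v u

open CategoryTheory Limits HomologicalComplex

namespace Groth.Agent.KFlatLib

variable {A : Type u} [Category.{v} A] [Abelian A]
  (T : A ⥤ A ⥤ A) [T.Additive] [∀ X, (T.obj X).Additive]
  [∀ K L : CochainComplex A ℤ, HomologicalComplex.HasMapBifunctor K L T (ComplexShape.up ℤ)]

instance additive_flip (X : A) : (T.flip.obj X).Additive where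
  map_add {Y Z f g} := by
    show (T.map (f + g)).app X = (T.map f).app X + (T.map g).app X
    simp

theorem TFlat.of_iso {X Y : A} (e : X ≅ Y) (h : TFlat T X) : TFlat T Y :=
  ⟨haveI := h.1; Functor.preservesMonomorphisms.of_iso (T.mapIso e),
    haveI := h.2; Functor.preservesMonomorphisms.of_iso (T.flip.mapIso e)⟩

theorem TFlat.of_isZero {X : A} (h : IsZero X) : TFlat T X :=
  ⟨⟨fun {Y Z} f _ => ⟨fun g g' _ => (Functor.map_isZero (T.flip.obj Y) h).eq_of_tgt g g'⟩⟩,
    ⟨fun {Y Z} f _ => ⟨fun g g' _ => (Functor.map_isZero (T.obj Y) h).eq_of_tgt g g'⟩⟩⟩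

theorem TFlat.biprod {X Y : A} (hX : TFlat T X) (hY : TFlat T Y) : TFlat T (X ⊞ Y) := by
  refine ⟨⟨fun {U V} f _ => Preadditive.mono_of_cancel_zero _ fun {B} g hg => ?_⟩,
    ⟨fun {U V} f _ => Preadditive.mono_of_cancel_zero _ fun {B} g hg => ?_⟩⟩
  · haveI := hX.1
    haveI := hY.1
    have h1 : g ≫ (T.map (biprod.fst : X ⊞ Y ⟶ X)).app U = 0 := by
      rw [← cancel_mono ((T.obj X).map f), zero_comp, Category.assoc, ← NatTrans.naturality, reassoc_of% hg, zero_comp]
    have h2 : g ≫ (T.map (biprod.snd : X ⊞ Y ⟶ Y)).app U = 0 := by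
      rw [← cancel_mono ((T.obj Y).map f), zero_comp, Category.assoc, ← NatTrans.naturality, reassoc_of% hg, zero_comp]
    have e : (T.map (biprod.fst : X ⊞ Y ⟶ X) ≫ T.map biprod.inl + T.map (biprod.snd : X ⊞ Y ⟶ Y) ≫ T.map biprod.inr).app U =
        𝟙 _ := by
      rw [← Functor.map_comp, ← Functor.map_comp, ← Functor.map_add, biprod.total, CategoryTheory.Functor.map_id]
      rfl
    rw [← Category.comp_id g, ← e]
    simp [reassoc_of% h1, reassoc_of% h2]
  · haveI := hX.2
    haveI := hY.2
    change g ≫ (T.map f).app (X ⊞ Y) = 0 at hg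
    have h1 : g ≫ (T.obj U).map (biprod.fst : X ⊞ Y ⟶ X) = 0 := by
      rw [← cancel_mono ((T.flip.obj X).map f), zero_comp, Category.assoc]
      show g ≫ (T.obj U).map (biprod.fst : X ⊞ Y ⟶ X) ≫ (T.map f).app X = 0
      rw [(T.map f).naturality, reassoc_of% hg, zero_comp]
    have h2 : g ≫ (T.obj U).map (biprod.snd : X ⊞ Y ⟶ Y) = 0 := by
      rw [← cancel_mono ((T.flip.obj Y).map f), zero_comp, Category.assoc]
      show g ≫ (T.obj U).map (biprod.snd : X ⊞ Y ⟶ Y) ≫ (T.map f).app Y = 0
      rw [(T.map f).naturality, reassoc_of% hg, zero_comp]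
    have e : (T.obj U).map (biprod.fst : X ⊞ Y ⟶ X) ≫ (T.obj U).map biprod.inl +
        (T.obj U).map (biprod.snd : X ⊞ Y ⟶ Y) ≫ (T.obj U).map biprod.inr = 𝟙 ((T.obj U).obj (X ⊞ Y)) := by
      rw [← Functor.map_comp, ← Functor.map_comp, ← Functor.map_add, biprod.total, CategoryTheory.Functor.map_id]
    show g = 0
    refine (Category.comp_id g).symm.trans ((congrArg (g ≫ ·) e.symm).trans ?_)
    simp [reassoc_of% h1, reassoc_of% h2]

section single

variable [IsGrothendieckAbelian.{v} A] [∀ X, PreservesColimitsOfSize.{v, v} (T.flip.obj X)]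

theorem exact_flip_map {S : ShortComplex A} (hS : S.Exact) (X : A) (hX : (T.flip.obj X).PreservesMonomorphisms) :
    (S.map (T.flip.obj X)).Exact := by
  haveI : PreservesFiniteColimits (T.flip.obj X) := PreservesColimitsOfSize.preservesFiniteColimits.{v, v} _
  haveI := ModTensor.exact_of_preservesMonos (T.flip.obj X)
  haveI : (T.flip.obj X).PreservesHomology := Functor.preservesHomologyOfExact _
  exact hS.map _

/-- a complex concentrated in one degree with flat term is K-flat -/
theorem isKFlat_of_single {M : CochainComplex A ℤ} (q : ℤ) (hM : ∀ i, i ≠ q → IsZero (M.X i))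
    (hq : (T.flip.obj (M.X q)).PreservesMonomorphisms) : IsKFlat T M := by
  intro L hL n
  have hz : ∀ p i, i ≠ q → IsZero ((T.obj (L.X p)).obj (M.X i)) := fun p i h => Functor.map_isZero _ (hM i h)
  have hiso : ∀ p m (h : p + q = m), IsIso (ιT T L M p q m h) := fun p m h => by
    refine ⟨HomologicalComplex.mapBifunctorDesc (K₁ := L) (K₂ := M) (F := T) (fun p' i e =>
      if hi : i = q then eqToHom (by subst hi; rw [show p' = p by change p' + i = m at e; omega]) else 0), ?_, ?_⟩
    · exact (HomologicalComplex.ι_mapBifunctorDesc _ p q h).trans (by simp)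
    · refine ιT_hom_ext T fun p' i e => ?_
      rw [← Category.assoc]
      refine (congrArg (· ≫ _) (HomologicalComplex.ι_mapBifunctorDesc _ p' i e)).trans ?_
      by_cases hi : i = q
      · subst hi
        obtain rfl : p' = p := by omega
        simp
      · exact (hz p' i hi).eq_of_src _ _
  have a₁ : n - q - 1 + q = n - 1 := by omega
  have a₂ : n - q + q = n := by omega
  have a₃ : n - q + 1 + q = n + 1 := by omega
  haveI := hiso (n - q - 1) (n - 1) a₁
  haveI := hiso (n - q) n a₂
  haveI := hiso (n - q + 1) (n + 1) a₃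
  have hd : ∀ p p' m m' (h : p + q = m) (h' : p' + q = m') (_ : p + 1 = p'),
      ιT T L M p q m h ≫ ((Φ T L).obj M).d m m' = (T.flip.obj (M.X q)).map (L.d p p') ≫ ιT T L M p' q m' h' := by
    intro p p' m m' h h' hp
    subst hp
    show _ ≫ (HomologicalComplex.mapBifunctor L M T (ComplexShape.up ℤ)).d m m' = _
    rw [HomologicalComplex.mapBifunctor.d_eq, Preadditive.comp_add]
    erw [HomologicalComplex.mapBifunctor.ι_D₁, HomologicalComplex.mapBifunctor.ι_D₂]
    rw [HomologicalComplex.mapBifunctor.d₁_eq _ _ _ _ (rfl : (ComplexShape.up ℤ).Rel p (p + 1)) q m' h',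
      HomologicalComplex.mapBifunctor.d₂_eq' _ _ _ _ p (rfl : (ComplexShape.up ℤ).Rel q (q + 1)),
      (hM (q + 1) (by omega)).eq_of_tgt (M.d q (q + 1)) 0, Functor.map_zero, zero_comp, smul_zero, add_zero,
      show ComplexShape.ε₁ (ComplexShape.up ℤ) (ComplexShape.up ℤ) (ComplexShape.up ℤ) (p, q) = 1 from rfl, one_smul]
    rfl
  have key := exact_flip_map T ((exactAt_iff' L (n - q - 1) (n - q) (n - q + 1) (by simp) (by simp)).1
    ((exactAt_iff_isZero_homology L _).2 (hL _))) (M.X q) hq
  refine (exactAt_iff_isZero_homology _ n).1 ((exactAt_iff' _ (n - 1) n (n + 1) (by simp) (by simp)).2 ?_)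
  exact (ShortComplex.exact_iff_of_iso
    (ShortComplex.isoMk (@asIso _ _ _ _ _ (hiso (n - q - 1) (n - 1) a₁)) (@asIso _ _ _ _ _ (hiso (n - q) n a₂))
      (@asIso _ _ _ _ _ (hiso (n - q + 1) (n + 1) a₃))
      (hd _ _ _ _ a₁ a₂ (by omega)) (hd _ _ _ _ a₂ a₃ rfl))).1 key

end single

section colimits

variable {J : Type v} [SmallCategory J] [HasColimitsOfShape J A] [HasExactColimitsOfShape J A]

theorem TFlat.colimit [∀ X, PreservesColimitsOfShape J (T.obj X)] [∀ X, PreservesColimitsOfShape J (T.flip.obj X)]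
    {D : J ⥤ A} {c : Cocone D} (hc : IsColimit c) (h : ∀ j, TFlat T (D.obj j)) : TFlat T c.pt := by
  refine ⟨⟨fun {U V} f _ => ?_⟩, ⟨fun {U V} f _ => ?_⟩⟩
  · refine MorphismProperty.IsStableUnderColimitsOfShape.condition (W := MorphismProperty.monomorphisms A)
      (D ⋙ T.flip.obj U) (D ⋙ T.flip.obj V) _ _ (isColimitOfPreserves (T.flip.obj U) hc)
      (isColimitOfPreserves (T.flip.obj V) hc) (Functor.whiskerLeft D (T.flip.map f))
      (fun j => haveI := (h j).1; (inferInstance : Mono ((T.obj (D.obj j)).map f))) _ (fun j => ?_)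
    exact (T.map (c.ι.app j)).naturality f |>.symm
  · refine MorphismProperty.IsStableUnderColimitsOfShape.condition (W := MorphismProperty.monomorphisms A)
      (D ⋙ T.obj U) (D ⋙ T.obj V) _ _ (isColimitOfPreserves (T.obj U) hc)
      (isColimitOfPreserves (T.obj V) hc) (Functor.whiskerLeft D (T.map f))
      (fun j => haveI := (h j).2; (inferInstance : Mono ((T.flip.obj (D.obj j)).map f))) _ (fun j => ?_)
    exact (T.map f).naturality (c.ι.app j)

theorem IsKFlat.colimit [∀ X, PreservesColimitsOfShape J (T.obj X)]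
    {D : J ⥤ CochainComplex A ℤ} {c : Cocone D} (hc : IsColimit c) (h : ∀ j, IsKFlat T (D.obj j)) :
    IsKFlat T c.pt := by
  intro L hL i
  haveI := preservesColimitsOfShape_Φ (J := J) T L
  haveI := preservesColimitsOfShape_homologyFunctor (A := A) (J := J) i
  have := isColimitOfPreserves (homologyFunctor A (ComplexShape.up ℤ) i) (isColimitOfPreserves (Φ T L) hc)
  rw [IsZero.iff_id_eq_zero]
  exact this.hom_ext fun j => (h j L hL i).eq_of_src _ _

end colimits

end Groth.Agent.KFlatLib
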