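import Groth.Agent.KFlatLib.LCompute
import Mathlib.CategoryTheory.Abelian.Refinements
import Mathlib.Algebra.Homology.DerivedCategory.SingleTriangle

/-!
Flatness of a module from vanishing of `Tor₁`.
-/

universe w v u v' u'

open CategoryTheory Limits HomologicalComplex

namespace Groth.Agent.KFlatLib

section abelian

variable {A : Type u} [Category.{v} A] [Abelian A] {B : Type u'} [Category.{v'} B] [Abelian B]

/-- the quotient of a universally injective map with flat middle term is flat -/
theorem mono_map_of_univ_mono (T : A ⥤ A ⥤ A) [T.Additive] [∀ X, (T.obj X).Additive]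
    [∀ X, PreservesFiniteColimits (T.obj X)] [∀ X, PreservesFiniteColimits (T.flip.obj X)]
    {S : ShortComplex A} (hS : S.ShortExact) (hι : ∀ G, Mono ((T.map S.f).app G))
    [(T.obj S.X₂).PreservesMonomorphisms] {G G' : A} (g : G ⟶ G') [Mono g] : Mono ((T.obj S.X₃).map g) := by
  have hrow : ∀ Z, (ShortComplex.mk ((T.map S.f).app Z) ((T.map S.g).app Z)
      (by rw [← NatTrans.comp_app, ← T.map_comp, S.zero, Functor.map_zero, zero_app])).Exact ∧
      Epi ((T.map S.g).app Z) := fun Z =>
    haveI := hS.epi_g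
    ⟨hS.exact.map_of_epi_of_preservesCokernel (T.flip.obj Z) inferInstance inferInstance,
      (inferInstance : Epi ((T.flip.obj Z).map S.g))⟩
  have hcol : (ShortComplex.mk ((T.obj S.X₁).map g) ((T.obj S.X₁).map (cokernel.π g))
      (by rw [← Functor.map_comp, cokernel.condition, Functor.map_zero])).Exact :=
    (ShortComplex.exact_cokernel g).map_of_epi_of_preservesCokernel (T.obj S.X₁)
      (inferInstance : Epi (cokernel.π g)) inferInstance
  refine Preadditive.mono_of_cancel_zero _ fun {Y} x hx => ?_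
  haveI := (hrow G).2
  obtain ⟨Y₁, π₁, _, y, hy⟩ := surjective_up_to_refinements_of_epi ((T.map S.g).app G) x
  have h1 : (y ≫ (T.obj S.X₂).map g) ≫ (T.map S.g).app G' = 0 := by
    rw [Category.assoc, (T.map S.g).naturality, ← reassoc_of% hy, hx, comp_zero]
  obtain ⟨Y₂, π₂, _, z, hz⟩ := (hrow G').1.exact_up_to_refinements _ h1
  change π₂ ≫ y ≫ (T.obj S.X₂).map g = z ≫ (T.map S.f).app G' at hz
  haveI := hι (cokernel g)
  have h2 : z ≫ (T.obj S.X₁).map (cokernel.π g) = 0 := by
    rw [← cancel_mono ((T.map S.f).app (cokernel g)), zero_comp, Category.assoc, (T.map S.f).naturality,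
      ← reassoc_of% hz, ← Functor.map_comp, cokernel.condition, Functor.map_zero, comp_zero, comp_zero]
  obtain ⟨Y₃, π₃, _, w, hw⟩ := hcol.exact_up_to_refinements z h2
  change π₃ ≫ z = w ≫ (T.obj S.X₁).map g at hw
  have h3 : π₃ ≫ π₂ ≫ y = w ≫ (T.map S.f).app G := by
    rw [← cancel_mono ((T.obj S.X₂).map g), Category.assoc, Category.assoc, Category.assoc, hz, reassoc_of% hw,
      ← (T.map S.f).naturality]
  rw [← cancel_epi π₁, comp_zero, hy, ← cancel_epi π₂, comp_zero, ← cancel_epi π₃, comp_zero,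
    reassoc_of% h3, ← NatTrans.comp_app, ← T.map_comp, S.zero, Functor.map_zero, zero_app, comp_zero]

theorem isIso_cycles_of_single (N : CochainComplex A ℤ) (hN : ∀ i, i ≠ 0 → IsZero (N.X i)) :
    IsIso (N.homologyπ 0) ∧ IsIso (N.iCycles 0) :=
  ⟨N.isIso_homologyπ (-1) 0 (by simp) ((hN (-1) (by omega)).eq_of_src _ _),
    N.isIso_iCycles 0 1 (by simp) ((hN 1 (by omega)).eq_of_tgt _ _)⟩

/-- a right exact functor keeps `H⁰` of a resolution surjective -/
theorem epi_homologyMap_map (F : A ⥤ B) [F.Additive] [PreservesFiniteColimits F] {P M : CochainComplex A ℤ}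
    (q : P ⟶ M) [QuasiIso q] (hM : ∀ i, i ≠ 0 → IsZero (M.X i)) :
    Epi (homologyMap ((F.mapHomologicalComplex (ComplexShape.up ℤ)).map q) 0) := by
  obtain ⟨_, _⟩ := isIso_cycles_of_single M hM
  let Q := (F.mapHomologicalComplex (ComplexShape.up ℤ)).map q
  obtain ⟨_, _⟩ := isIso_cycles_of_single ((F.mapHomologicalComplex (ComplexShape.up ℤ)).obj M)
    fun i hi => F.map_isZero (hM i hi)
  haveI : Epi (cyclesMap q 0) := by
    haveI : Epi (cyclesMap q 0 ≫ M.homologyπ 0) := by rw [← homologyπ_naturality]; infer_instance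
    have e : cyclesMap q 0 = (cyclesMap q 0 ≫ M.homologyπ 0) ≫ inv (M.homologyπ 0) := by simp
    rw [e]; infer_instance
  let l := ((F.mapHomologicalComplex (ComplexShape.up ℤ)).obj P).liftCycles (F.map (P.iCycles 0)) 1 (by simp)
    (by show F.map (P.iCycles 0) ≫ F.map (P.d 0 1) = 0
        rw [← F.map_comp, iCycles_d, F.map_zero])
  have e : l ≫ cyclesMap Q 0 ≫ ((F.mapHomologicalComplex (ComplexShape.up ℤ)).obj M).iCycles 0 =
      F.map (cyclesMap q 0 ≫ M.iCycles 0) := by
    rw [cyclesMap_i, cyclesMap_i, F.map_comp]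
    exact liftCycles_i_assoc _ _ _ _ _ _
  haveI : Epi (l ≫ cyclesMap Q 0 ≫ ((F.mapHomologicalComplex (ComplexShape.up ℤ)).obj M).iCycles 0) := by
    rw [e]
    exact F.map_epi (cyclesMap q 0 ≫ M.iCycles 0)
  haveI : Epi (cyclesMap Q 0 ≫ ((F.mapHomologicalComplex (ComplexShape.up ℤ)).obj M).iCycles 0) := epi_of_epi l _
  haveI : Epi (cyclesMap Q 0) := by
    have e' : cyclesMap Q 0 = (cyclesMap Q 0 ≫ ((F.mapHomologicalComplex (ComplexShape.up ℤ)).obj M).iCycles 0) ≫
        inv (((F.mapHomologicalComplex (ComplexShape.up ℤ)).obj M).iCycles 0) := by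
      rw [Category.assoc, IsIso.hom_inv_id, Category.comp_id]
    rw [e']; infer_instance
  haveI : Epi (((F.mapHomologicalComplex (ComplexShape.up ℤ)).obj P).homologyπ 0 ≫ homologyMap Q 0) := by
    rw [homologyπ_naturality]; infer_instance
  exact epi_of_epi (((F.mapHomologicalComplex (ComplexShape.up ℤ)).obj P).homologyπ 0) _

variable [HasDerivedCategory.{w} A]

theorem mono_homologyMap_zero {K L : CochainComplex A ℤ} (φ : K ⟶ L)
    (h : IsZero ((CochainComplex.mappingCone φ).homology (-1))) : Mono (homologyMap φ 0) := by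
  have h1 : Mono ((DerivedCategory.homologyFunctor A 0).map (DerivedCategory.Q.map φ)) :=
    (DerivedCategory.HomologySequence.mono_homologyMap_mor₁_iff _
      (DerivedCategory.mappingCone_triangle_distinguished φ) (-1) 0 (by simp)).2
      ((h.of_iso ((DerivedCategory.homologyFunctorFactors A (-1)).app _)).eq_of_src _ _)
  exact
    ((MorphismProperty.monomorphisms A).arrow_mk_iso_iff
      (Arrow.isoMk ((DerivedCategory.homologyFunctorFactors A 0).app K) ((DerivedCategory.homologyFunctorFactors A 0).app L)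
        ((DerivedCategory.homologyFunctorFactors A 0).hom.naturality φ).symm)).1 h1

end abelian

end Groth.Agent.KFlatLib
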