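import Mathlib.CategoryTheory.Functor.Derived.PointwiseLeftDerived
import Mathlib.CategoryTheory.Localization.CalculusOfFractions

/-!
Left derived functors computed by a class of objects ("good" objects, e.g. K-flat complexes) on which the
functor inverts weak equivalences, without any lifting property of morphisms out of good objects.
-/

universe v₁ v₂ v₃ u₁ u₂ u₃

open CategoryTheory Limits CategoryTheory.Functor

namespace Groth.Agent.KFlatLib

variable {C : Type u₁} [Category.{v₁} C] {D : Type u₂} [Category.{v₂} D] {H : Type u₃} [Category.{v₃} H]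

/-- `F` is computed on the objects satisfying `P` -/
structure IsGood (L : C ⥤ D) (F : C ⥤ H) (W : MorphismProperty C) (P : C → Prop) : Prop where
  res : ∀ Z : C, ∃ (Z' : C) (s : Z' ⟶ Z), P Z' ∧ W s
  inv : ∀ ⦃X Y : C⦄ (s : X ⟶ Y), P X → P Y → W s → IsIso (F.map s)
  rep : ∀ ⦃X Y : C⦄ (φ : L.obj X ⟶ L.obj Y), P X →
    ∃ (X' : C) (s : X' ⟶ X) (f : X' ⟶ Y), P X' ∧ W s ∧ L.map s ≫ φ = L.map f
  coh : ∀ ⦃X Y : C⦄ (φ : L.obj X ⟶ L.obj Y) (v : F.obj X ⟶ F.obj Y) ⦃X₁ X₂ : C⦄ (s₁ : X₁ ⟶ X) (f₁ : X₁ ⟶ Y)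
    (s₂ : X₂ ⟶ X) (f₂ : X₂ ⟶ Y), P X → P X₁ → P X₂ → W s₁ → W s₂ → L.map s₁ ≫ φ = L.map f₁ →
    L.map s₂ ≫ φ = L.map f₂ → F.map s₁ ≫ v = F.map f₁ → F.map s₂ ≫ v = F.map f₂

variable {L : C ⥤ D} {F : C ⥤ H} {W : MorphismProperty C} {P : C → Prop}

theorem IsGood.exists_val (hg : IsGood L F W P) {X : C} (hX : P X) {Y : C} (φ : L.obj X ⟶ L.obj Y) :
    ∃ v : F.obj X ⟶ F.obj Y, ∀ ⦃X' : C⦄ (s : X' ⟶ X) (f : X' ⟶ Y), P X' → W s → L.map s ≫ φ = L.map f →
      F.map s ≫ v = F.map f := by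
  obtain ⟨X', s, f, hX', hs, hφ⟩ := hg.rep φ hX
  haveI := hg.inv s hX' hX hs
  exact ⟨CategoryTheory.inv (F.map s) ≫ F.map f, fun X'' s' f' h h' h'' =>
    hg.coh φ _ s f s' f' hX hX' h hs h' hφ h'' (IsIso.hom_inv_id_assoc _ _)⟩

section

variable [W.ContainsIdentities]

theorem IsGood.val_map (hg : IsGood L F W P) {X : C} (hX : P X) {Y : C} (a : X ⟶ Y) (v : F.obj X ⟶ F.obj Y)
    (hv : ∀ ⦃X' : C⦄ (s : X' ⟶ X) (f : X' ⟶ Y), P X' → W s → L.map s ≫ L.map a = L.map f →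
      F.map s ≫ v = F.map f) : v = F.map a := by
  have h := hv (𝟙 X) a hX (W.id_mem X) (by rw [CategoryTheory.Functor.map_id, Category.id_comp])
  rwa [CategoryTheory.Functor.map_id, Category.id_comp] at h

end

variable [L.IsLocalization W]

/-- the value of `F` at a fraction out of a good object -/
noncomputable def IsGood.val (hg : IsGood L F W P) {X : C} (hX : P X) {Y : C} (φ : L.obj X ⟶ L.obj Y) :
    F.obj X ⟶ F.obj Y :=
  (hg.exists_val hX φ).choose

omit [L.IsLocalization W] in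
theorem IsGood.map_val (hg : IsGood L F W P) {X : C} (hX : P X) {Y : C} (φ : L.obj X ⟶ L.obj Y) ⦃X' : C⦄
    (s : X' ⟶ X) (f : X' ⟶ Y) (h : P X') (hs : W s) (hφ : L.map s ≫ φ = L.map f) :
    F.map s ≫ hg.val hX φ = F.map f :=
  (hg.exists_val hX φ).choose_spec s f h hs hφ

omit [L.IsLocalization W] in
theorem IsGood.val_one [W.ContainsIdentities] (hg : IsGood L F W P) {X : C} (hX : P X) :
    hg.val hX (𝟙 (L.obj X)) = 𝟙 (F.obj X) := by
  refine (hg.val_map hX (𝟙 X) _ fun X' s f h hs hφ => hg.map_val hX _ s f h hs ?_).trans (F.map_id X)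
  rw [← hφ, L.map_id]

/-- the limit cone at a good object -/
noncomputable def IsGood.cone (hg : IsGood L F W P) {X : C} (hX : P X) :
    Cone (StructuredArrow.proj (L.obj X) L ⋙ F) where
  pt := F.obj X
  π :=
    { app := fun j => hg.val hX j.hom
      naturality := fun i j g => by
        refine (Category.id_comp _).trans (Eq.symm ?_)
        show hg.val hX i.hom ≫ F.map g.right = hg.val hX j.hom
        obtain ⟨X', s, f, hX', hs, hφ⟩ := hg.rep i.hom hX
        haveI := hg.inv s hX' hX hs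
        have h₂ : L.map s ≫ j.hom = L.map (f ≫ g.right) := by
          rw [L.map_comp, ← StructuredArrow.w g, ← Category.assoc, hφ]
        rw [← cancel_epi (F.map s), hg.map_val hX j.hom s _ hX' hs h₂, ← Category.assoc,
          hg.map_val hX i.hom s f hX' hs hφ, ← F.map_comp] }

/-- it is a limit -/
noncomputable def IsGood.isLimitCone [W.ContainsIdentities] (hg : IsGood L F W P) {X : C} (hX : P X) :
    IsLimit (hg.cone hX) where
  lift t := t.π.app (StructuredArrow.mk (𝟙 (L.obj X)))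
  fac t j := by
    obtain ⟨X', s, f, hX', hs, hφ⟩ := hg.rep j.hom hX
    haveI : IsIso (L.map s) := Localization.inverts L W s hs
    let j₁ : StructuredArrow (L.obj X) L := StructuredArrow.mk (Y := X') (CategoryTheory.inv (L.map s))
    have h₀ := t.w (StructuredArrow.homMk s (by simp [j₁]) : j₁ ⟶ StructuredArrow.mk (𝟙 (L.obj X)))
    have h₁ := t.w (StructuredArrow.homMk f (by simp [j₁, ← hφ]) : j₁ ⟶ j)
    have h₂ : F.map s ≫ hg.val hX j.hom = F.map f := hg.map_val hX j.hom s f hX' hs hφ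
    refine (congrArg (· ≫ hg.val hX j.hom) h₀.symm).trans ((Category.assoc _ _ _).trans ?_)
    exact (congrArg (t.π.app j₁ ≫ ·) h₂).trans h₁
  uniq t m hm := by
    rw [← hm (StructuredArrow.mk (𝟙 (L.obj X)))]
    exact ((congrArg (m ≫ ·) (hg.val_one hX)).trans (Category.comp_id m)).symm

theorem IsGood.hasPointwiseAt [W.ContainsIdentities] (hg : IsGood L F W P) {X : C} (hX : P X) :
    HasPointwiseRightKanExtensionAt L F (L.obj X) :=
  ⟨⟨hg.cone hX, hg.isLimitCone hX⟩⟩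

theorem IsGood.hasPointwiseLeftDerived [W.ContainsIdentities] (hg : IsGood L F W P) :
    F.HasPointwiseLeftDerivedFunctor W := by
  intro X
  rw [F.hasPointwiseLeftDerivedFunctorAt_iff L W]
  obtain ⟨X', s, hX', hs⟩ := hg.res X
  haveI : IsIso (L.map s) := Localization.inverts L W s hs
  rw [← hasPointwiseRightKanExtensionAt_iff_of_iso L F (asIso (L.map s))]
  exact hg.hasPointwiseAt hX'

theorem IsGood.hasLeftDerivedFunctor [W.ContainsIdentities] (hg : IsGood L F W P) : F.HasLeftDerivedFunctor W :=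
  haveI := hg.hasPointwiseLeftDerived
  Functor.hasLeftDerivedFunctor_of_hasPointwiseLeftDerivedFunctor _ _

theorem IsGood.isIso_app [W.ContainsIdentities] (hg : IsGood L F W P) (LF : D ⥤ H) (α : L ⋙ LF ⟶ F)
    [LF.IsLeftDerivedFunctor α W] {X : C} (hX : P X) : IsIso (α.app X) := by
  haveI := hg.hasPointwiseLeftDerived
  have hE : (RightExtension.mk LF α).IsPointwiseRightKanExtensionAt (L.obj X) :=
    Functor.isPointwiseRightKanExtensionOfHasPointwiseLeftDerivedFunctor LF (α := α) W (L.obj X)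
  have h := IsLimit.conePointUniqueUpToIso_hom_comp hE (hg.isLimitCone hX) (StructuredArrow.mk (𝟙 (L.obj X)))
  have h₁ : (IsLimit.conePointUniqueUpToIso hE (hg.isLimitCone hX)).hom = α.app X := by
    refine ((Category.comp_id _).symm.trans ((congrArg (_ ≫ ·) (hg.val_one hX).symm).trans h)).trans ?_
    show LF.map (𝟙 (L.obj X)) ≫ α.app X = α.app X
    rw [CategoryTheory.Functor.map_id]; exact Category.id_comp _
  rw [← h₁]
  exact (IsLimit.conePointUniqueUpToIso hE (hg.isLimitCone hX)).isIso_hom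

theorem IsGood.isLeftDerived [W.ContainsIdentities] (hg : IsGood L F W P) (LF : D ⥤ H) (α : L ⋙ LF ⟶ F)
    (hα : ∀ X, P X → IsIso (α.app X)) : LF.IsLeftDerivedFunctor α W := by
  have hE : (RightExtension.mk LF α).IsPointwiseRightKanExtension := fun Y => Nonempty.some (by
    have hY := Localization.essSurj L W
    obtain ⟨X, s, hX, hs⟩ := hg.res (L.objPreimage Y)
    haveI : IsIso (L.map s) := Localization.inverts L W s hs
    refine Nonempty.map ((RightExtension.mk LF α).isPointwiseRightKanExtensionAtEquivOfIso'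
      (asIso (L.map s) ≪≫ L.objObjPreimageIso Y)) ?_
    haveI := hα X hX
    refine ⟨IsLimit.ofIsoLimit (hg.isLimitCone hX) (Cone.ext (asIso (α.app X)).symm fun j => ?_)⟩
    obtain ⟨X', t, f, hX', ht, hφ⟩ := hg.rep j.hom hX
    haveI : IsIso (F.map t) := hg.inv t hX' hX ht
    show hg.val hX j.hom = CategoryTheory.inv (α.app X) ≫ LF.map j.hom ≫ α.app j.right
    rw [IsIso.eq_inv_comp]
    haveI : IsIso (L.map t) := Localization.inverts L W t ht
    rw [← cancel_epi (LF.map (L.map t)), ← Category.assoc, ← Category.assoc (LF.map (L.map t)),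
      ← LF.map_comp, hφ]
    have n₁ : LF.map (L.map t) ≫ α.app X = α.app X' ≫ F.map t := α.naturality t
    have n₂ : LF.map (L.map f) ≫ α.app j.right = α.app X' ≫ F.map f := α.naturality f
    rw [n₁, n₂, Category.assoc, hg.map_val hX j.hom t f hX' ht hφ])
  exact ⟨hE.isRightKanExtension⟩

/-- good systems from a right calculus of fractions -/
theorem IsGood.of_fractions [W.HasRightCalculusOfFractions]
    (res : ∀ Z : C, ∃ (Z' : C) (s : Z' ⟶ Z), P Z' ∧ W s)
    (inv : ∀ ⦃X Y : C⦄ (s : X ⟶ Y), P X → P Y → W s → IsIso (F.map s)) : IsGood L F W P where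
  res := res
  inv := inv
  rep X Y φ _ := by
    obtain ⟨z, hz⟩ := Localization.exists_rightFraction L W φ
    obtain ⟨X', u, hX', hu⟩ := res z.X'
    refine ⟨X', u ≫ z.s, u ≫ z.f, hX', W.comp_mem _ _ hu z.hs, ?_⟩
    rw [hz, L.map_comp, L.map_comp, Category.assoc]
    exact congrArg (L.map u ≫ ·) (z.map_s_comp_map L (Localization.inverts L W))
  coh X Y φ v X₁ X₂ s₁ f₁ s₂ f₂ hX h₁ h₂ hs₁ hs₂ hφ₁ hφ₂ hv := by
    let z₁ : W.RightFraction X Y := MorphismProperty.RightFraction.mk s₁ hs₁ f₁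
    let z₂ : W.RightFraction X Y := MorphismProperty.RightFraction.mk s₂ hs₂ f₂
    have e₁ : z₁.map L (Localization.inverts L W) = φ := by
      haveI : IsIso (L.map s₁) := Localization.inverts L W s₁ hs₁
      rw [← cancel_epi (L.map s₁), hφ₁]
      exact z₁.map_s_comp_map L _
    have e₂ : z₂.map L (Localization.inverts L W) = φ := by
      haveI : IsIso (L.map s₂) := Localization.inverts L W s₂ hs₂
      rw [← cancel_epi (L.map s₂), hφ₂]
      exact z₂.map_s_comp_map L _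
    obtain ⟨Z, t₁, t₂, hst, hft, ht⟩ := (MorphismProperty.RightFraction.map_eq_iff (L := L) (W := W) z₁ z₂).1 (e₁.trans e₂.symm)
    obtain ⟨X₃, u, h₃, hu⟩ := res Z
    change t₁ ≫ s₁ = t₂ ≫ s₂ at hst
    change t₁ ≫ f₁ = t₂ ≫ f₂ at hft
    haveI : IsIso (F.map (u ≫ t₁ ≫ s₁)) := inv _ h₃ hX (W.comp_mem _ _ hu ht)
    haveI := inv s₂ h₂ hX hs₂
    have hw : F.map (u ≫ t₁ ≫ s₁) ≫ v = F.map (u ≫ t₁ ≫ f₁) := by
      simp only [F.map_comp, Category.assoc, hv]
    have hw₂ : F.map (u ≫ t₁ ≫ s₁) ≫ CategoryTheory.inv (F.map s₂) ≫ F.map f₂ = F.map (u ≫ t₁ ≫ f₁) := by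
      rw [hst, hft]
      simp only [F.map_comp, Category.assoc, IsIso.hom_inv_id_assoc]
    have hve : v = CategoryTheory.inv (F.map s₂) ≫ F.map f₂ :=
      (cancel_epi (F.map (u ≫ t₁ ≫ s₁))).1 (hw.trans hw₂.symm)
    rw [hve, IsIso.hom_inv_id_assoc]

omit [L.IsLocalization W] in
/-- transfer along a full functor `q` -/
theorem IsGood.precomp {C' : Type*} [Category C'] (q : C' ⥤ C) [q.Full] {L' : C' ⥤ D} (eL : q ⋙ L ≅ L')
    {F' : C' ⥤ H} (eF : q ⋙ F ≅ F') (W' : MorphismProperty C') (P' : C' → Prop)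
    (hW : ∀ ⦃X Y : C'⦄ (s : X ⟶ Y), W' s ↔ W (q.map s)) (hP : ∀ X, P' X ↔ P (q.obj X))
    (hres : ∀ Z : C', ∃ (Z' : C') (s : Z' ⟶ Z), P' Z' ∧ W' s)
    [q.EssSurj] [W.IsMultiplicative] [W.RespectsIso]
    (hg : IsGood L F W P) : IsGood L' F' W' P' where
  res := hres
  inv X Y s hX hY hs := by
    haveI := hg.inv (q.map s) ((hP X).1 hX) ((hP Y).1 hY) ((hW s).1 hs)
    exact (NatIso.isIso_map_iff eF s).1 (inferInstance : IsIso (F.map (q.map s)))
  rep X Y φ hX := by
    obtain ⟨Z, s, f, hZ, hs, hφ⟩ := hg.rep (eL.hom.app X ≫ φ ≫ eL.inv.app Y) ((hP X).1 hX)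
    let e := q.objObjPreimageIso Z
    obtain ⟨X', u, hX', hu⟩ := hres (q.objPreimage Z)
    obtain ⟨s', hs'⟩ := q.map_surjective (e.hom ≫ s)
    obtain ⟨f', hf'⟩ := q.map_surjective (e.hom ≫ f)
    refine ⟨X', u ≫ s', u ≫ f', hX', ?_, ?_⟩
    · rw [hW, q.map_comp, hs']
      exact W.comp_mem _ _ ((hW u).1 hu) ((MorphismProperty.cancel_left_of_respectsIso W e.hom s).2 hs)
    · have h : (q ⋙ L).map (u ≫ s') ≫ eL.hom.app X ≫ φ ≫ eL.inv.app Y = (q ⋙ L).map (u ≫ f') := by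
        simp only [Functor.comp_map, q.map_comp, L.map_comp, hs', hf', Category.assoc]
        exact congrArg (L.map (q.map u) ≫ L.map e.hom ≫ ·) hφ
      rw [← Category.assoc, eL.hom.naturality, Category.assoc] at h
      rw [← cancel_mono (eL.inv.app Y), ← cancel_epi (eL.hom.app X')]
      simp only [Category.assoc]
      rw [h, ← eL.hom.naturality_assoc, Iso.hom_inv_id_app, Category.comp_id]
  coh X Y φ v X₁ X₂ s₁ f₁ s₂ f₂ hX h₁ h₂ hs₁ hs₂ hφ₁ hφ₂ hv := by
    have key : ∀ {X' : C'} (s : X' ⟶ X) (f : X' ⟶ Y), L'.map s ≫ φ = L'.map f →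
        L.map (q.map s) ≫ eL.hom.app X ≫ φ ≫ eL.inv.app Y = L.map (q.map f) := fun s f h => by
      show (q ⋙ L).map s ≫ _ = (q ⋙ L).map f
      rw [eL.hom.naturality_assoc, reassoc_of% h, eL.inv.naturality, Iso.hom_inv_id_app_assoc]
    have hv₁ : F.map (q.map s₁) ≫ eF.hom.app X ≫ v ≫ eF.inv.app Y = F.map (q.map f₁) := by
      show (q ⋙ F).map s₁ ≫ _ = (q ⋙ F).map f₁
      rw [eF.hom.naturality_assoc, reassoc_of% hv, eF.inv.naturality, Iso.hom_inv_id_app_assoc]
    have h := hg.coh (eL.hom.app X ≫ φ ≫ eL.inv.app Y) (eF.hom.app X ≫ v ≫ eF.inv.app Y) (q.map s₁) (q.map f₁)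
      (q.map s₂) (q.map f₂) ((hP X).1 hX) ((hP X₁).1 h₁) ((hP X₂).1 h₂) ((hW s₁).1 hs₁) ((hW s₂).1 hs₂)
      (key s₁ f₁ hφ₁) (key s₂ f₂ hφ₂) hv₁
    change (q ⋙ F).map s₂ ≫ _ = (q ⋙ F).map f₂ at h
    rw [eF.hom.naturality_assoc] at h
    rw [← cancel_mono (eF.inv.app Y), ← cancel_epi (eF.hom.app X₂)]
    simp only [Category.assoc]
    rw [h, ← eF.hom.naturality_assoc, Iso.hom_inv_id_app, Category.comp_id]

end Groth.Agent.KFlatLib
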