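import Groth.Agent.KFlatLib.LDerived

/-!
Values of the left derived functors at K-flat complexes.
-/

universe u

open CategoryTheory Limits AlgebraicGeometry HomologicalComplex MonoidalCategory

attribute [local instance] HasDerivedCategory.standard

namespace Groth.Agent.KFlatLib

section scheme

variable {X Y : Scheme.{u}}

theorem nonempty_lpullIso (f : X ⟶ Y) [_root_.DCoh.HasLpull f] (P : CochainComplex Y.Modules ℤ)
    (hP : _root_.DCoh.IsKFlat P) :
    Nonempty ((_root_.DCoh.Lpull f).obj (DerivedCategory.Q.obj P) ≅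
      DerivedCategory.Q.obj (((Scheme.Modules.pullback f).mapHomologicalComplex (ComplexShape.up ℤ)).obj P)) := by
  haveI := (isGood_pullKh f).isIso_app (_root_.DCoh.Lpull f)
    ((_root_.DCoh.pullKh f).totalLeftDerivedCounit DerivedCategory.Qh
      (HomotopyCategory.quasiIso Y.Modules (ComplexShape.up ℤ)))
    (X := (HomotopyCategory.quotient _ _).obj P) ((dcoh_isKFlat_iff P).1 hP)
  exact ⟨(_root_.DCoh.Lpull f).mapIso ((DerivedCategory.quotientCompQhIso Y.Modules).symm.app P) ≪≫
    asIso (((_root_.DCoh.pullKh f).totalLeftDerivedCounit DerivedCategory.Qh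
      (HomotopyCategory.quasiIso Y.Modules (ComplexShape.up ℤ))).app ((HomotopyCategory.quotient _ _).obj P)) ≪≫
    DerivedCategory.Qh.mapIso (((Scheme.Modules.pullback f).mapHomotopyCategoryFactors (ComplexShape.up ℤ)).app P) ≪≫
    (DerivedCategory.quotientCompQhIso X.Modules).app _⟩

theorem nonempty_tensorModIso (M : X.Modules) [_root_.DCoh.HasLTensorMod M] (P : CochainComplex X.Modules ℤ)
    (hP : IsKFlat (TX X).flip P) :
    Nonempty ((_root_.DCoh.LTensorMod M).obj (DerivedCategory.Q.obj P) ≅
      DerivedCategory.Q.obj (((_root_.DCoh.tensorRightMod M).mapHomologicalComplex (ComplexShape.up ℤ)).obj P)) := by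
  haveI := (isGood_tensorModKh M).isIso_app (_root_.DCoh.LTensorMod M)
    ((_root_.DCoh.tensorModKh M).totalLeftDerivedCounit DerivedCategory.Qh
      (HomotopyCategory.quasiIso X.Modules (ComplexShape.up ℤ)))
    (X := (HomotopyCategory.quotient _ _).obj P) hP
  exact ⟨(_root_.DCoh.LTensorMod M).mapIso ((DerivedCategory.quotientCompQhIso X.Modules).symm.app P) ≪≫
    asIso (((_root_.DCoh.tensorModKh M).totalLeftDerivedCounit DerivedCategory.Qh
      (HomotopyCategory.quasiIso X.Modules (ComplexShape.up ℤ))).app ((HomotopyCategory.quotient _ _).obj P)) ≪≫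
    DerivedCategory.Qh.mapIso (((_root_.DCoh.tensorRightMod M).mapHomotopyCategoryFactors (ComplexShape.up ℤ)).app P) ≪≫
    (DerivedCategory.quotientCompQhIso X.Modules).app _⟩

theorem nonempty_tensorCxIso (E : CochainComplex X.Modules ℤ) [_root_.DCoh.HasLTensorCx E]
    (P : CochainComplex X.Modules ℤ) (hP : IsKFlat (TX X).flip P) :
    Nonempty ((_root_.DCoh.LTensorCx E).obj (DerivedCategory.Q.obj P) ≅
      DerivedCategory.Q.obj ((_root_.DCoh.tensorCx.obj P).obj E)) :=
  haveI := (isGood_tensorCxQ_scheme E).isIso_app (_root_.DCoh.LTensorCx E)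
    ((_root_.DCoh.tensorCxQ E).totalLeftDerivedCounit DerivedCategory.Q
      (HomologicalComplex.quasiIso X.Modules (ComplexShape.up ℤ))) hP
  ⟨asIso (((_root_.DCoh.tensorCxQ E).totalLeftDerivedCounit DerivedCategory.Q
      (HomologicalComplex.quasiIso X.Modules (ComplexShape.up ℤ))).app P)⟩

end scheme

section ring

variable {R : Type u} [CommRing R]

theorem nonempty_tensorCxIso_ring (E : DRing.Cx R) [_root_.DRing.HasLTensorCx R E] (P : DRing.Cx R)
    (hP : IsKFlat (TM R).flip P) :
    Nonempty ((_root_.DRing.LTensorCx R E).obj (DerivedCategory.Q.obj P) ≅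
      DerivedCategory.Q.obj ((tensorRight E).obj P)) :=
  haveI := (isGood_tensorCxQ_ring R E).isIso_app (_root_.DRing.LTensorCx R E)
    ((_root_.DRing.tensorCxQ R E).totalLeftDerivedCounit DerivedCategory.Q
      (HomologicalComplex.quasiIso (ModuleCat.{u} R) (ComplexShape.up ℤ))) hP
  ⟨asIso (((_root_.DRing.tensorCxQ R E).totalLeftDerivedCounit DerivedCategory.Q
      (HomologicalComplex.quasiIso (ModuleCat.{u} R) (ComplexShape.up ℤ))).app P)⟩

theorem nonempty_tensorIso_ring (M : ModuleCat.{u} R) [_root_.DRing.HasLTensor R M] (P : DRing.Cx R)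
    (hP : IsKFlat (TM R).flip P) :
    Nonempty ((_root_.DRing.LTensor R M).obj (DerivedCategory.Q.obj P) ≅
      DerivedCategory.Q.obj (((tensorRight M).mapHomologicalComplex (ComplexShape.up ℤ)).obj P)) := by
  haveI := (isGood_tensorKh R M).isIso_app (_root_.DRing.LTensor R M)
    ((_root_.DRing.tensorKh R M).totalLeftDerivedCounit DerivedCategory.Qh
      (HomotopyCategory.quasiIso (ModuleCat.{u} R) (ComplexShape.up ℤ)))
    (X := (HomotopyCategory.quotient _ _).obj P) hP
  exact ⟨(_root_.DRing.LTensor R M).mapIso ((DerivedCategory.quotientCompQhIso (ModuleCat.{u} R)).symm.app P) ≪≫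
    asIso (((_root_.DRing.tensorKh R M).totalLeftDerivedCounit DerivedCategory.Qh
      (HomotopyCategory.quasiIso (ModuleCat.{u} R) (ComplexShape.up ℤ))).app ((HomotopyCategory.quotient _ _).obj P)) ≪≫
    DerivedCategory.Qh.mapIso (((tensorRight M).mapHomotopyCategoryFactors (ComplexShape.up ℤ)).app P) ≪≫
    (DerivedCategory.quotientCompQhIso (ModuleCat.{u} R)).app _⟩

end ring

end Groth.Agent.KFlatLib
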