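import Groth.Agent.KFlatLib.Quasi
import Groth.Agent.KFlatLib.Resolution
import Groth.Agent.ModTensor.Flat
import Groth.Agent.ShMod.Grothendieck
import Groth.Prelude.Def_KFlatSite

/-!
K-flat complexes of modules on a ringed site.
-/

universe u

open CategoryTheory Limits HomologicalComplex

namespace Groth.Agent.KFlatLib

variable {C : Type u} [SmallCategory C] {J : GrothendieckTopology C} (O : Sheaf J CommRingCat.{u})

instance grothendieck_mod : IsGrothendieckAbelian.{u} (_root_.ModSite.Mod O) :=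
  ShMod.Grothendieck.isGrothendieckAbelian (_root_.ModSite.ringSh O)

variable {O}

theorem tflat_of_isFlat {F : _root_.ModSite.Mod O} (h : _root_.ModSite.IsFlat F) : TFlat (_root_.ModSite.tensorBi O) F :=
  ⟨ModTensor.preservesMonos_obj h, (ModTensor.isFlat_iff F).1 h⟩

theorem isFlat_of_tflat {F : _root_.ModSite.Mod O} (h : TFlat (_root_.ModSite.tensorBi O) F) : _root_.ModSite.IsFlat F :=
  (ModTensor.isFlat_iff F).2 h.2

variable (O) in
theorem enough_tflat (B : _root_.ModSite.Mod O) :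
    ∃ (P : _root_.ModSite.Mod O) (π : P ⟶ B), Epi π ∧ TFlat (_root_.ModSite.tensorBi O) P :=
  let ⟨G, π, hG, hπ⟩ := ModTensor.exists_epi_isFlat B
  ⟨G, π, hπ, tflat_of_isFlat hG⟩

theorem tflat_flip {F : _root_.ModSite.Mod O} (h : TFlat (_root_.ModSite.tensorBi O) F) :
    TFlat (_root_.ModSite.tensorBi O).flip F := ⟨h.2, h.1⟩

variable (O) in
theorem enough_tflat_flip (B : _root_.ModSite.Mod O) :
    ∃ (P : _root_.ModSite.Mod O) (π : P ⟶ B), Epi π ∧ TFlat (_root_.ModSite.tensorBi O).flip P :=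
  let ⟨G, π, hπ, hG⟩ := enough_tflat O B
  ⟨G, π, hπ, tflat_flip hG⟩

variable (O) in
theorem exists_flip_resolution (L : CochainComplex (_root_.ModSite.Mod O) ℤ) :
    ∃ (L' : CochainComplex (_root_.ModSite.Mod O) ℤ) (q : L' ⟶ L),
      IsKFlat (_root_.ModSite.tensorBi O).flip L' ∧ QuasiIso q :=
  haveI : ∀ X, PreservesColimitsOfSize.{u, u} ((_root_.ModSite.tensorBi O).flip.flip.obj X) := fun X =>
    (inferInstance : PreservesColimitsOfSize.{u, u} ((_root_.ModSite.tensorBi O).obj X))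
  let ⟨K, q, hK, _, hq, _⟩ := exists_resolution (_root_.ModSite.tensorBi O).flip (enough_tflat_flip O) L
  ⟨K, q, hK, hq⟩

theorem isKFlat_iff {K : CochainComplex (_root_.ModSite.Mod O) ℤ} :
    _root_.ModSite.IsKFlat K ↔ IsKFlat (_root_.ModSite.tensorBi O) K := Iff.rfl

theorem isKFlat_iff_acyclic {K : CochainComplex (_root_.ModSite.Mod O) ℤ} :
    (∀ L : CochainComplex (_root_.ModSite.Mod O) ℤ, L.Acyclic →
        (HomologicalComplex.mapBifunctor L K (_root_.ModSite.tensorBi O) (ComplexShape.up ℤ)).Acyclic) ↔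
      IsKFlat (_root_.ModSite.tensorBi O) K :=
  ⟨fun h L hL => (acyc_iff _).2 (h L ((acyc_iff L).1 hL)), fun h L hL => (acyc_iff _).1 (h L ((acyc_iff L).2 hL))⟩

end Groth.Agent.KFlatLib
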