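import Groth.Agent.KFlatLib.Derived
import Groth.Agent.KFlatLib.AcyclicFlat
import Groth.Agent.KFlatLib.ModSite
import Groth.Prelude.Def_DRing4
import Groth.Prelude.Def_DDual2

/-!
`Lf^*`, `- ⊗^L M` and `- ⊗^L E` exist and are computed by K-flat complexes.
-/

universe u

open CategoryTheory Limits AlgebraicGeometry HomologicalComplex MonoidalCategory

attribute [local instance] HasDerivedCategory.standard

namespace Groth.Agent.KFlatLib

section site

variable {C : Type u} [SmallCategory C] {J : GrothendieckTopology C} {O : Sheaf J CommRingCat.{u}}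

theorem exists_res_site (L : CochainComplex (_root_.ModSite.Mod O) ℤ) :
    ∃ (K : CochainComplex (_root_.ModSite.Mod O) ℤ) (q : K ⟶ L), IsKFlat (_root_.ModSite.tensorBi O) K ∧ QuasiIso q :=
  let ⟨K, q, hK, _, hq, _⟩ := exists_resolution (_root_.ModSite.tensorBi O) (enough_tflat O) L
  ⟨K, q, hK, hq⟩

theorem isGood_tensorCxQ (E : CochainComplex (_root_.ModSite.Mod O) ℤ) :
    IsGood DerivedCategory.Q (_root_.ModSite.tensorCxQ E)
      (HomologicalComplex.quasiIso (_root_.ModSite.Mod O) (ComplexShape.up ℤ))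
      (IsKFlat (_root_.ModSite.tensorBi O).flip) :=
  isGood_tensor (_root_.ModSite.tensorBi O) (enough_tflat_flip O) exists_res_site E

theorem hasLTensorCx_site (E : CochainComplex (_root_.ModSite.Mod O) ℤ) : _root_.ModSite.HasLTensorCx E :=
  (isGood_tensorCxQ E).hasLeftDerivedFunctor

end site

section scheme

variable {X Y : Scheme.{u}}

theorem isGood_pullKh (f : X ⟶ Y) :
    IsGood DerivedCategory.Qh (_root_.DCoh.pullKh f) (HomotopyCategory.quasiIso Y.Modules (ComplexShape.up ℤ))
      (fun K => IsKFlat (TX Y) K.as) :=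
  isGood_mapKh (Scheme.Modules.pullback f) (fun K => IsKFlat (TX Y) K) exists_res_site
    (fun {K K'} e h => IsKFlat.of_homotopyEquiv (TX Y) e h)
    (fun {K K'} φ => (IsKFlat.mappingCone_two_of_three (TX Y) φ).1)
    (fun K h => acyc_pullback f ((dcoh_isKFlat_iff K).2 h))

theorem hasLpull (f : X ⟶ Y) : _root_.DCoh.HasLpull f :=
  (isGood_pullKh f).hasLeftDerivedFunctor

theorem isGood_tensorCxQ_scheme (E : CochainComplex X.Modules ℤ) :
    IsGood DerivedCategory.Q (_root_.DCoh.tensorCxQ E)
      (HomologicalComplex.quasiIso X.Modules (ComplexShape.up ℤ)) (fun K => IsKFlat (TX X).flip K) :=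
  isGood_tensorCxQ (O := X.sheaf) E

theorem hasLTensorCx (E : CochainComplex X.Modules ℤ) : _root_.DCoh.HasLTensorCx E :=
  (isGood_tensorCxQ_scheme E).hasLeftDerivedFunctor

theorem isGood_tensorModKh (M : X.Modules) :
    IsGood DerivedCategory.Qh (_root_.DCoh.tensorModKh M)
      (HomotopyCategory.quasiIso X.Modules (ComplexShape.up ℤ)) (fun K => IsKFlat (TX X).flip K.as) := by
  haveI : ∀ Z, PreservesColimitsOfSize.{u, u} ((TX X).flip.flip.obj Z) := fun Z =>
    (inferInstance : PreservesColimitsOfSize.{u, u} ((TX X).obj Z))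
  refine isGood_mapKh (_root_.DCoh.tensorRightMod M) (fun K => IsKFlat (TX X).flip K)
    (exists_flip_resolution X.sheaf) (fun {K K'} e h => IsKFlat.of_homotopyEquiv (TX X).flip e h)
    (fun {K K'} φ => (IsKFlat.mappingCone_two_of_three (TX X).flip φ).1) fun K h hA => ?_
  exact acyc_map_obj (TX X).flip h hA exists_res_site M

theorem hasLTensorMod (M : X.Modules) : _root_.DCoh.HasLTensorMod M :=
  (isGood_tensorModKh M).hasLeftDerivedFunctor

end scheme

section ring

variable (R : Type u) [CommRing R]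

theorem exists_res_module (L : CochainComplex (ModuleCat.{u} R) ℤ) :
    ∃ (K : CochainComplex (ModuleCat.{u} R) ℤ) (q : K ⟶ L), IsKFlat (TM R) K ∧ QuasiIso q :=
  let ⟨K, q, hK, _, hq, _⟩ := exists_resolution (TM R) (enough_tflat_module R) L
  ⟨K, q, hK, hq⟩

theorem isGood_tensorKh (M : ModuleCat.{u} R) :
    IsGood DerivedCategory.Qh (_root_.DRing.tensorKh R M)
      (HomotopyCategory.quasiIso (ModuleCat.{u} R) (ComplexShape.up ℤ)) (fun K => IsKFlat (TM R).flip K.as) := by
  refine isGood_mapKh (tensorRight M) (fun K => IsKFlat (TM R).flip K)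
    (exists_flip_resolution_module R) (fun {K K'} e h => IsKFlat.of_homotopyEquiv (TM R).flip e h)
    (fun {K K'} φ => (IsKFlat.mappingCone_two_of_three (TM R).flip φ).1) fun K h hA => ?_
  exact acyc_map_obj (TM R).flip h hA (exists_res_module R) M

theorem hasLTensor (M : ModuleCat.{u} R) : _root_.DRing.HasLTensor R M :=
  (isGood_tensorKh R M).hasLeftDerivedFunctor

theorem isGood_tensorCxQ_ring (E : DRing.Cx R) :
    IsGood DerivedCategory.Q (_root_.DRing.tensorCxQ R E)
      (HomologicalComplex.quasiIso (ModuleCat.{u} R) (ComplexShape.up ℤ)) (IsKFlat (TM R).flip) :=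
  isGood_tensor (TM R) (fun B => let ⟨P, π, hπ, hP⟩ := enough_tflat_module R B; ⟨P, π, hπ, hP.2, hP.1⟩)
    (exists_res_module R) E

theorem hasLTensorCx_ring (E : DRing.Cx R) : _root_.DRing.HasLTensorCx R E :=
  (isGood_tensorCxQ_ring R E).hasLeftDerivedFunctor

end ring

end Groth.Agent.KFlatLib
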