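import Groth.Agent.KFlatLib.LCompute
import Groth.Agent.KFlatLib.FlatTor
import Groth.Agent.ModStalk.PullbackQCoh
import Groth.Agent.ModStalk.LocFreeDescent
import Groth.Agent.PseudoCoh.TorAmp
import Groth.Prelude.Def_DCoh2

/-!
`Lf^*` preserves perfect and pseudo-coherent objects.
-/

universe u

open CategoryTheory Limits AlgebraicGeometry HomologicalComplex

attribute [local instance] HasDerivedCategory.standard

namespace Groth.Agent.KFlatLib

variable {X Y : Scheme.{u}}

instance additive_pullback (f : X ⟶ Y) : (Scheme.Modules.pullback f).Additive :=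
  haveI := preservesBinaryBiproducts_of_preservesBinaryCoproducts (Scheme.Modules.pullback f)
  Functor.additive_of_preservesBinaryBiproducts _

/-- pullback commutes with restriction to opens, naturally -/
noncomputable def pullRestrictNatIso (f : X ⟶ Y) (W : Y.Opens) :
    Scheme.Modules.pullback f ⋙ Scheme.Modules.restrictFunctor (f ⁻¹ᵁ W).ι ≅
      Scheme.Modules.restrictFunctor W.ι ⋙ Scheme.Modules.pullback (f ∣_ W) :=
  Functor.isoWhiskerLeft _ (Scheme.Modules.restrictFunctorIsoPullback (f ⁻¹ᵁ W).ι) ≪≫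
    Scheme.Modules.pullbackComp (f ⁻¹ᵁ W).ι f ≪≫
    Scheme.Modules.pullbackCongr (morphismRestrict_ι f W).symm ≪≫
    (Scheme.Modules.pullbackComp (f ∣_ W) W.ι).symm ≪≫
    Functor.isoWhiskerRight (Scheme.Modules.restrictFunctorIsoPullback W.ι).symm _

instance preservesHomology_restrict {U : Scheme.{u}} (j : U ⟶ X) [IsOpenImmersion j] :
    (Scheme.Modules.restrictFunctor j).PreservesHomology := by
  haveI : PreservesFiniteColimits (Scheme.Modules.restrictFunctor j) :=
    haveI := (Scheme.Modules.restrictAdjunction j).leftAdjoint_preservesColimits.{0, 0}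
    PreservesColimitsOfSize.preservesFiniteColimits.{0, 0} _
  haveI : (Scheme.Modules.restrictFunctor j).PreservesMonomorphisms := ⟨fun g _ =>
    Groth.Agent.ModStalk.mono_of_stalkMap_injective _ fun x =>
      Groth.Agent.ModStalk.stalkMap_restrict_injective j g x
        ((ModuleCat.mono_iff_injective ((SF (j x)).map g)).1 inferInstance)⟩
  exact (Scheme.Modules.restrictFunctor j).preservesHomology_of_preservesMonos_and_cokernels

/-- the pullback of a free module is free -/
theorem nonempty_pullback_freeMod (f : X ⟶ Y) (n : ℕ) :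
    Nonempty ((Scheme.Modules.pullback f).obj (FlatMod.freeMod Y n) ≅ FlatMod.freeMod X n) :=
  haveI := (Scheme.Modules.pullbackPushforwardAdjunction f).leftAdjoint_preservesColimits.{0, 0}
  ⟨PreservesCoproduct.iso (Scheme.Modules.pullback f) (fun _ : Fin n => Coh.structureModule Y) ≪≫
    Sigma.mapIso (fun _ => Groth.Agent.ModStalk.pullbackUnitIso f)⟩

theorem isFinLocFree_pullback (f : X ⟶ Y) {M : Y.Modules} (h : FlatMod.IsFinLocFree M) :
    FlatMod.IsFinLocFree ((Scheme.Modules.pullback f).obj M) := by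
  intro x
  obtain ⟨W, n, hx, ⟨e⟩⟩ := h (f x)
  obtain ⟨e'⟩ := nonempty_pullback_freeMod (f ∣_ W) n
  exact ⟨f ⁻¹ᵁ W, n, hx, ⟨(pullRestrictNatIso f W).app M ≪≫ (Scheme.Modules.pullback (f ∣_ W)).mapIso e ≪≫ e'⟩⟩

theorem isKFlat_of_strictlyPerfect {E : CochainComplex X.Modules ℤ} (h : _root_.DCoh.IsStrictlyPerfect E) :
    _root_.DCoh.IsKFlat E := by
  obtain ⟨⟨a, b, hab⟩, hfree⟩ := h
  refine (dcoh_isKFlat_iff E).2 (isKFlat_of_bounded_above (TX X) E b (fun i hi => hab i (Or.inr hi)) fun i => ?_)
  exact (tflat_of_flatMod fun x => haveI := (Groth.Agent.ModStalk.free_stalk_of_isFinLocFree (E.X i) (hfree i)).1 x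
    Module.Flat.of_free).2

theorem isStrictlyPerfect_pullback (f : X ⟶ Y) {E : CochainComplex Y.Modules ℤ}
    (h : _root_.DCoh.IsStrictlyPerfect E) :
    _root_.DCoh.IsStrictlyPerfect (((Scheme.Modules.pullback f).mapHomologicalComplex _).obj E) := by
  obtain ⟨⟨a, b, hab⟩, hfree⟩ := h
  exact ⟨⟨a, b, fun i hi => Functor.map_isZero _ (hab i hi)⟩, fun i => isFinLocFree_pullback f (hfree i)⟩

section right_exact

variable {R R' : Type u} [CommRing R] [CommRing R'] (φ : R →+* R')

/-- derived base change is right t-exact -/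
theorem isZero_homology_extendScalars {K : DRing.Cx R} (hK : IsKFlat (TM R) K) (m : ℤ)
    (h : ∀ i, m ≤ i → IsZero (K.homology i)) (i : ℤ) (hi : m ≤ i) :
    IsZero ((((ModuleCat.extendScalars φ).mapHomologicalComplex (ComplexShape.up ℤ)).obj K).homology i) := by
  have hle : DerivedCategory.TStructure.t.IsLE (DRing.toD K) (m - 1) :=
    (DerivedCategory.isLE_iff _ _).2 fun j hj =>
      (h j (by omega)).of_iso ((DerivedCategory.homologyFunctorFactors _ j).app K)
  obtain ⟨P, hb, hp, _, ⟨e⟩⟩ := Groth.Agent.PseudoCoh.exists_projective_le (DRing.toD K) (m - 1) hle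
  haveI := Groth.Agent.PseudoCoh.isKProjective_of_le hb hp
  obtain ⟨g, hg⟩ := Groth.Agent.PseudoCoh.exists_Q_map e.hom
  haveI : IsIso (DerivedCategory.Q.map g) := hg ▸ inferInstance
  haveI hq : QuasiIso g := (DerivedCategory.isIso_Q_map_iff_quasiIso _ g).1 inferInstance
  have hP : IsKFlat (TM R) P := isKFlat_of_bounded_above (TM R) P (m - 1) hb fun j =>
    (tflat_of_flat (haveI := (IsProjective.iff_projective (R := R) (P.X j)).2 (hp j); inferInstance)).2
  let F := (ModuleCat.extendScalars φ).mapHomologicalComplex (ComplexShape.up ℤ)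
  haveI : QuasiIso (F.map g) := by
    rw [← acyclic_mappingCone_iff, ← acyc_iff]
    exact acyc_of_iso (CochainComplex.mappingCone.mapHomologicalComplexIso g (ModuleCat.extendScalars φ))
      (acyc_extendScalars φ ((IsKFlat.mappingCone_two_of_three (TM R) g).1 hP hK)
        ((acyc_iff _).2 ((acyclic_mappingCone_iff g).2 hq)))
  exact IsZero.of_iso (ShortComplex.isZero_homology_of_isZero_X₂ _ ((ModuleCat.extendScalars φ).map_isZero (hb i (by omega))))
    (asIso (homologyMap (F.map g) i)).symm

end right_exact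

/-- `Lf^*` is right t-exact -/
theorem isZero_homology_pullback (f : X ⟶ Y) {K : CochainComplex Y.Modules ℤ} (hK : _root_.DCoh.IsKFlat K) (m : ℤ)
    (h : ∀ i, m ≤ i → IsZero (K.homology i)) (i : ℤ) (hi : m ≤ i) :
    IsZero ((((Scheme.Modules.pullback f).mapHomologicalComplex (ComplexShape.up ℤ)).obj K).homology i) := by
  refine isZero_of_stalks fun x => ?_
  have h₁ := isZero_homology_extendScalars (f.stalkMap x).hom (isKFlat_stalk hK (f x)) m (fun j hj =>
    (Functor.map_isZero (SF (f x)) (h j hj)).of_iso ((K.sc j).mapHomologyIso (SF (f x)))) i hi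
  refine IsZero.of_iso ?_
    (((((Scheme.Modules.pullback f).mapHomologicalComplex (ComplexShape.up ℤ)).obj K).sc i).mapHomologyIso (SF x)).symm
  let e : ((ModuleCat.extendScalars (f.stalkMap x).hom).mapHomologicalComplex (ComplexShape.up ℤ)).obj (stCx (f x) K) ≅
      stCx x (((Scheme.Modules.pullback f).mapHomologicalComplex (ComplexShape.up ℤ)).obj K) :=
    HomologicalComplex.Hom.isoOfComponents (fun n => (pullStalkNatIso f x).app (K.X n))
      fun p q _ => ((pullStalkNatIso f x).hom.naturality (K.d p q)).symm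
  exact h₁.of_iso ((HomologicalComplex.homologyFunctor _ _ i).mapIso e.symm)

section criterion

variable {A : Type*} [Category A] [Abelian A] [HasDerivedCategory A]

/-- the cone of a map vanishes above `m` iff the map is iso above `m` and epi at `m` -/
theorem cone_vanishes_iff (T : Pretriangulated.Triangle (DerivedCategory A))
    (hT : T ∈ Pretriangulated.distinguishedTriangles) (m : ℤ) :
    (∀ i, m ≤ i → IsZero ((DerivedCategory.homologyFunctor A i).obj T.obj₃)) ↔
      ((∀ i, m < i → IsIso ((DerivedCategory.homologyFunctor A i).map T.mor₁)) ∧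
        Epi ((DerivedCategory.homologyFunctor A m).map T.mor₁)) := by
  constructor
  · intro h
    have he : ∀ i, m ≤ i → Epi ((DerivedCategory.homologyFunctor A i).map T.mor₁) := fun i hi =>
      (DerivedCategory.HomologySequence.epi_homologyMap_mor₁_iff T hT i).2 ((h i hi).eq_of_tgt _ _)
    refine ⟨fun i hi => ?_, he m le_rfl⟩
    haveI := he i hi.le
    haveI : Mono ((DerivedCategory.homologyFunctor A i).map T.mor₁) :=
      (DerivedCategory.HomologySequence.mono_homologyMap_mor₁_iff T hT (i - 1) i (by omega)).2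
        ((h (i - 1) (by omega)).eq_of_src _ _)
    exact isIso_of_mono_of_epi _
  · rintro ⟨h₁, h₂⟩ i hi
    have e₁ : Epi ((DerivedCategory.homologyFunctor A i).map T.mor₁) := by
      rcases hi.lt_or_eq with h | rfl
      · haveI := h₁ i h; infer_instance
      · exact h₂
    have e₂ : Mono ((DerivedCategory.homologyFunctor A (i + 1)).map T.mor₁) := by
      haveI := h₁ (i + 1) (by omega); infer_instance
    exact (DerivedCategory.HomologySequence.exact₃ T hT i (i + 1) rfl).isZero_of_both_zeros
      ((DerivedCategory.HomologySequence.epi_homologyMap_mor₁_iff T hT i).1 e₁)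
      ((DerivedCategory.HomologySequence.mono_homologyMap_mor₁_iff T hT i (i + 1) rfl).1 e₂)

end criterion

/-- approximation by a strictly perfect complex pulls back -/
theorem exists_approx_pullback (f : X ⟶ Y) {E P : CochainComplex Y.Modules ℤ} (hE : _root_.DCoh.IsStrictlyPerfect E)
    (hP : _root_.DCoh.IsKFlat P) (α : DerivedCategory.Q.obj E ⟶ DerivedCategory.Q.obj P) :
    ∃ β : DerivedCategory.Q.obj (((Scheme.Modules.pullback f).mapHomologicalComplex (ComplexShape.up ℤ)).obj E) ⟶
        DerivedCategory.Q.obj (((Scheme.Modules.pullback f).mapHomologicalComplex (ComplexShape.up ℤ)).obj P),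
      (IsIso α → IsIso β) ∧ ∀ m : ℤ,
        (∀ i, m < i → IsIso ((DerivedCategory.homologyFunctor _ i).map α)) ∧
            Epi ((DerivedCategory.homologyFunctor _ m).map α) →
          (∀ i, m < i → IsIso ((DerivedCategory.homologyFunctor _ i).map β)) ∧
            Epi ((DerivedCategory.homologyFunctor _ m).map β) := by
  obtain ⟨Z, s, hs, g, rfl⟩ := DerivedCategory.right_fac α
  obtain ⟨E', t, hE', ht⟩ : ∃ (E' : CochainComplex Y.Modules ℤ) (t : E' ⟶ Z), _root_.DCoh.IsKFlat E' ∧ QuasiIso t :=
    let ⟨K, q, hK, hq⟩ := exists_res_site (O := Y.sheaf) Z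
    ⟨K, q, (dcoh_isKFlat_iff K).2 hK, hq⟩
  haveI := hs
  haveI : QuasiIso s := (DerivedCategory.isIso_Q_map_iff_quasiIso _ s).1 hs
  haveI := ht
  let F := (Scheme.Modules.pullback f).mapHomologicalComplex (ComplexShape.up ℤ)
  have hcone : ∀ {K K' : CochainComplex Y.Modules ℤ} (φ : K ⟶ K'), _root_.DCoh.IsKFlat K → _root_.DCoh.IsKFlat K' →
      _root_.DCoh.IsKFlat (CochainComplex.mappingCone φ) := fun {K K'} φ h h' =>
    (dcoh_isKFlat_iff _).2 ((IsKFlat.mappingCone_two_of_three (TX Y) φ).1 ((dcoh_isKFlat_iff K).1 h)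
      ((dcoh_isKFlat_iff K').1 h'))
  have hqis : ∀ {K K' : CochainComplex Y.Modules ℤ} (φ : K ⟶ K'), _root_.DCoh.IsKFlat K → _root_.DCoh.IsKFlat K' →
      QuasiIso φ → QuasiIso (F.map φ) := fun {K K'} φ h h' hφ => by
    rw [← acyclic_mappingCone_iff, ← acyc_iff]
    exact acyc_of_iso (CochainComplex.mappingCone.mapHomologicalComplexIso φ (Scheme.Modules.pullback f))
      (acyc_pullback f (hcone φ h h') ((acyc_iff _).2 ((acyclic_mappingCone_iff φ).2 hφ)))
  haveI : QuasiIso (F.map (t ≫ s)) := hqis _ hE' (isKFlat_of_strictlyPerfect hE) inferInstance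
  haveI : IsIso (DerivedCategory.Q.map (F.map (t ≫ s))) :=
    (DerivedCategory.isIso_Q_map_iff_quasiIso _ _).2 inferInstance
  haveI : IsIso (DerivedCategory.Q.map t) := (DerivedCategory.isIso_Q_map_iff_quasiIso _ _).2 ht
  refine ⟨CategoryTheory.inv (DerivedCategory.Q.map (F.map (t ≫ s))) ≫ DerivedCategory.Q.map (F.map (t ≫ g)),
    fun hα => ?_, fun m hm => ?_⟩
  · haveI : IsIso (DerivedCategory.Q.map g) := IsIso.of_isIso_comp_left (CategoryTheory.inv (DerivedCategory.Q.map s)) _
    haveI : QuasiIso (F.map (t ≫ g)) := hqis _ hE' hP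
      ((DerivedCategory.isIso_Q_map_iff_quasiIso _ _).1 (by rw [Functor.map_comp]; infer_instance))
    haveI : IsIso (DerivedCategory.Q.map (F.map (t ≫ g))) :=
      (DerivedCategory.isIso_Q_map_iff_quasiIso _ _).2 inferInstance
    infer_instance
  · have hα : (∀ i, m < i → IsIso ((DerivedCategory.homologyFunctor _ i).map (DerivedCategory.Q.map (t ≫ g)))) ∧
        Epi ((DerivedCategory.homologyFunctor _ m).map (DerivedCategory.Q.map (t ≫ g))) := by
      have e : DerivedCategory.Q.map (t ≫ g) = DerivedCategory.Q.map (t ≫ s) ≫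
          (CategoryTheory.inv (DerivedCategory.Q.map s) ≫ DerivedCategory.Q.map g) := by
        simp only [Functor.map_comp, Category.assoc, IsIso.hom_inv_id_assoc]
      rw [e]
      refine ⟨fun i hi => ?_, ?_⟩
      · haveI := hm.1 i hi
        rw [Functor.map_comp]; infer_instance
      · haveI := hm.2
        rw [Functor.map_comp]; exact epi_comp _ _
    have hc := (cone_vanishes_iff _ (DerivedCategory.mappingCone_triangle_distinguished (t ≫ g)) m).2 hα
    have hd : ∀ i, m ≤ i → IsZero ((CochainComplex.mappingCone (F.map (t ≫ g))).homology i) := fun i hi =>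
      (isZero_homology_pullback f (hcone (t ≫ g) hE' hP) m
        (fun j hj => (hc j hj).of_iso ((DerivedCategory.homologyFunctorFactors _ j).app _).symm) i hi).of_iso
        ((HomologicalComplex.homologyFunctor _ _ i).mapIso
          (CochainComplex.mappingCone.mapHomologicalComplexIso (t ≫ g) (Scheme.Modules.pullback f)).symm)
    have hf := (cone_vanishes_iff _ (DerivedCategory.mappingCone_triangle_distinguished (F.map (t ≫ g))) m).1
      fun i hi => (hd i hi).of_iso ((DerivedCategory.homologyFunctorFactors _ i).app _)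
    refine ⟨fun i hi => ?_, ?_⟩
    · haveI : IsIso ((DerivedCategory.homologyFunctor _ i).map (DerivedCategory.Q.map (F.map (t ≫ g)))) := hf.1 i hi
      rw [Functor.map_comp]; infer_instance
    · haveI : Epi ((DerivedCategory.homologyFunctor _ m).map (DerivedCategory.Q.map (F.map (t ≫ g)))) := hf.2
      rw [Functor.map_comp]; exact epi_comp _ _

/-- the local data for `Lf^*K` over `f⁻¹V` -/
theorem exists_local_rep (f : X ⟶ Y) [_root_.DCoh.HasLpull f] (K : _root_.DCoh.D Y) :
    ∃ P : CochainComplex Y.Modules ℤ, Nonempty (_root_.DCoh.toD Y P ≅ K) ∧ ∀ (V : Y.Opens)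
      (F : CochainComplex X.Modules ℤ), Nonempty (_root_.DCoh.toD X F ≅ (_root_.DCoh.Lpull f).obj K) →
      _root_.DCoh.IsKFlat ((_root_.DCoh.restrictCx V).obj P) ∧
      Nonempty (DerivedCategory.Q.obj ((_root_.DCoh.restrictCx (f ⁻¹ᵁ V)).obj F) ≅
        DerivedCategory.Q.obj (((Scheme.Modules.pullback (f ∣_ V)).mapHomologicalComplex (ComplexShape.up ℤ)).obj
          ((_root_.DCoh.restrictCx V).obj P))) := by
  obtain ⟨P, q, hP, hq⟩ : ∃ (P : CochainComplex Y.Modules ℤ) (q : P ⟶ DerivedCategory.Q.objPreimage K),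
      _root_.DCoh.IsKFlat P ∧ QuasiIso q :=
    let ⟨P, q, hP, hq⟩ := exists_res_site (O := Y.sheaf) (DerivedCategory.Q.objPreimage K)
    ⟨P, q, (dcoh_isKFlat_iff P).2 hP, hq⟩
  haveI : IsIso (DerivedCategory.Q.map q) := (DerivedCategory.isIso_Q_map_iff_quasiIso _ _).2 hq
  let eK : DerivedCategory.Q.obj P ≅ K := asIso (DerivedCategory.Q.map q) ≪≫ DerivedCategory.Q.objObjPreimageIso K
  refine ⟨P, ⟨eK⟩, fun V F ⟨eF⟩ => ?_⟩
  constructor
  · have e : (_root_.DCoh.restrictCx V).obj P ≅
        ((Scheme.Modules.pullback V.ι).mapHomologicalComplex (ComplexShape.up ℤ)).obj P :=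
      (NatIso.mapHomologicalComplex (Scheme.Modules.restrictFunctorIsoPullback V.ι) (ComplexShape.up ℤ)).app P
    exact fun L hL => acyc_of_iso ((_root_.DCoh.tensorCx.obj L).mapIso e.symm) (isKFlat_pullback V.ι P hP L hL)
  · obtain ⟨e⟩ := nonempty_lpullIso f P hP
    let G := Scheme.Modules.restrictFunctor (f ⁻¹ᵁ V).ι
    haveI : PreservesFiniteLimits G := G.preservesFiniteLimits_of_preservesHomology
    haveI : PreservesFiniteColimits G := G.preservesFiniteColimits_of_preservesHomology
    exact ⟨(G.mapDerivedCategoryFactors.app F).symm ≪≫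
      G.mapDerivedCategory.mapIso (eF ≪≫ (_root_.DCoh.Lpull f).mapIso eK.symm ≪≫ e) ≪≫
      G.mapDerivedCategoryFactors.app _ ≪≫
      DerivedCategory.Q.mapIso
        (HomologicalComplex.Hom.isoOfComponents (fun n => (pullRestrictNatIso f V).app (P.X n))
          fun i j _ => ((pullRestrictNatIso f V).hom.naturality (P.d i j)).symm)⟩

end Groth.Agent.KFlatLib
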