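import Groth.Agent.KFlatLib.TensorFlat
import Groth.Agent.KFlatLib.LpullLocal

/-!
Tensor products of strictly perfect complexes are strictly perfect.
-/

universe u

open CategoryTheory Limits AlgebraicGeometry HomologicalComplex TopologicalSpace Opposite MonoidalCategory

attribute [local instance] HasDerivedCategory.standard

namespace Groth.Agent.KFlatLib

section generic

variable {A : Type*} [Category A] [Abelian A] (T : A ⥤ A ⥤ A) [T.Additive] [∀ X, (T.obj X).Additive]
  [∀ K L : CochainComplex A ℤ, HomologicalComplex.HasMapBifunctor K L T (ComplexShape.up ℤ)]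

theorem isZero_tot_X (E E' : CochainComplex A ℤ) (n : ℤ)
    (hz : ∀ p q, p + q = n → IsZero ((T.obj (E.X p)).obj (E'.X q))) : IsZero (((Φ T E).obj E').X n) := by
  rw [IsZero.iff_id_eq_zero]
  exact ιT_hom_ext T fun p q e => (hz p q e).eq_of_src _ _

theorem exists_tot_decomposition (E E' : CochainComplex A ℤ) (n : ℤ) (S : Finset ℤ)
    (hz : ∀ p q, p ∉ S → IsZero ((T.obj (E.X p)).obj (E'.X q))) :
    ∃ (ι : ∀ p : S, (T.obj (E.X p)).obj (E'.X (n - p)) ⟶ ((Φ T E).obj E').X n)
      (π : ∀ p : S, ((Φ T E).obj E').X n ⟶ (T.obj (E.X p)).obj (E'.X (n - p))),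
      (∀ p, ι p ≫ π p = 𝟙 _) ∧ (∀ p q, p ≠ q → ι p ≫ π q = 0) ∧ ∑ p, π p ≫ ι p = 𝟙 _ := by
  have hK : ∀ p : S, (p : ℤ) + (n - p) = n := fun p => by omega
  let π : ∀ p : S, ((Φ T E).obj E').X n ⟶ (T.obj (E.X p)).obj (E'.X (n - p)) := fun p =>
    HomologicalComplex.mapBifunctorDesc (K₁ := E) (K₂ := E') (F := T) fun i j e =>
      if hi : i = p then eqToHom (by subst hi; rw [show j = n - p by change (p : ℤ) + j = n at e; omega]) else 0
  have hπ : ∀ (q : S) i j (e : i + j = n), ιT T E E' i j n e ≫ π q =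
      if hi : i = q then eqToHom (by subst hi; rw [show j = n - q by omega]) else 0 := fun q i j e =>
    HomologicalComplex.ι_mapBifunctorDesc _ i j e
  refine ⟨fun p => ιT T E E' p (n - p) n (hK p), π, fun p => ?_, fun p q hpq => ?_, ?_⟩
  · rw [hπ]; simp
  · rw [hπ, dif_neg fun e => hpq (Subtype.ext e)]
  · refine ιT_hom_ext T fun i j e => ?_
    by_cases hi : i ∈ S
    · obtain rfl : j = n - i := by omega
      rw [Preadditive.comp_sum, Category.comp_id, Finset.sum_eq_single (⟨i, hi⟩ : S)]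
      · rw [← Category.assoc, hπ]; simp
      · intro q _ hq
        rw [← Category.assoc, hπ, dif_neg fun e => hq (Subtype.ext e.symm), zero_comp]
      · exact fun h => absurd (Finset.mem_univ _) h
    · exact (hz i j hi).eq_of_src _ _

end generic

variable {X : Scheme.{u}}

instance additive_SF (x : X) : (SF x).Additive :=
  haveI := preservesBinaryBiproducts_of_preservesBinaryCoproducts (SF x)
  Functor.additive_of_preservesBinaryBiproducts _

theorem exists_basis_of_isFinLocFree {M : X.Modules} (h : FlatMod.IsFinLocFree M) (x : X) :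
    ∃ (U : X.Opens) (n : ℕ) (s : Fin n → (pm M).obj (op U)), x ∈ U ∧ ∀ (y : X) (hy : y ∈ U),
      ∃ b : Module.Basis (Fin n) (X.presheaf.stalk y) (St (pm M) y), ∀ i, b i = gm (pm M) y U hy (s i) := by
  haveI := ModStalk.isFiniteType_of_isFinLocFree M h
  obtain ⟨U, n, s, hx, hs⟩ := ModStalk.exists_basis_nhd M (ModStalk.free_stalk_of_isFinLocFree M h).1
    (ModStalk.free_stalk_of_isFinLocFree M h).2 x
  exact ⟨U, n, s, hx, fun y hy => ⟨Module.Basis.mk (hs y hy).2 (hs y hy).1.ge, fun i => Module.Basis.mk_apply _ _ i⟩⟩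

theorem isFinLocFree_of_basis_fintype (M : X.Modules)
    (h : ∀ x : X, ∃ (U : X.Opens) (ι : Type) (_ : Fintype ι) (s : ι → (pm M).obj (op U)), x ∈ U ∧
      ∀ (y : X) (hy : y ∈ U), ∃ b : Module.Basis ι (X.presheaf.stalk y) (St (pm M) y),
        ∀ i, b i = gm (pm M) y U hy (s i)) : FlatMod.IsFinLocFree M := by
  refine ModStalk.isFinLocFree_of_basis M fun x => ?_
  obtain ⟨U, ι, _, s, hx, hs⟩ := h x
  refine ⟨U, Fintype.card ι, fun i => s ((Fintype.equivFin ι).symm i), hx, fun y hy => ?_⟩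
  obtain ⟨b, hb⟩ := hs y hy
  have e : ⇑(b.reindex (Fintype.equivFin ι)) = fun i => M.presheaf.germ U y hy (s ((Fintype.equivFin ι).symm i)) :=
    funext fun i => (b.reindex_apply _ i).trans (hb _)
  exact ⟨e ▸ (b.reindex (Fintype.equivFin ι)).span_eq, e ▸ (b.reindex (Fintype.equivFin ι)).linearIndependent⟩

theorem isFinLocFree_tensor {M N : X.Modules} (hM : FlatMod.IsFinLocFree M) (hN : FlatMod.IsFinLocFree N) :
    FlatMod.IsFinLocFree (((TX X).obj M).obj N) := by
  refine isFinLocFree_of_basis_fintype _ fun x => ?_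
  obtain ⟨U, m, s, hxU, hs⟩ := exists_basis_of_isFinLocFree hM x
  obtain ⟨V, n, t, hxV, ht⟩ := exists_basis_of_isFinLocFree hN x
  refine ⟨U ⊓ V, Fin m × Fin n, inferInstance, fun p => tmulSec M N (U ⊓ V)
    (rs (pm M) (homOfLE inf_le_left) (s p.1)) (rs (pm N) (homOfLE inf_le_right) (t p.2)), ⟨hxU, hxV⟩, fun y hy => ?_⟩
  obtain ⟨b, hb⟩ := hs y hy.1
  obtain ⟨c, hc⟩ := ht y hy.2
  refine ⟨(b.tensorProduct c).map (tensorStalkIso y M N).toLinearEquiv, fun p => ?_⟩
  rw [Module.Basis.map_apply, Module.Basis.tensorProduct_apply', hb, hc,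
    ← gm_rs (pm M) y (homOfLE (inf_le_left : U ⊓ V ≤ U)) hy (s p.1),
    ← gm_rs (pm N) y (homOfLE (inf_le_right : U ⊓ V ≤ V)) hy (t p.2)]
  exact tensorStalkIso_germ y M N (U ⊓ V) hy _ _

/-- a finite direct sum of finite locally free modules is finite locally free -/
theorem isFinLocFree_of_decomposition {K : Type} [Fintype K] [DecidableEq K] {f : K → X.Modules} (Z : X.Modules)
    (ι : ∀ k, f k ⟶ Z) (π : ∀ k, Z ⟶ f k) (h₁ : ∀ k, ι k ≫ π k = 𝟙 (f k)) (h₂ : ∀ j k, j ≠ k → ι j ≫ π k = 0)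
    (h₃ : ∑ k, π k ≫ ι k = 𝟙 Z) (hf : ∀ k, FlatMod.IsFinLocFree (f k)) : FlatMod.IsFinLocFree Z := by
  refine isFinLocFree_of_basis_fintype _ fun x => ?_
  choose U n s hx hs using fun k => exists_basis_of_isFinLocFree (hf k) x
  let W : X.Opens := Finset.univ.inf U
  have hle : ∀ k, W ≤ U k := fun k => Finset.inf_le (Finset.mem_univ k)
  refine ⟨W, Σ k, Fin (n k), inferInstance, fun p => (ι p.1).app W (rs (pm (f p.1)) (homOfLE (hle p.1)) (s p.1 p.2)),
    Finset.inf_induction (p := fun V : X.Opens => x ∈ V) trivial (fun _ h₁ _ h₂ => ⟨h₁, h₂⟩) fun k _ => hx k,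
    fun y hy => ?_⟩
  choose b hb using fun k => hs k y (hle k hy)
  let I : ∀ k, St (pm (f k)) y →ₗ[X.presheaf.stalk y] St (pm Z) y := fun k => ((SF y).map (ι k)).hom
  let P : ∀ k, St (pm Z) y →ₗ[X.presheaf.stalk y] St (pm (f k)) y := fun k => ((SF y).map (π k)).hom
  have e₁ : ∀ k v, P k (I k v) = v := fun k v => by
    refine (ConcreteCategory.congr_hom ((SF y).map_comp (ι k) (π k)).symm v).trans ?_
    rw [h₁, CategoryTheory.Functor.map_id]; rfl
  have e₂ : ∀ j k, j ≠ k → ∀ v, P k (I j v) = 0 := fun j k h v => by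
    refine (ConcreteCategory.congr_hom ((SF y).map_comp (ι j) (π k)).symm v).trans ?_
    rw [h₂ j k h, Functor.map_zero]; rfl
  have e₃ : ∀ v, ∑ k, I k (P k v) = v := fun v => by
    have e := congrArg (fun φ => ((SF y).map φ).hom v) h₃
    simp only [Functor.map_sum, CategoryTheory.Functor.map_id, ModuleCat.hom_sum, LinearMap.sum_apply,
      Functor.map_comp] at e
    exact e
  let E : (∀ k, St (pm (f k)) y) ≃ₗ[X.presheaf.stalk y] St (pm Z) y :=
    LinearEquiv.ofLinear (∑ k, I k ∘ₗ LinearMap.proj k) (LinearMap.pi P)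
      (LinearMap.ext fun v => by simpa using e₃ v)
      (LinearMap.ext fun w => funext fun k => by
        simp only [LinearMap.comp_apply, LinearMap.pi_apply, LinearMap.sum_apply, map_sum, LinearMap.proj_apply,
          LinearMap.id_apply]
        rw [Finset.sum_eq_single k (fun j _ h => e₂ j k h _) (fun h => absurd (Finset.mem_univ k) h), e₁])
  refine ⟨(Pi.basis b).map E, fun p => ?_⟩
  rw [Module.Basis.map_apply, Pi.basis_apply]
  show (∑ k, I k ∘ₗ LinearMap.proj k) (Pi.single p.1 (b p.1 p.2)) = _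
  rw [LinearMap.sum_apply, Finset.sum_eq_single p.1 (fun j _ h => by simp [Pi.single_eq_of_ne h])
    (fun h => absurd (Finset.mem_univ _) h)]
  simp only [LinearMap.comp_apply, LinearMap.proj_apply, Pi.single_eq_same]
  rw [hb, ← gm_rs (pm (f p.1)) y (homOfLE (hle p.1)) hy (s p.1 p.2)]
  exact SF_map_gm y (ι p.1) W hy _

theorem isStrictlyPerfect_tensor {E E' : CochainComplex X.Modules ℤ} (h : _root_.DCoh.IsStrictlyPerfect E)
    (h' : _root_.DCoh.IsStrictlyPerfect E') : _root_.DCoh.IsStrictlyPerfect ((_root_.DCoh.tensorCx.obj E).obj E') := by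
  obtain ⟨⟨a, b, hab⟩, hE⟩ := h
  obtain ⟨⟨a', b', hab'⟩, hE'⟩ := h'
  let F : CochainComplex (_root_.ModSite.Mod X.sheaf) ℤ := E
  let F' : CochainComplex (_root_.ModSite.Mod X.sheaf) ℤ := E'
  have hz : ∀ p q, (p < a ∨ b < p) ∨ (q < a' ∨ b' < q) → IsZero (((TX X).obj (F.X p)).obj (F'.X q)) :=
    fun p q hpq => by
      rcases hpq with h | h
      · exact (Functor.map_isZero (TX X) (show IsZero (F.X p) from hab p h)).obj _
      · exact Functor.map_isZero ((TX X).obj (F.X p)) (show IsZero (F'.X q) from hab' q h)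
  refine ⟨⟨a + a', b + b', fun n hn => isZero_tot_X (TX X) F F' n fun p q e => hz p q (by omega)⟩, fun n => ?_⟩
  obtain ⟨ι, π, h₁, h₂, h₃⟩ := exists_tot_decomposition (TX X) F F' n (Finset.Icc a b)
    fun p q hp => hz p q (Or.inl (by rw [Finset.mem_Icc] at hp; omega))
  exact isFinLocFree_of_decomposition _ ι π h₁ h₂ h₃ fun p => isFinLocFree_tensor (hE _) (hE' _)

/-- tensoring with a K-flat complex respects isomorphisms in `D(X)` -/
theorem nonempty_tensor_congr {E L L' : CochainComplex X.Modules ℤ} (hE : _root_.DCoh.IsKFlat E)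
    (e : DerivedCategory.Q.obj L ≅ DerivedCategory.Q.obj L') :
    Nonempty (DerivedCategory.Q.obj ((_root_.DCoh.tensorCx.obj E).obj L) ≅
      DerivedCategory.Q.obj ((_root_.DCoh.tensorCx.obj E).obj L')) := by
  obtain ⟨Z, s, hs, g, hg⟩ := DerivedCategory.right_fac e.hom
  haveI := hs
  haveI : IsIso (DerivedCategory.Q.map g) :=
    haveI : IsIso (CategoryTheory.inv (DerivedCategory.Q.map s) ≫ DerivedCategory.Q.map g) := hg ▸ inferInstance
    IsIso.of_isIso_comp_left (CategoryTheory.inv (DerivedCategory.Q.map s)) _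
  have h : ∀ {K K' : CochainComplex (_root_.ModSite.Mod X.sheaf) ℤ} (φ : K ⟶ K'), QuasiIso φ →
      QuasiIso ((Φ (TX X) (E : CochainComplex (_root_.ModSite.Mod X.sheaf) ℤ)).map φ) := fun {K K'} φ hφ =>
    quasiIso_Φ_map (TX X) φ E (acyc_of_iso (ΦFlip (TX X) _ _)
      ((isKFlat_flip_iff (O := X.sheaf) E).2 ((dcoh_isKFlat_iff E).1 hE) _ (acyc_cokernel_lift φ)))
  have hs' : IsIso (DerivedCategory.Q.map ((_root_.DCoh.tensorCx.obj E).map s)) :=
    (DerivedCategory.isIso_Q_map_iff_quasiIso _ _).2 (h s ((DerivedCategory.isIso_Q_map_iff_quasiIso _ s).1 hs))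
  have hg' : IsIso (DerivedCategory.Q.map ((_root_.DCoh.tensorCx.obj E).map g)) :=
    (DerivedCategory.isIso_Q_map_iff_quasiIso _ _).2
      (h g ((DerivedCategory.isIso_Q_map_iff_quasiIso _ g).1 inferInstance))
  exact ⟨(@asIso _ _ _ _ _ hs').symm ≪≫ @asIso _ _ _ _ _ hg'⟩

end Groth.Agent.KFlatLib
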