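import Groth.Agent.KFlatLib.StalkKFlat
import Mathlib.Algebra.Category.ModuleCat.Monoidal.Adjunction

/-!
Pullback of modules commutes with tensor products.
-/

universe u

open CategoryTheory Limits AlgebraicGeometry TopologicalSpace Opposite MonoidalCategory TensorProduct

namespace Groth.Agent.KFlatLib

variable {X Y : Scheme.{u}}

/-- the section `a ⊗ b` of `M ⊗ N` -/
noncomputable def tmulSec (M N : X.Modules) (U : X.Opens) (a : (pm M).obj (op U)) (b : (pm N).obj (op U)) :
    (pm (((TX X).obj M).obj N)).obj (op U) :=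
  (ModTensor.η (O := X.sheaf) (pm M ⊗ pm N)).app (op U) (a ⊗ₜ[X.presheaf.obj (op U)] b)

theorem tmulSec_add_left (M N : X.Modules) (U : X.Opens) (a a' : (pm M).obj (op U)) (b : (pm N).obj (op U)) :
    tmulSec M N U (a + a') b = tmulSec M N U a b + tmulSec M N U a' b :=
  (congrArg ((ModTensor.η (O := X.sheaf) (pm M ⊗ pm N)).app (op U)).hom (TensorProduct.add_tmul (R := X.presheaf.obj (op U)) a a' b)).trans
    (map_add ((ModTensor.η (O := X.sheaf) (pm M ⊗ pm N)).app (op U)).hom _ _)

theorem tmulSec_add_right (M N : X.Modules) (U : X.Opens) (a : (pm M).obj (op U)) (b b' : (pm N).obj (op U)) :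
    tmulSec M N U a (b + b') = tmulSec M N U a b + tmulSec M N U a b' :=
  (congrArg ((ModTensor.η (O := X.sheaf) (pm M ⊗ pm N)).app (op U)).hom (TensorProduct.tmul_add (R := X.presheaf.obj (op U)) a b b')).trans
    (map_add ((ModTensor.η (O := X.sheaf) (pm M ⊗ pm N)).app (op U)).hom _ _)

theorem tmulSec_smul_left (M N : X.Modules) (U : X.Opens) (r : X.presheaf.obj (op U)) (a : (pm M).obj (op U))
    (b : (pm N).obj (op U)) : tmulSec M N U (r • a) b = r • tmulSec M N U a b :=
  (congrArg ((ModTensor.η (O := X.sheaf) (pm M ⊗ pm N)).app (op U)).hom (TensorProduct.smul_tmul' (R := X.presheaf.obj (op U)) r a b).symm).trans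
    (map_smul ((ModTensor.η (O := X.sheaf) (pm M ⊗ pm N)).app (op U)).hom r _)

theorem tmulSec_smul_right (M N : X.Modules) (U : X.Opens) (r : X.presheaf.obj (op U)) (a : (pm M).obj (op U))
    (b : (pm N).obj (op U)) : tmulSec M N U a (r • b) = r • tmulSec M N U a b :=
  (congrArg ((ModTensor.η (O := X.sheaf) (pm M ⊗ pm N)).app (op U)).hom (TensorProduct.tmul_smul (R := X.presheaf.obj (op U)) r a b)).trans
    (map_smul ((ModTensor.η (O := X.sheaf) (pm M ⊗ pm N)).app (op U)).hom r _)

variable (f : X ⟶ Y) (M N : Y.Modules)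

/-- `f^* M ⊗ f^* N` -/
noncomputable abbrev pullT : X.Modules :=
  ((TX X).obj ((Scheme.Modules.pullback f).obj M)).obj ((Scheme.Modules.pullback f).obj N)

/-- the unit on sections -/
noncomputable abbrev pullSec (U : Y.Opens) (a : Γ(M, U)) : Γ((Scheme.Modules.pullback f).obj M, f ⁻¹ᵁ U) :=
  ((Scheme.Modules.pullbackPushforwardAdjunction f).unit.app M).app U a

theorem pullSec_smul (U : Y.Opens) (r : Γ(Y, U)) (a : Γ(M, U)) :
    pullSec f M U (r • a) = f.app U r • pullSec f M U a :=
  ((Scheme.Modules.pullbackPushforwardAdjunction f).unit.app M).app_smul r a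

/-- `(a, b) ↦ η a ⊗ η b` -/
noncomputable def preHom : pm M ⊗ pm N ⟶ pm ((Scheme.Modules.pushforward f).obj (pullT f M N)) where
  app U := ModuleCat.MonoidalCategory.tensorLift
    (fun a b => tmulSec _ _ (f ⁻¹ᵁ U.unop) (pullSec f M U.unop a) (pullSec f N U.unop b))
    (fun a a' b => (congrArg (fun z => tmulSec _ _ (f ⁻¹ᵁ U.unop) z (pullSec f N U.unop b))
      (map_add (((Scheme.Modules.pullbackPushforwardAdjunction f).unit.app M).app U.unop).hom a a')).trans
        (tmulSec_add_left _ _ _ _ _ _))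
    (fun r a b => (congrArg (fun z => tmulSec _ _ (f ⁻¹ᵁ U.unop) z (pullSec f N U.unop b))
      (pullSec_smul f M U.unop r a)).trans (tmulSec_smul_left _ _ _ _ _ _))
    (fun a b b' => (congrArg (tmulSec _ _ (f ⁻¹ᵁ U.unop) (pullSec f M U.unop a))
      (map_add (((Scheme.Modules.pullbackPushforwardAdjunction f).unit.app N).app U.unop).hom b b')).trans
        (tmulSec_add_right _ _ _ _ _ _))
    (fun r a b => (congrArg (tmulSec _ _ (f ⁻¹ᵁ U.unop) (pullSec f M U.unop a))
      (pullSec_smul f N U.unop r b)).trans (tmulSec_smul_right _ _ _ _ _ _))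
  naturality {U V} i := by
    refine ModuleCat.MonoidalCategory.tensor_ext fun a b => ?_
    have ha : ∀ (P : Y.Modules) (s : Γ(P, U.unop)),
        pullSec f P V.unop (P.presheaf.map i s) =
          ((Scheme.Modules.pullback f).obj P).presheaf.map ((Opens.map f.base).op.map i) (pullSec f P U.unop s) :=
      fun P s => PresheafOfModules.naturality_apply
        ((Scheme.Modules.pullbackPushforwardAdjunction f).unit.app P).1 i s
    refine Eq.trans ?_ (PresheafOfModules.naturality_apply
      (ModTensor.η (O := X.sheaf) (pm ((Scheme.Modules.pullback f).obj M) ⊗ pm ((Scheme.Modules.pullback f).obj N)))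
      ((Opens.map f.base).op.map i) (pullSec f M U.unop a ⊗ₜ[X.presheaf.obj _] pullSec f N U.unop b))
    show tmulSec _ _ _ (pullSec f M V.unop (M.presheaf.map i a)) (pullSec f N V.unop (N.presheaf.map i b)) = _
    rw [ha, ha]
    rfl

/-- `M ⊗ N ⟶ f_* (f^* M ⊗ f^* N)` -/
noncomputable def tensorToPush : ((TX Y).obj M).obj N ⟶ (Scheme.Modules.pushforward f).obj (pullT f M N) :=
  ((ModTensor.adj Y.sheaf).homEquiv (pm M ⊗ pm N) ((Scheme.Modules.pushforward f).obj (pullT f M N))).symm
    (preHom f M N)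

theorem tensorToPush_app (U : Y.Opens) (a : (pm M).obj (op U)) (b : (pm N).obj (op U)) :
    Scheme.Modules.Hom.app (tensorToPush f M N) U (tmulSec M N U a b) =
      tmulSec _ _ (f ⁻¹ᵁ U) (pullSec f M U a) (pullSec f N U b) := by
  have h := ((ModTensor.adj Y.sheaf).homEquiv (pm M ⊗ pm N)
    ((Scheme.Modules.pushforward f).obj (pullT f M N))).apply_symm_apply (preHom f M N)
  rw [Adjunction.homEquiv_unit] at h
  exact congrArg (fun φ => φ.app (op U) (a ⊗ₜ[Y.presheaf.obj (op U)] b)) h

/-- `f^*(M ⊗ N) ⟶ f^* M ⊗ f^* N` -/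
noncomputable def pullTensorHom : (Scheme.Modules.pullback f).obj (((TX Y).obj M).obj N) ⟶ pullT f M N :=
  ((Scheme.Modules.pullbackPushforwardAdjunction f).homEquiv _ _).symm (tensorToPush f M N)

theorem pullTensorHom_pullSec (U : Y.Opens) (a : (pm M).obj (op U)) (b : (pm N).obj (op U)) :
    (pullTensorHom f M N).app (f ⁻¹ᵁ U) (pullSec f (((TX Y).obj M).obj N) U (tmulSec M N U a b)) =
      tmulSec _ _ (f ⁻¹ᵁ U) (pullSec f M U a) (pullSec f N U b) := by
  have h := ((Scheme.Modules.pullbackPushforwardAdjunction f).homEquiv _ _).apply_symm_apply (tensorToPush f M N)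
  rw [Adjunction.homEquiv_unit] at h
  exact (congrArg (fun φ => Scheme.Modules.Hom.app φ U (tmulSec M N U a b)) h).trans (tensorToPush_app f M N U a b)

variable {f M N} in
theorem pullTensorHom_ext {T : X.Modules}
    {α β : (Scheme.Modules.pullback f).obj (((TX Y).obj M).obj N) ⟶ T}
    (h : ∀ (U : Y.Opens) (a : (pm M).obj (op U)) (b : (pm N).obj (op U)),
      α.app (f ⁻¹ᵁ U) (pullSec f _ U (tmulSec M N U a b)) = β.app (f ⁻¹ᵁ U) (pullSec f _ U (tmulSec M N U a b))) :
    α = β := by
  refine ((Scheme.Modules.pullbackPushforwardAdjunction f).homEquiv _ _).injective ?_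
  rw [Adjunction.homEquiv_unit, Adjunction.homEquiv_unit]
  refine ((ModTensor.adj Y.sheaf).homEquiv (pm M ⊗ pm N) ((Scheme.Modules.pushforward f).obj T)).injective ?_
  rw [Adjunction.homEquiv_unit, Adjunction.homEquiv_unit]
  refine PresheafOfModules.hom_ext fun U => ModuleCat.MonoidalCategory.tensor_ext fun a b => ?_
  exact h U.unop a b

theorem pullTensorHom_natural₁ {M' : Y.Modules} (g : M ⟶ M') :
    (Scheme.Modules.pullback f).map (((TX Y).map g).app N) ≫ pullTensorHom f M' N =
      pullTensorHom f M N ≫ ((TX X).map ((Scheme.Modules.pullback f).map g)).app _ := by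
  refine pullTensorHom_ext fun U a b => ?_
  have hu : ∀ {P Q : Y.Modules} (φ : P ⟶ Q) (s : Γ(P, U)),
      ((Scheme.Modules.pullback f).map φ).app (f ⁻¹ᵁ U) (pullSec f P U s) = pullSec f Q U (φ.app U s) := fun φ s =>
    (congrArg (fun ψ => Scheme.Modules.Hom.app ψ U s)
      ((Scheme.Modules.pullbackPushforwardAdjunction f).unit.naturality φ)).symm
  have ht : ∀ {Z : Scheme.{u}} {P P' Q : Z.Modules} (φ : P ⟶ P') (V : Z.Opens) (p : (pm P).obj (op V))
      (q : (pm Q).obj (op V)),
      Scheme.Modules.Hom.app (((TX Z).map φ).app Q) V (tmulSec P Q V p q) = tmulSec P' Q V (φ.app V p) q := fun {Z P P' Q} φ V p q => by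
    let φ' : pm P ⟶ pm P' := φ.1
    exact (congrArg (fun ψ => ψ.app (op V) (p ⊗ₜ[Z.presheaf.obj (op V)] q))
      ((ModTensor.adj Z.sheaf).unit.naturality (φ' ▷ pm Q))).symm
  show (pullTensorHom f M' N).app _ (((Scheme.Modules.pullback f).map (((TX Y).map g).app N)).app _ _) =
    Scheme.Modules.Hom.app (((TX X).map ((Scheme.Modules.pullback f).map g)).app _) _ ((pullTensorHom f M N).app _ _)
  rw [hu, ht, pullTensorHom_pullSec, pullTensorHom_pullSec, ht, hu]

theorem pullTensorHom_natural₂ {N' : Y.Modules} (g : N ⟶ N') :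
    (Scheme.Modules.pullback f).map (((TX Y).obj M).map g) ≫ pullTensorHom f M N' =
      pullTensorHom f M N ≫ ((TX X).obj _).map ((Scheme.Modules.pullback f).map g) := by
  refine pullTensorHom_ext fun U a b => ?_
  have hu : ∀ {P Q : Y.Modules} (φ : P ⟶ Q) (s : Γ(P, U)),
      ((Scheme.Modules.pullback f).map φ).app (f ⁻¹ᵁ U) (pullSec f P U s) = pullSec f Q U (φ.app U s) := fun φ s =>
    (congrArg (fun ψ => Scheme.Modules.Hom.app ψ U s)
      ((Scheme.Modules.pullbackPushforwardAdjunction f).unit.naturality φ)).symm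
  have ht : ∀ {Z : Scheme.{u}} {P Q Q' : Z.Modules} (φ : Q ⟶ Q') (V : Z.Opens) (p : (pm P).obj (op V))
      (q : (pm Q).obj (op V)),
      Scheme.Modules.Hom.app (((TX Z).obj P).map φ) V (tmulSec P Q V p q) = tmulSec P Q' V p (φ.app V q) := fun {Z P Q Q'} φ V p q => by
    let φ' : pm Q ⟶ pm Q' := φ.1
    exact (congrArg (fun ψ => ψ.app (op V) (p ⊗ₜ[Z.presheaf.obj (op V)] q))
      ((ModTensor.adj Z.sheaf).unit.naturality (pm P ◁ φ'))).symm
  show (pullTensorHom f M N').app _ (((Scheme.Modules.pullback f).map (((TX Y).obj M).map g)).app _ _) =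
    Scheme.Modules.Hom.app (((TX X).obj _).map ((Scheme.Modules.pullback f).map g)) _ ((pullTensorHom f M N).app _ _)
  rw [hu, ht, pullTensorHom_pullSec, pullTensorHom_pullSec, ht, hu]

open Functor in
theorem isIso_pullTensorHom : IsIso (pullTensorHom f M N) := by
  have h : ∀ x : X, IsIso ((SF x).map (pullTensorHom f M N)) := fun x => by
    let φ := (f.stalkMap x).hom
    let T := TM (X.presheaf.stalk x)
    let T₀ := TM (Y.presheaf.stalk (f x))
    let E := ModuleCat.extendScalars φ
    let e : E.obj ((SF (f x)).obj (((TX Y).obj M).obj N)) ≅ (SF x).obj (pullT f M N) :=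
      E.mapIso (tensorStalkIso (f x) M N).symm ≪≫
        (Monoidal.μIso E ((SF (f x)).obj M) ((SF (f x)).obj N)).symm ≪≫
        tensorIso (pullStalkIso f x M) (pullStalkIso f x N) ≪≫
        tensorStalkIso x _ _
    have key : (pullStalkIso f x (((TX Y).obj M).obj N)).hom ≫ (SF x).map (pullTensorHom f M N) = e.hom := by
      refine ModuleCat.ExtendScalars.hom_ext fun v => ?_
      obtain ⟨z, rfl⟩ : ∃ z, (tensorStalkIso (f x) M N).hom z = v :=
        ⟨(tensorStalkIso (f x) M N).inv v, by simp⟩
      induction z using TensorProduct.induction_on with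
      | zero => rw [_root_.map_zero (tensorStalkIso (f x) M N).hom.hom, TensorProduct.tmul_zero]; exact (_root_.map_zero _).trans (_root_.map_zero _).symm
      | add z w hz hw =>
        rw [_root_.map_add (tensorStalkIso (f x) M N).hom.hom, TensorProduct.tmul_add]
        exact (_root_.map_add _ _ _).trans ((congrArg₂ (· + ·) hz hw).trans (_root_.map_add _ _ _).symm)
      | tmul m n =>
        letI := φ.toAlgebra
        refine tensor_ext_germ (pm M) (pm N) (f x) (fun z =>
          ((pullStalkIso f x (((TX Y).obj M).obj N)).hom ≫ (SF x).map (pullTensorHom f M N)).hom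
            ((1 : X.presheaf.stalk x) ⊗ₜ[Y.presheaf.stalk (f x)] (tensorStalkIso (f x) M N).hom z) =
          e.hom.hom ((1 : X.presheaf.stalk x) ⊗ₜ[Y.presheaf.stalk (f x)] (tensorStalkIso (f x) M N).hom z))
          (fun V hV a b => ?_) m n
        show (SF x).map (pullTensorHom f M N) ((pullStalkIso f x (((TX Y).obj M).obj N)).hom _) =
          (tensorStalkIso x _ _).hom ((tensorIso (pullStalkIso f x M)
          (pullStalkIso f x N)).hom ((Monoidal.μIso E _ _).inv ((E.mapIso (tensorStalkIso (f x) M N).symm).hom _)))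
        erw [ModuleCat.ExtendScalars.map_tmul, Iso.hom_inv_id_apply (tensorStalkIso (f x) M N)]
        refine (congrArg _ ((pullStalkIso_tmul f x _ _).trans ((congrArg (ModStalk.pullGerm f _ x)
          (tensorStalkIso_germ (f x) M N V hV a b)).trans (ModStalk.pullGerm_germ f _ x hV _)))).trans ?_
        refine (SF_map_gm x _ (f ⁻¹ᵁ V) hV _).trans ?_
        refine (congrArg _ (pullTensorHom_pullSec f M N V a b)).trans ?_
        refine (tensorStalkIso_germ x _ _ (f ⁻¹ᵁ V) hV _ _).symm.trans (congrArg _ ?_)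
        show _ = (pullStalkIso f x M).hom ((1 : X.presheaf.stalk x) ⊗ₜ[Y.presheaf.stalk (f x)] gm (pm M) (f x) V hV a)
          ⊗ₜ[X.presheaf.stalk x]
          (pullStalkIso f x N).hom ((1 : X.presheaf.stalk x) ⊗ₜ[Y.presheaf.stalk (f x)] gm (pm N) (f x) V hV b)
        exact congrArg₂ (fun p q => p ⊗ₜ[X.presheaf.stalk x] q)
          ((ModStalk.pullGerm_germ f M x hV a).symm.trans (pullStalkIso_tmul f x M _).symm)
          ((ModStalk.pullGerm_germ f N x hV b).symm.trans (pullStalkIso_tmul f x N _).symm)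
    haveI : IsIso ((pullStalkIso f x (((TX Y).obj M).obj N)).hom ≫ (SF x).map (pullTensorHom f M N)) := by
      rw [key]; infer_instance
    exact IsIso.of_isIso_comp_left (pullStalkIso f x (((TX Y).obj M).obj N)).hom _
  have hmono : Mono (pullTensorHom f M N) := by
    haveI : ∀ x : X, PreservesLimit (parallelPair (pullTensorHom f M N) 0) (SF x) := fun x =>
      Functor.PreservesHomology.preservesKernel (SF x) (pullTensorHom f M N)
    refine Abelian.mono_of_kernel_ι_eq_zero _ ((isZero_of_stalks fun x => ?_).eq_of_src _ _)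
    haveI := h x
    exact (isZero_kernel_of_mono ((SF x).map (pullTensorHom f M N))).of_iso (PreservesKernel.iso (SF x) _)
  have hepi : Epi (pullTensorHom f M N) := by
    haveI : ∀ x : X, PreservesColimit (parallelPair (pullTensorHom f M N) 0) (SF x) := fun x =>
      Functor.PreservesHomology.preservesCokernel (SF x) (pullTensorHom f M N)
    refine Abelian.epi_of_cokernel_π_eq_zero _ ((isZero_of_stalks fun x => ?_).eq_of_tgt _ _)
    haveI := h x
    exact (isZero_cokernel_of_epi ((SF x).map (pullTensorHom f M N))).of_iso (PreservesCokernel.iso (SF x) _)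
  exact isIso_of_mono_of_epi _

/-- `f^* M ⊗ f^* N ≅ f^* (M ⊗ N)` -/
noncomputable def pullTensorIso : pullT f M N ≅ (Scheme.Modules.pullback f).obj (((TX Y).obj M).obj N) :=
  haveI := isIso_pullTensorHom f M N
  (asIso (pullTensorHom f M N)).symm

end Groth.Agent.KFlatLib
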