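import Groth.Agent.KFlatLib.Space
import Groth.Agent.ModStalk.Pullback
import Groth.Prelude.Def_DCoh4
import Groth.Prelude.Def_FlatMod2

/-!
K-flat complexes of modules on a scheme.
-/

universe u

open CategoryTheory Limits AlgebraicGeometry HomologicalComplex TopologicalSpace Opposite MonoidalCategory

namespace Groth.Agent.KFlatLib

variable (X : Scheme.{u})

/-- the tensor bifunctor -/
noncomputable abbrev TX : _root_.ModSite.Mod X.sheaf ⥤ _root_.ModSite.Mod X.sheaf ⥤ _root_.ModSite.Mod X.sheaf :=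
  _root_.ModSite.tensorBi X.sheaf

variable {X}

theorem stalkwiseFlat_iff (F : X.Modules) :
    FlatMod.IsFlat F ↔ StalkwiseFlat (O := X.sheaf) (F : _root_.ModSite.Mod X.sheaf) := Iff.rfl

theorem dcoh_isKFlat_iff (K : CochainComplex X.Modules ℤ) :
    _root_.DCoh.IsKFlat K ↔ IsKFlat (TX X) K := Iff.rfl

theorem tflat_of_flatMod {F : X.Modules} (h : FlatMod.IsFlat F) : TFlat (TX X) F :=
  tflat_of_stalkwiseFlat ((stalkwiseFlat_iff F).1 h)

variable (X) in
theorem exists_epi_flatMod (B : X.Modules) : ∃ (P : X.Modules) (π : P ⟶ B), Epi π ∧ FlatMod.IsFlat P :=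
  let ⟨P, π, h₁, h₂⟩ := exists_epi_stalkwiseFlat (O := X.sheaf) (B : _root_.ModSite.Mod X.sheaf)
  ⟨P, π, h₁, (stalkwiseFlat_iff P).2 h₂⟩

/-- a scheme module as a presheaf of modules over `X.presheaf` -/
noncomputable abbrev pm (M : X.Modules) : PM (R := X.presheaf) :=
  ModTensor.psh (O := X.sheaf) (M : _root_.ModSite.Mod X.sheaf)

/-- the value at `x` of germs of a skyscraper module -/
theorem exists_skyEv (x : X) (N : Type u) [AddCommGroup N] [Module (X.presheaf.stalk x) N] :
    ∃ e : St (pm (ModStalk.skyMod x N)) x ≃ₗ[X.presheaf.stalk x] N,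
      ∀ (U : X.Opens) (hx : x ∈ U) (s), e (gm (pm (ModStalk.skyMod x N)) x U hx s) = ModStalk.skyVal hx s := by
  obtain ⟨l, hl⟩ := ModStalk.exists_stalkVal (ModStalk.skyMod x N) (𝟙 _)
  refine ⟨LinearEquiv.ofBijective (l : St (pm (ModStalk.skyMod x N)) x →ₗ[X.presheaf.stalk x] N)
    ⟨(injective_iff_map_eq_zero l).2 fun m hm => ?_, fun n => ?_⟩, fun U hx s => hl U hx s⟩
  · obtain ⟨U, hU, s, rfl⟩ := (ModStalk.skyMod x N).presheaf.exists_germ_eq m
    rw [hl] at hm
    rw [show s = 0 from ModStalk.sky_ext fun hx => hm.trans (map_zero (ModStalk.skyVal hx)).symm]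
    exact map_zero _
  · exact ⟨(ModStalk.skyMod x N).presheaf.germ ⊤ x trivial (ModStalk.skyMk ⊤ fun _ => n), hl ⊤ trivial _⟩

theorem flatMod_of_tflat {F : X.Modules} (hF : TFlat (TX X) F) : FlatMod.IsFlat F := by
  intro x
  show Module.Flat (X.presheaf.stalk x) (St (pm F) x)
  rw [Module.Flat.iff_rTensor_preserves_injective_linearMap]
  intro N N' _ _ _ _ l hl
  obtain ⟨e, he⟩ := exists_skyEv x N
  obtain ⟨e', he'⟩ := exists_skyEv x N'
  let g : ModStalk.skyMod x N ⟶ ModStalk.skyMod x N' :=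
    ModStalk.toSky (ModStalk.skyMod x N) (l ∘ₗ (e : St (pm (ModStalk.skyMod x N)) x →ₗ[X.presheaf.stalk x] N))
  let g' : pm (ModStalk.skyMod x N) ⟶ pm (ModStalk.skyMod x N') := g.1
  have hval : ∀ (U : X.Opens) (hx : x ∈ U) (s),
      ModStalk.skyVal hx (g.app U s) = l (ModStalk.skyVal hx s) := fun U hx s =>
    (ModStalk.skyVal_toSky (ModStalk.skyMod x N) _ hx s).trans (congrArg l (he U hx s))
  have hinj : ∀ U, Function.Injective (g.app U) := fun U a b h =>
    ModStalk.sky_ext fun hx => hl (by rw [← hval, ← hval, h])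
  have hg : stalkLin g' x = (e'.symm : N' →ₗ[X.presheaf.stalk x] St (pm (ModStalk.skyMod x N')) x) ∘ₗ l ∘ₗ
      (e : St (pm (ModStalk.skyMod x N)) x →ₗ[X.presheaf.stalk x] N) := by
    refine LinearMap.ext fun m => e'.injective ?_
    obtain ⟨U, hU, s, rfl⟩ := gm_surj (pm (ModStalk.skyMod x N)) x m
    rw [stalkLin_gm]
    exact (he' U hU _).trans ((hval U hU s).trans (by simp [he U hU s]))
  haveI : Mono g := by
    haveI : Mono g' := PresheafOfModules.mono_of_injective fun U => hinj U.unop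
    exact (SheafOfModules.forget X.ringCatSheaf).mono_of_mono_map ‹Mono g'›
  haveI := hF.2
  have hm : Mono ((ModTensor.sh X.sheaf).map (g' ▷ pm F)) :=
    @Functor.PreservesMonomorphisms.preserves _ _ _ _ ((TX X).flip.obj F) hF.2
      (ModStalk.skyMod x N : _root_.ModSite.Mod X.sheaf) (ModStalk.skyMod x N' : _root_.ModSite.Mod X.sheaf) g ‹Mono g›
  have h1 := @injective_rTensor_of_isLocallyInjective _ X.presheaf _ _ g' (pm F)
    (isLocallyInjective_of_mono (O := X.sheaf) _ hm) x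
  rw [hg, LinearMap.rTensor_comp, LinearMap.rTensor_comp, LinearMap.coe_comp, LinearMap.coe_comp] at h1
  have h2 : Function.Injective (LinearMap.rTensor (St (pm F) x) l ∘
      LinearMap.rTensor (St (pm F) x) (e : St (pm (ModStalk.skyMod x N)) x →ₗ[X.presheaf.stalk x] N)) := h1.of_comp
  exact h2.of_comp_right (LinearEquiv.rTensor (St (pm F) x) e).surjective

end Groth.Agent.KFlatLib
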