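import Groth.Agent.KFlatLib.StalkFlat
import Groth.Agent.KFlatLib.ModSite

/-!
Modules with flat stalks on a ringed space are flat; enough such.
-/

universe u

open CategoryTheory Limits Opposite TopologicalSpace MonoidalCategory

namespace Groth.Agent.KFlatLib

variable {X : TopCat.{u}} {O : TopCat.Sheaf CommRingCat.{u} X}

/-- all stalks flat -/
def StalkwiseFlat (F : _root_.ModSite.Mod O) : Prop :=
  ∀ x : X, Module.Flat (TopCat.Presheaf.stalk (C := CommRingCat.{u}) O.obj x) (St (R := O.obj) (ModTensor.psh F) x)

theorem mono_sh_map {P Q : ModTensor.Psh O} (g : P ⟶ Q)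
    [Presheaf.IsLocallyInjective (Opens.grothendieckTopology X) ((PresheafOfModules.toPresheaf _).map g)] :
    Mono ((ModTensor.sh O).map g) := by
  haveI h : Sheaf.IsLocallyInjective
      ((presheafToSheaf (Opens.grothendieckTopology X) AddCommGrpCat.{u}).map
        ((PresheafOfModules.toPresheaf _).map g)) :=
    (Presheaf.isLocallyInjective_presheafToSheaf_map_iff _ _).2 inferInstance
  have hm : Mono ((presheafToSheaf (Opens.grothendieckTopology X) AddCommGrpCat.{u}).map
      ((PresheafOfModules.toPresheaf _).map g)) := Sheaf.mono_of_isLocallyInjective _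
  exact (SheafOfModules.toSheaf.{u} (_root_.ModSite.ringSh O)).mono_of_mono_map hm

theorem isLocallyInjective_of_mono {P Q : ModTensor.Psh O} (g : P ⟶ Q) (h : Mono ((ModTensor.sh O).map g)) :
    Presheaf.IsLocallyInjective (Opens.grothendieckTopology X) ((PresheafOfModules.toPresheaf _).map g) := by
  let J := Opens.grothendieckTopology X
  rw [← Presheaf.isLocallyInjective_presheafToSheaf_map_iff]
  rw [Sheaf.isLocallyInjective_iff_injective]
  intro U
  haveI : Mono ((ModTensor.fgt O).map ((ModTensor.sh O).map g)) := inferInstance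
  exact PresheafOfModules.injective_of_mono ((ModTensor.fgt O).map ((ModTensor.sh O).map g)) U

theorem tflat_of_stalkwiseFlat {F : _root_.ModSite.Mod O} (h : StalkwiseFlat F) :
    TFlat (_root_.ModSite.tensorBi O) F := by
  refine tflat_of_isFlat ((ModTensor.isFlat_iff F).2 ⟨fun {A B} f hf => ?_⟩)
  haveI : Mono ((ModTensor.fgt O).map f) := inferInstance
  haveI := isLocallyInjective_whiskerRight (R := O.obj) ((ModTensor.fgt O).map f)
    (fun U => PresheafOfModules.injective_of_mono ((ModTensor.fgt O).map f) U) (ModTensor.psh F) h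
  exact mono_sh_map (((ModTensor.fgt O).map f) ▷ ModTensor.psh F)

theorem exists_epi_stalkwiseFlat (B : _root_.ModSite.Mod O) :
    ∃ (P : _root_.ModSite.Mod O) (π : P ⟶ B), Epi π ∧ StalkwiseFlat P := by
  obtain ⟨P, π, hP, hπ⟩ := ModTensor.exists_epi_flat (ModTensor.psh B)
  let A := ModTensor.adj O
  refine ⟨(ModTensor.sh O).obj P, (ModTensor.sh O).map π ≫ A.counit.app B, ?_, fun x => ?_⟩
  · haveI : IsIso A.counit :=
      (inferInstance : IsIso (PresheafOfModules.sheafificationAdjunction (𝟙 (_root_.ModSite.ringSh O).obj)).counit)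
    haveI hm : Epi ((ModTensor.sh O).map π) :=
      haveI : (ModTensor.sh O).PreservesEpimorphisms := Functor.preservesEpimorphisms_of_adjunction A
      inferInstance
    haveI hc : IsIso (A.counit.app B) := (NatIso.isIso_app_of_isIso A.counit B)
    exact @epi_comp _ _ _ _ _ _ hm (A.counit.app B) (@IsIso.epi_of_iso _ _ _ _ _ hc)
  · haveI := flat_stalk_of_sectionwise (R := O.obj) P hP x
    exact flat_stalk_of_bijective (R := O.obj) (ModTensor.η P) x

theorem bijective_stalkLin_η (P : ModTensor.Psh O) (x : X) :
    Function.Bijective (stalkLin (R := O.obj) (ModTensor.η P) x) :=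
  bijective_stalkLin (R := O.obj) (ModTensor.η P) x

end Groth.Agent.KFlatLib
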