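import Mathlib

/-!
Presheaves of modules on a space: flatness of stalks, tensor products with stalkwise flat presheaves.
-/

universe u

open CategoryTheory Opposite TopologicalSpace MonoidalCategory

namespace Groth.Agent.KFlatLib

variable {X : TopCat.{u}} {R : X.Presheaf CommRingCat.{u}}

/-- modules over `R` -/
abbrev PM (R : X.Presheaf CommRingCat.{u}) := PresheafOfModules.{u} (R ⋙ forget₂ CommRingCat RingCat)

/-- the underlying presheaf -/
noncomputable abbrev pp (P : PM R) : X.Presheaf AddCommGrpCat.{u} := P.presheaf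

/-- the stalk -/
noncomputable abbrev St (P : PM R) (x : X) : Type u := ↑(TopCat.Presheaf.stalk P.presheaf x)

/-- germ as additive map on sections of the module -/
noncomputable def gm (P : PM R) (x : X) (V : Opens X) (hV : x ∈ V) : P.obj (op V) →+ St P x :=
  ((pp P).germ V x hV).hom

/-- restriction as additive map on sections of the module -/
noncomputable def rs (P : PM R) {V W : Opens X} (i : W ⟶ V) : P.obj (op V) →+ P.obj (op W) :=
  ((pp P).map i.op).hom

theorem gm_rs (P : PM R) (x : X) {V W : Opens X} (i : W ⟶ V) (hW : x ∈ W) (s : P.obj (op V)) :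
    gm P x W hW (rs P i s) = gm P x V (leOfHom i hW) s :=
  (pp P).germ_res_apply i x hW s

theorem gm_smul (P : PM R) (x : X) (V : Opens X) (hV : x ∈ V) (r : R.obj (op V)) (s : P.obj (op V)) :
    gm P x V hV (r • s) = R.germ V x hV r • gm P x V hV s :=
  PresheafOfModules.germ_smul P x V hV r s

theorem rs_smul (P : PM R) {V W : Opens X} (i : W ⟶ V) (r : R.obj (op V)) (s : P.obj (op V)) :
    rs P i (r • s) = (R.map i.op r : R.obj (op W)) • rs P i s :=
  P.map_smul i.op r s

theorem rs_comp (P : PM R) {U V W : Opens X} (i : V ⟶ U) (j : W ⟶ V) (s : P.obj (op U)) :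
    rs P (j ≫ i) s = rs P j (rs P i s) := by
  show (pp P).map (j ≫ i).op s = (pp P).map j.op ((pp P).map i.op s)
  simp
  rfl

theorem gm_eq (P : PM R) (x : X) {U V : Opens X} (hU : x ∈ U) (hV : x ∈ V) {s : P.obj (op U)} {t : P.obj (op V)}
    (h : gm P x U hU s = gm P x V hV t) :
    ∃ (W : Opens X) (_ : x ∈ W) (i : W ⟶ U) (j : W ⟶ V), rs P i s = rs P j t :=
  (pp P).germ_eq x hU hV s t h

theorem gm_surj (P : PM R) (x : X) (m : St P x) :
    ∃ (U : Opens X) (hU : x ∈ U) (s : P.obj (op U)), gm P x U hU s = m :=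
  (pp P).exists_germ_eq (x := x) m

theorem exists_common_germ (P : PM R) (x : X) {l : ℕ} (m : Fin l → St P x)
    (U : Opens X) (hU : x ∈ U) :
    ∃ (V : Opens X) (hV : x ∈ V) (_ : V ≤ U), ∀ i, ∃ s : P.obj (op V), gm P x V hV s = m i := by
  induction l with
  | zero => exact ⟨U, hU, le_rfl, fun i => i.elim0⟩
  | succ l ih =>
    obtain ⟨V, hV, hle, h⟩ := ih (fun i => m i.succ)
    obtain ⟨W, hW, t, ht⟩ := gm_surj P x (m 0)
    refine ⟨V ⊓ W, ⟨hV, hW⟩, inf_le_left.trans hle, fun i => ?_⟩
    refine Fin.cases ⟨rs P (homOfLE (inf_le_right : V ⊓ W ≤ W)) t, ?_⟩ (fun i => ?_) i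
    · rw [gm_rs]
      exact ht
    · obtain ⟨s, hs⟩ := h i
      exact ⟨rs P (homOfLE (inf_le_left : V ⊓ W ≤ V)) s, by rw [gm_rs]; exact hs⟩

/-- stalks of sectionwise flat presheaves are flat -/
theorem flat_stalk_of_sectionwise (P : PM R)
    (hP : ∀ U : (Opens X)ᵒᵖ, Module.Flat (R.obj U) (P.obj U)) (x : X) :
    Module.Flat (R.stalk x) (St P x) := by
  refine Module.Flat.of_forall_isTrivialRelation fun {l f m} h => ?_
  choose U hU r hr using fun i => R.exists_germ_eq (x := x) (f i)
  obtain ⟨V, hV, hle, hm⟩ := exists_common_germ P x m (Finset.univ.inf U) (by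
    clear h hr r
    induction (Finset.univ : Finset (Fin l)) using Finset.induction with
    | empty => simp
    | insert a s _ ih => rw [Finset.inf_insert]; exact ⟨hU a, ih⟩)
  choose y hy using hm
  let a : Fin l → R.obj (op V) := fun i =>
    R.map (homOfLE (hle.trans (Finset.inf_le (Finset.mem_univ i)))).op (r i)
  have ha : ∀ i, R.germ V x hV (a i) = f i := fun i => by
    rw [TopCat.Presheaf.germ_res_apply]; exact hr i
  have h0 : gm P x V hV (∑ i, a i • y i) = gm P x V hV 0 := by
    rw [map_zero, map_sum, ← h]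
    exact Finset.sum_congr rfl fun i _ => by rw [gm_smul, ha, hy]
  obtain ⟨W, hW, iW, iW', e⟩ := gm_eq P x hV hV h0
  rw [map_zero, map_sum] at e
  haveI := hP (op W)
  let b : Fin l → R.obj (op W) := fun i => R.map iW.op (a i)
  have e' : ∑ i, b i • rs P iW (y i) = 0 := by
    refine Eq.trans (Finset.sum_congr rfl fun i _ => ?_) e
    exact (rs_smul P iW (a i) (y i)).symm
  obtain ⟨k, c, w, hz, hc⟩ := Module.Flat.isTrivialRelation_of_sum_smul_eq_zero (R := R.obj (op W)) e'
  refine ⟨k, fun i j => R.germ W x hW (c i j), fun j => gm P x W hW (w j), fun i => ?_, fun j => ?_⟩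
  · rw [← hy i, ← gm_rs P x iW hW (y i), show rs P iW (y i) = _ from hz i, map_sum]
    exact Finset.sum_congr rfl fun j _ => gm_smul P x W hW _ _
  · rw [← map_zero (R.germ W x hW).hom, ← hc j, map_sum]
    refine Finset.sum_congr rfl fun i _ => ?_
    rw [map_mul, ← ha i, ← R.germ_res_apply iW x hW (a i)]

/-- the map on stalks as a linear map -/
noncomputable def stalkLin {P Q : PM R} (g : P ⟶ Q) (x : X) : St P x →ₗ[R.stalk x] St Q x where
  toFun := (TopCat.Presheaf.stalkFunctor AddCommGrpCat.{u} x).map ((PresheafOfModules.toPresheaf _).map g)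
  map_add' := map_add _
  map_smul' r m := by
    obtain ⟨U, hU, a, ha⟩ := R.exists_germ_eq (x := x) r
    obtain ⟨V, hV, hle, h⟩ := exists_common_germ P x (fun _ : Fin 1 => m) U hU
    obtain ⟨s, hs⟩ := h 0
    have key : ∀ t : P.obj (op V),
        (TopCat.Presheaf.stalkFunctor AddCommGrpCat.{u} x).map ((PresheafOfModules.toPresheaf _).map g)
          (gm P x V hV t) = gm Q x V hV (g.app (op V) t) := fun t =>
      TopCat.Presheaf.stalkFunctor_map_germ_apply V x hV ((PresheafOfModules.toPresheaf _).map g) t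
    rw [← hs, ← ha, ← R.germ_res_apply (homOfLE hle) x hV a, RingHom.id_apply, ← gm_smul, key, key, map_smul,
      gm_smul]

theorem stalkLin_gm {P Q : PM R} (g : P ⟶ Q) (x : X) (U : Opens X) (hU : x ∈ U) (s : P.obj (op U)) :
    stalkLin g x (gm P x U hU s) = gm Q x U hU (g.app (op U) s) :=
  TopCat.Presheaf.stalkFunctor_map_germ_apply U x hU ((PresheafOfModules.toPresheaf _).map g) s

theorem rs_app {P Q : PM R} (g : P ⟶ Q) {V W : Opens X} (i : W ⟶ V) (s : P.obj (op V)) :
    g.app (op W) (rs P i s) = rs Q i (g.app (op V) s) :=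
  NatTrans.naturality_apply ((PresheafOfModules.toPresheaf _).map g) i.op s

theorem bijective_stalkLin {P Q : PM R} (g : P ⟶ Q)
    [Presheaf.IsLocallyInjective (Opens.grothendieckTopology X) ((PresheafOfModules.toPresheaf _).map g)]
    [Presheaf.IsLocallySurjective (Opens.grothendieckTopology X) ((PresheafOfModules.toPresheaf _).map g)]
    (x : X) : Function.Bijective (stalkLin g x) := by
  refine ⟨?_, fun m => ?_⟩
  · intro m m' h
    obtain ⟨V, hV, -, hs⟩ := exists_common_germ P x ![m, m'] ⊤ trivial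
    obtain ⟨s, rfl⟩ := (show ∃ s, gm P x V hV s = m from hs 0)
    obtain ⟨s', rfl⟩ := (show ∃ s, gm P x V hV s = m' from hs 1)
    rw [stalkLin_gm, stalkLin_gm] at h
    obtain ⟨W, hW, i, i', e⟩ := gm_eq Q x hV hV h
    obtain rfl : i = i' := Subsingleton.elim _ _
    obtain ⟨T, j, hj, hxT⟩ := Presheaf.equalizerSieve_mem (Opens.grothendieckTopology X)
      ((PresheafOfModules.toPresheaf _).map g) (rs P i s) (rs P i s') (by
        show g.app (op W) (rs P i s) = g.app (op W) (rs P i s')
        rw [rs_app, rs_app, e]) x hW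
    rw [← gm_rs P x (j ≫ i) hxT s, ← gm_rs P x (j ≫ i) hxT s', rs_comp, rs_comp]
    exact congrArg _ hj
  · obtain ⟨U, hU, t, rfl⟩ := gm_surj Q x m
    obtain ⟨T, j, ⟨s, hs⟩, hxT⟩ := Presheaf.imageSieve_mem (Opens.grothendieckTopology X)
      ((PresheafOfModules.toPresheaf _).map g) t x hU
    refine ⟨gm P x T hxT s, ?_⟩
    rw [stalkLin_gm, ← gm_rs Q x j hxT t]
    exact congrArg _ hs

theorem flat_stalk_of_bijective {P Q : PM R} (g : P ⟶ Q)
    [Presheaf.IsLocallyInjective (Opens.grothendieckTopology X) ((PresheafOfModules.toPresheaf _).map g)]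
    [Presheaf.IsLocallySurjective (Opens.grothendieckTopology X) ((PresheafOfModules.toPresheaf _).map g)]
    (x : X) [Module.Flat (R.stalk x) (St P x)] : Module.Flat (R.stalk x) (St Q x) := by
  exact Module.Flat.of_linearEquiv (LinearEquiv.ofBijective (stalkLin g x) (bijective_stalkLin g x)).symm

variable (A F : PM R) (x : X)

/-- germ of sections of the tensor presheaf in the tensor of stalks -/
noncomputable def germTensor (U : Opens X) (hU : x ∈ U) :
    (A ⊗ F).obj (op U) →+ TensorProduct (R.stalk x) (St A x) (St F x) :=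
  TensorProduct.liftAddHom (R := R.obj (op U))
    (AddMonoidHom.mk'
      (fun a => (TensorProduct.mk (R.stalk x) (St A x) (St F x) (gm A x U hU a)).toAddMonoidHom.comp (gm F x U hU))
      fun a b => by ext c; simp)
    fun r a b => by
      show gm A x U hU (r • a) ⊗ₜ[R.stalk x] gm F x U hU b = gm A x U hU a ⊗ₜ[R.stalk x] gm F x U hU (r • b)
      rw [gm_smul, gm_smul, TensorProduct.smul_tmul]

theorem germTensor_tmul (U : Opens X) (hU : x ∈ U) (a : A.obj (op U)) (b : F.obj (op U)) :
    germTensor A F x U hU (a ⊗ₜ b) = gm A x U hU a ⊗ₜ[R.stalk x] gm F x U hU b := rfl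

/-- the map back from the tensor product of stalks -/
theorem exists_tensor_to_stalk :
    ∃ Ψ : TensorProduct (R.stalk x) (St A x) (St F x) →+ St (A ⊗ F) x,
      ∀ (U : Opens X) (hU : x ∈ U) (s : (A ⊗ F).obj (op U)),
        Ψ (germTensor A F x U hU s) = gm (A ⊗ F) x U hU s := by
  let β : ∀ (V : Opens X) (_ : x ∈ V), A.obj (op V) → F.obj (op V) → St (A ⊗ F) x := fun V hV a b =>
    gm (A ⊗ F) x V hV (a ⊗ₜ[R.obj (op V)] b)
  have hres : ∀ (V W : Opens X) (i : W ⟶ V) (hW : x ∈ W) a b,
      β W hW (rs A i a) (rs F i b) = β V (leOfHom i hW) a b := fun V W i hW a b => by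
    refine Eq.trans ?_ (gm_rs (A ⊗ F) x i hW (a ⊗ₜ[R.obj (op V)] b))
    exact congrArg (gm (A ⊗ F) x W hW) (PresheafOfModules.Monoidal.tensorObj_map_tmul i.op a b).symm
  have hex : ∀ (m : St A x) (n : St F x), ∃ v : St (A ⊗ F) x, ∀ (V : Opens X) (hV : x ∈ V) a b,
      gm A x V hV a = m → gm F x V hV b = n → β V hV a b = v := by
    intro m n
    obtain ⟨U, hU, a₀, ha⟩ := gm_surj A x m
    obtain ⟨U', hU', b₀, hb⟩ := gm_surj F x n
    refine ⟨β (U ⊓ U') ⟨hU, hU'⟩ (rs A (homOfLE inf_le_left) a₀) (rs F (homOfLE inf_le_right) b₀),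
      fun V hV a b h₁ h₂ => ?_⟩
    obtain ⟨W₁, hW₁, i₁, j₁, e₁⟩ := gm_eq A x hV (show x ∈ U ⊓ U' from ⟨hU, hU'⟩) (s := a)
      (t := rs A (homOfLE (inf_le_left : U ⊓ U' ≤ U)) a₀) (by rw [gm_rs, h₁, ha])
    obtain ⟨W₂, hW₂, i₂, j₂, e₂⟩ := gm_eq F x hV (show x ∈ U ⊓ U' from ⟨hU, hU'⟩) (s := b)
      (t := rs F (homOfLE (inf_le_right : U ⊓ U' ≤ U')) b₀) (by rw [gm_rs, h₂, hb])
    let k₁ : W₁ ⊓ W₂ ⟶ W₁ := homOfLE inf_le_left
    let k₂ : W₁ ⊓ W₂ ⟶ W₂ := homOfLE inf_le_right
    rw [← hres V _ (k₁ ≫ i₁) ⟨hW₁, hW₂⟩, ← hres (U ⊓ U') _ (k₁ ≫ j₁) ⟨hW₁, hW₂⟩]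
    refine congrArg₂ _ ?_ ?_
    · rw [rs_comp, rs_comp, e₁]
    · rw [Subsingleton.elim (k₁ ≫ i₁) (k₂ ≫ i₂), Subsingleton.elim (k₁ ≫ j₁) (k₂ ≫ j₂), rs_comp, rs_comp, e₂]
  choose v hv using hex
  have hadd₁ : ∀ m m' n, v (m + m') n = v m n + v m' n := by
    intro m m' n
    obtain ⟨U', hU', b, hb⟩ := gm_surj F x n
    obtain ⟨V, hV, hle, hs⟩ := exists_common_germ A x ![m, m'] U' hU'
    obtain ⟨a, ha⟩ := (show ∃ s, gm A x V hV s = m from hs 0)
    obtain ⟨a', ha'⟩ := (show ∃ s, gm A x V hV s = m' from hs 1)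
    have hb' : gm F x V hV (rs F (homOfLE hle) b) = n := by rw [gm_rs]; exact hb
    rw [← hv m n V hV a _ ha hb', ← hv m' n V hV a' _ ha' hb',
      ← hv (m + m') n V hV (a + a') _ (by rw [map_add, ha, ha']) hb']
    refine Eq.trans (congrArg (gm (A ⊗ F) x V hV) (TensorProduct.add_tmul a a' _)) ?_
    exact map_add _ _ _
  have hadd₂ : ∀ m n n', v m (n + n') = v m n + v m n' := by
    intro m n n'
    obtain ⟨U', hU', a, ha⟩ := gm_surj A x m
    obtain ⟨V, hV, hle, hs⟩ := exists_common_germ F x ![n, n'] U' hU'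
    obtain ⟨b, hb⟩ := (show ∃ s, gm F x V hV s = n from hs 0)
    obtain ⟨b', hb'⟩ := (show ∃ s, gm F x V hV s = n' from hs 1)
    have ha' : gm A x V hV (rs A (homOfLE hle) a) = m := by rw [gm_rs]; exact ha
    rw [← hv m n V hV _ b ha' hb, ← hv m n' V hV _ b' ha' hb',
      ← hv m (n + n') V hV _ (b + b') ha' (by rw [map_add, hb, hb'])]
    refine Eq.trans (congrArg (gm (A ⊗ F) x V hV) (TensorProduct.tmul_add _ b b')) ?_
    exact map_add _ _ _
  have hsmul : ∀ (r : R.stalk x) m n, v (r • m) n = v m (r • n) := by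
    intro r m n
    obtain ⟨U, hU, c, hc⟩ := R.exists_germ_eq (x := x) r
    obtain ⟨U', hU', b, hb⟩ := gm_surj F x n
    obtain ⟨V, hV, hle, hs⟩ := exists_common_germ A x ![m] (U ⊓ U') ⟨hU, hU'⟩
    obtain ⟨a, ha⟩ := (show ∃ s, gm A x V hV s = m from hs 0)
    let c' : R.obj (op V) := R.map (homOfLE (hle.trans inf_le_left)).op c
    let b' : F.obj (op V) := rs F (homOfLE (hle.trans inf_le_right)) b
    have hb' : gm F x V hV b' = n := by rw [gm_rs]; exact hb
    have hc' : R.germ V x hV c' = r := by rw [TopCat.Presheaf.germ_res_apply]; exact hc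
    rw [← hv (r • m) n V hV (c' • a) b' (by rw [gm_smul, hc', ha]) hb',
      ← hv m (r • n) V hV a (c' • b') ha (by rw [gm_smul, hc', hb'])]
    exact congrArg (gm (A ⊗ F) x V hV) (TensorProduct.smul_tmul c' a b')
  let Ψ := TensorProduct.liftAddHom (R := R.stalk x)
    (AddMonoidHom.mk' (fun m => AddMonoidHom.mk' (v m) (hadd₂ m)) fun m m' => AddMonoidHom.ext fun n => hadd₁ m m' n)
    hsmul
  refine ⟨Ψ, fun U hU s => ?_⟩
  induction s using TensorProduct.induction_on with
  | zero => exact (map_zero (Ψ.comp (germTensor A F x U hU))).trans (map_zero (gm (A ⊗ F) x U hU)).symm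
  | tmul a b => exact (hv _ _ U hU a b rfl rfl).symm
  | add s t hs ht =>
    exact (map_add (Ψ.comp (germTensor A F x U hU)) s t).trans
      ((congrArg₂ (· + ·) hs ht).trans (map_add (gm (A ⊗ F) x U hU) s t).symm)

/-- tensoring with a presheaf with flat stalks preserves local injectivity -/
theorem isLocallyInjective_whiskerRight {A B : PM R} (g : A ⟶ B)
    (hg : ∀ U, Function.Injective (g.app U)) (F : PM R) (hF : ∀ x : X, Module.Flat (R.stalk x) (St F x)) :
    Presheaf.IsLocallyInjective (Opens.grothendieckTopology X) ((PresheafOfModules.toPresheaf _).map (g ▷ F)) := by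
  refine ⟨fun {U} s₁ s₂ hs x hx => ?_⟩
  haveI := hF x
  obtain ⟨Ψ, hΨ⟩ := exists_tensor_to_stalk A F x
  let L := (stalkLin g x).rTensor (St F x)
  have hnat : ∀ s : (A ⊗ F).obj U,
      L (germTensor A F x U.unop hx s) = germTensor B F x U.unop hx ((g ▷ F).app U s) := by
    intro s
    let φ : (A ⊗ F).obj U →+ _ := L.toAddMonoidHom.comp (germTensor A F x U.unop hx)
    let ψ : (A ⊗ F).obj U →+ _ := (germTensor B F x U.unop hx).comp ((g ▷ F).app U).hom.toAddMonoidHom
    show φ s = ψ s
    induction s using TensorProduct.induction_on with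
    | zero => exact (map_zero φ).trans (map_zero ψ).symm
    | tmul a b =>
      show (stalkLin g x) (gm A x U.unop hx a) ⊗ₜ[R.stalk x] _ = _
      rw [stalkLin_gm]
      rfl
    | add s t hs ht => exact (map_add φ s t).trans ((congrArg₂ (· + ·) hs ht).trans (map_add ψ s t).symm)
  have hinj : Function.Injective L := by
    refine Module.Flat.rTensor_preserves_injective_linearMap (stalkLin g x) ?_
    exact TopCat.Presheaf.stalkFunctor_map_injective_of_app_injective
      (f := (PresheafOfModules.toPresheaf _).map g) (fun V => hg (op V)) x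
  have e : germTensor A F x U.unop hx s₁ = germTensor A F x U.unop hx s₂ :=
    hinj ((hnat s₁).trans ((congrArg _ hs).trans (hnat s₂).symm))
  have e' := congrArg Ψ e
  rw [hΨ, hΨ] at e'
  obtain ⟨W, hW, i, i', h⟩ := gm_eq (A ⊗ F) x hx hx e'
  obtain rfl : i = i' := Subsingleton.elim _ _
  exact ⟨W, i, h, hW⟩

theorem tensor_ext_germ (P : TensorProduct (R.stalk x) (St A x) (St F x) → Prop)
    (h : ∀ (V : Opens X) (hV : x ∈ V) (a : A.obj (op V)) (b : F.obj (op V)), P (gm A x V hV a ⊗ₜ gm F x V hV b))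
    (m : St A x) (n : St F x) : P (m ⊗ₜ n) := by
  obtain ⟨U, hU, b, rfl⟩ := gm_surj F x n
  obtain ⟨V, hV, hle, hs⟩ := exists_common_germ A x ![m] U hU
  obtain ⟨a, rfl⟩ := (show ∃ s, gm A x V hV s = m from hs 0)
  have := h V hV a (rs F (homOfLE hle) b)
  rwa [gm_rs] at this

theorem germTensor_rs {V W : Opens X} (i : W ⟶ V) (hW : x ∈ W) (s : (A ⊗ F).obj (op V)) :
    germTensor A F x W hW (rs (A ⊗ F) i s) = germTensor A F x V (leOfHom i hW) s := by
  let φ : (A ⊗ F).obj (op V) →+ _ := (germTensor A F x W hW).comp (rs (A ⊗ F) i)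
  show φ s = germTensor A F x V _ s
  induction s using TensorProduct.induction_on with
  | zero => exact (map_zero φ).trans (map_zero (germTensor A F x V (leOfHom i hW))).symm
  | tmul a b =>
    refine (congrArg (germTensor A F x W hW) (PresheafOfModules.Monoidal.tensorObj_map_tmul i.op a b)).trans ?_
    exact congrArg₂ (TensorProduct.tmul (R.stalk x)) (gm_rs A x i hW a) (gm_rs F x i hW b)
  | add s t hs ht =>
    exact (map_add φ s t).trans ((congrArg₂ (· + ·) hs ht).trans
      (map_add (germTensor A F x V (leOfHom i hW)) s t).symm)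

theorem exists_germTensor (z : TensorProduct (R.stalk x) (St A x) (St F x)) :
    ∃ (U : Opens X) (hU : x ∈ U) (s : (A ⊗ F).obj (op U)), germTensor A F x U hU s = z := by
  induction z using TensorProduct.induction_on with
  | zero => exact ⟨⊤, trivial, 0, map_zero _⟩
  | tmul m n =>
    obtain ⟨U, hU, b, hb⟩ := gm_surj F x n
    obtain ⟨V, hV, hle, hs⟩ := exists_common_germ A x ![m] U hU
    obtain ⟨a, ha⟩ := (show ∃ s, gm A x V hV s = m from hs 0)
    refine ⟨V, hV, a ⊗ₜ[R.obj (op V)] rs F (homOfLE hle) b, ?_⟩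
    refine (germTensor_tmul A F x V hV a _).trans ?_
    rw [gm_rs, ha, hb]
  | add z w hz hw =>
    obtain ⟨U, hU, s, rfl⟩ := hz
    obtain ⟨V, hV, t, rfl⟩ := hw
    have hres : ∀ {V W : Opens X} (i : W ⟶ V) (hW : x ∈ W) (s : (A ⊗ F).obj (op V)),
        germTensor A F x W hW (rs (A ⊗ F) i s) = germTensor A F x V (leOfHom i hW) s := by
      intro V W i hW s
      let φ : (A ⊗ F).obj (op V) →+ _ := (germTensor A F x W hW).comp (rs (A ⊗ F) i)
      show φ s = germTensor A F x V _ s
      induction s using TensorProduct.induction_on with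
      | zero => exact (map_zero φ).trans (map_zero (germTensor A F x V (leOfHom i hW))).symm
      | tmul a b =>
        refine (congrArg (germTensor A F x W hW) (PresheafOfModules.Monoidal.tensorObj_map_tmul i.op a b)).trans ?_
        exact congrArg₂ (TensorProduct.tmul (R.stalk x)) (gm_rs A x i hW a) (gm_rs F x i hW b)
      | add s t hs ht =>
        exact (map_add φ s t).trans ((congrArg₂ (· + ·) hs ht).trans
          (map_add (germTensor A F x V (leOfHom i hW)) s t).symm)
    refine ⟨U ⊓ V, ⟨hU, hV⟩, rs (A ⊗ F) (homOfLE inf_le_left) s + rs (A ⊗ F) (homOfLE inf_le_right) t, ?_⟩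
    rw [map_add, hres, hres]

/-- local injectivity after tensoring gives injectivity on stalks -/
theorem injective_rTensor_of_isLocallyInjective {A B : PM R} (g : A ⟶ B) (F : PM R)
    [Presheaf.IsLocallyInjective (Opens.grothendieckTopology X) ((PresheafOfModules.toPresheaf _).map (g ▷ F))]
    (x : X) : Function.Injective ((stalkLin g x).rTensor (St F x)) := by
  refine (injective_iff_map_eq_zero _).2 fun z hz => ?_
  obtain ⟨Ψ, hΨ⟩ := exists_tensor_to_stalk B F x
  obtain ⟨U, hU, s, rfl⟩ := exists_germTensor A F x z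
  have hnat : ∀ (V : Opens X) (hV : x ∈ V) (s : (A ⊗ F).obj (op V)),
      (stalkLin g x).rTensor (St F x) (germTensor A F x V hV s) =
        germTensor B F x V hV ((g ▷ F).app (op V) s) := by
    intro V hV s
    let φ : (A ⊗ F).obj (op V) →+ _ :=
      ((stalkLin g x).rTensor (St F x)).toAddMonoidHom.comp (germTensor A F x V hV)
    let ψ : (A ⊗ F).obj (op V) →+ _ := (germTensor B F x V hV).comp ((g ▷ F).app (op V)).hom.toAddMonoidHom
    show φ s = ψ s
    induction s using TensorProduct.induction_on with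
    | zero => exact (map_zero φ).trans (map_zero ψ).symm
    | tmul a b =>
      show (stalkLin g x) (gm A x V hV a) ⊗ₜ[R.stalk x] _ = _
      rw [stalkLin_gm]
      rfl
    | add s t hs ht => exact (map_add φ s t).trans ((congrArg₂ (· + ·) hs ht).trans (map_add ψ s t).symm)
  have h0 : gm (B ⊗ F) x U hU ((g ▷ F).app (op U) s) = gm (B ⊗ F) x U hU 0 := by
    rw [← hΨ, ← hΨ, ← hnat, hz, map_zero, map_zero, map_zero]
  obtain ⟨W, hW, i, i', e⟩ := gm_eq (B ⊗ F) x hU hU h0
  rw [map_zero, ← rs_app] at e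
  obtain ⟨T, j, hj, hxT⟩ := Presheaf.equalizerSieve_mem (Opens.grothendieckTopology X)
    ((PresheafOfModules.toPresheaf _).map (g ▷ F)) (rs (A ⊗ F) i s) 0
    (e.trans (map_zero ((g ▷ F).app (op W)).hom).symm) x hW
  have hj' : rs (A ⊗ F) j (rs (A ⊗ F) i s) = 0 := hj.trans (map_zero _)
  obtain ⟨Ψ', hΨ'⟩ := exists_tensor_to_stalk A F x
  have key : ∀ {V W : Opens X} (i : W ⟶ V) (hW : x ∈ W) (s : (A ⊗ F).obj (op V)),
      germTensor A F x W hW (rs (A ⊗ F) i s) = germTensor A F x V (leOfHom i hW) s := by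
    intro V W i hW s
    let φ : (A ⊗ F).obj (op V) →+ _ := (germTensor A F x W hW).comp (rs (A ⊗ F) i)
    show φ s = germTensor A F x V _ s
    induction s using TensorProduct.induction_on with
    | zero => exact (map_zero φ).trans (map_zero (germTensor A F x V (leOfHom i hW))).symm
    | tmul a b =>
      refine (congrArg (germTensor A F x W hW) (PresheafOfModules.Monoidal.tensorObj_map_tmul i.op a b)).trans ?_
      exact congrArg₂ (TensorProduct.tmul (R.stalk x)) (gm_rs A x i hW a) (gm_rs F x i hW b)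
    | add s t hs ht =>
      exact (map_add φ s t).trans ((congrArg₂ (· + ·) hs ht).trans
        (map_add (germTensor A F x V (leOfHom i hW)) s t).symm)
  rw [← key (j ≫ i) hxT s, rs_comp, hj', map_zero]

end Groth.Agent.KFlatLib
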