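import Groth.Agent.KFlatLib.Scheme
import Groth.Agent.KFlatLib.DRing
import Groth.Agent.ModStalk.Colimit
import Groth.Prelude.Def_DerSch

/-!
Stalks of sheaves of modules: exactness, skyscraper adjunction, tensor products.
-/

universe u

open CategoryTheory Limits AlgebraicGeometry HomologicalComplex TopologicalSpace Opposite MonoidalCategory

namespace Groth.Agent.KFlatLib

variable {X : Scheme.{u}} (x : X)

/-- stalk functor -/
noncomputable abbrev SF : X.Modules ⥤ ModuleCat.{u} (X.presheaf.stalk x) := DerSch.stalkFunctor X x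

/-- underlying group of the stalk -/
noncomputable def stalkForgetIso :
    SF x ⋙ forget₂ (ModuleCat.{u} (X.presheaf.stalk x)) AddCommGrpCat.{u} ≅ ModStalk.stalkAb x :=
  NatIso.ofComponents (fun M => Iso.refl _) fun {M N} φ => by
    ext m
    rfl

theorem preservesColimitsOfShape_SF (J : Type u) [Category.{u} J] : PreservesColimitsOfShape J (SF x) := by
  haveI := ModStalk.preservesColimitsOfShape_stalkAb x J
  haveI : PreservesColimitsOfShape J (SF x ⋙ forget₂ (ModuleCat.{u} (X.presheaf.stalk x)) AddCommGrpCat.{u}) :=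
    preservesColimitsOfShape_of_natIso (stalkForgetIso x).symm
  haveI : PreservesColimitsOfSize.{u, u} (forget₂ (ModuleCat.{u} (X.presheaf.stalk x)) AddCommGrpCat.{u}) :=
    inferInstance
  haveI : ReflectsColimitsOfShape J (forget₂ (ModuleCat.{u} (X.presheaf.stalk x)) AddCommGrpCat.{u}) :=
    reflectsColimitsOfShape_of_reflectsIsomorphisms
  exact preservesColimitsOfShape_of_reflects_of_preserves (SF x)
    (forget₂ (ModuleCat.{u} (X.presheaf.stalk x)) AddCommGrpCat.{u})

instance preservesDiscrete_SF (I : Type) : PreservesColimitsOfShape (Discrete I) (SF x) :=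
  haveI := preservesColimitsOfShape_SF x (Discrete (ULift.{u} I))
  preservesColimitsOfShape_of_equiv (Discrete.equivalence Equiv.ulift) (SF x)

/-- skyscraper hom set bijection -/
noncomputable def skyEquiv (M : X.Modules) (N : ModuleCat.{u} (X.presheaf.stalk x)) :
    ((SF x).obj M ⟶ N) ≃ (M ⟶ ModStalk.skyMod x N) where
  toFun l := ModStalk.toSky M l.hom
  invFun φ := ModuleCat.ofHom (X := (M.presheaf.stalk x : Type u)) (ModStalk.exists_stalkVal M φ).choose
  left_inv l := by
    ext m
    obtain ⟨U, hU, s, rfl⟩ := M.presheaf.exists_germ_eq (x := x) m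
    exact (ModStalk.exists_stalkVal M _).choose_spec U hU s
  right_inv φ := by
    refine Scheme.Modules.hom_ext _ _ fun U => ?_
    ext m
    exact ModStalk.sky_ext fun hx => (ModStalk.exists_stalkVal M φ).choose_spec U hx m

theorem skyEquiv_natural (M' M : X.Modules) (N : ModuleCat.{u} (X.presheaf.stalk x)) (g : M' ⟶ M)
    (l : (SF x).obj M ⟶ N) : skyEquiv x M' N ((SF x).map g ≫ l) = g ≫ skyEquiv x M N l := by
  refine Scheme.Modules.hom_ext _ _ fun U => ?_
  ext m
  refine ModStalk.sky_ext fun hx => ?_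
  exact congrArg l.hom (DerSch.stalkFunctor_map_germ x g U hx m)

/-- skyscraper functor -/
noncomputable def skyF : ModuleCat.{u} (X.presheaf.stalk x) ⥤ X.Modules :=
  Adjunction.rightAdjointOfEquiv (skyEquiv x) (skyEquiv_natural x)

/-- adjunction -/
noncomputable def skyAdj : SF x ⊣ skyF x :=
  Adjunction.adjunctionOfEquivRight (skyEquiv x) (skyEquiv_natural x)

instance : (SF x).IsLeftAdjoint := (skyAdj x).isLeftAdjoint
instance : (skyF x).IsRightAdjoint := (skyAdj x).isRightAdjoint

instance : (SF x).PreservesMonomorphisms := ⟨fun {M N} φ hφ => by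
  rw [ModuleCat.mono_iff_injective]
  haveI : PreservesLimitsOfShape WalkingCospan (SheafOfModules.forget.{u} X.ringCatSheaf) := inferInstance
  haveI : (SheafOfModules.forget.{u} X.ringCatSheaf).PreservesMonomorphisms := inferInstance
  haveI : Mono ((SheafOfModules.forget X.ringCatSheaf).map φ) :=
    @Functor.PreservesMonomorphisms.preserves _ _ _ _ (SheafOfModules.forget.{u} X.ringCatSheaf) _ _ _ φ hφ
  exact TopCat.Presheaf.stalkFunctor_map_injective_of_app_injective
    (f := (PresheafOfModules.toPresheaf _).map ((SheafOfModules.forget X.ringCatSheaf).map φ))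
    (fun U => PresheafOfModules.injective_of_mono ((SheafOfModules.forget X.ringCatSheaf).map φ) (op U)) x⟩

instance : (SF x).PreservesHomology :=
  haveI : PreservesFiniteColimits (SF x) :=
    PreservesColimitsOfSize.preservesFiniteColimits.{u, u} _
  Functor.preservesHomology_of_preservesMonos_and_cokernels _

instance : (skyF x).PreservesEpimorphisms := ⟨fun {N N'} g _ => by
  have hs : ∀ U, Function.Surjective (((skyF x).map g).app U) := fun U t => by
    classical
    obtain ⟨s, hs⟩ : ∃ s : x ∈ U → N, ∀ h, g (s h) = ModStalk.skyVal h t := by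
      by_cases h : x ∈ U
      · obtain ⟨n, hn⟩ := (ModuleCat.epi_iff_surjective g).1 inferInstance (ModStalk.skyVal h t)
        exact ⟨fun _ => n, fun _ => hn⟩
      · exact ⟨fun _ => 0, fun h' => absurd h' h⟩
    refine ⟨ModStalk.skyMk U s, ModStalk.sky_ext fun hx => ?_⟩
    let l := (skyEquiv x (ModStalk.skyMod x N) N).symm (𝟙 _)
    show g.hom (l.hom ((ModStalk.skyMod x N).presheaf.germ U x hx (ModStalk.skyMk U s))) = _
    refine (congrArg g.hom ((ModStalk.exists_stalkVal (ModStalk.skyMod x N) (𝟙 _)).choose_spec U hx _)).trans ?_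
    exact hs hx
  haveI : Epi ((SheafOfModules.forget X.ringCatSheaf).map ((skyF x).map g)) :=
    PresheafOfModules.epi_of_surjective fun U => hs U.unop
  exact (SheafOfModules.forget X.ringCatSheaf).epi_of_epi_map ‹_›⟩

instance : (skyF x).Additive :=
  haveI := preservesBinaryBiproducts_of_preservesBinaryProducts (skyF x)
  Functor.additive_of_preservesBinaryBiproducts _

instance : (skyF x).PreservesHomology :=
  haveI : PreservesFiniteLimits (skyF x) :=
    haveI : PreservesLimitsOfSize.{0, 0} (skyF x) := (skyAdj x).rightAdjoint_preservesLimits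
    inferInstance
  Functor.preservesHomology_of_preservesEpis_and_kernels _

/-- stalk of a skyscraper -/
noncomputable def skyCounitIso : skyF x ⋙ SF x ≅ 𝟭 _ :=
  haveI : ∀ N, IsIso ((skyAdj x).counit.app N) := fun N => by
    obtain ⟨e, he⟩ := exists_skyEv x (N : Type u)
    have h : (skyAdj x).counit.app N = e.toModuleIso.hom := by
      ext m
      obtain ⟨U, hU, s, rfl⟩ := (ModStalk.skyMod x N).presheaf.exists_germ_eq (x := x) m
      exact ((ModStalk.exists_stalkVal (ModStalk.skyMod x N) (𝟙 _)).choose_spec U hU s).trans (he U hU s).symm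
    rw [h]
    infer_instance
  haveI := NatIso.isIso_of_isIso_app (skyAdj x).counit
  asIso (skyAdj x).counit

theorem isZero_of_stalks {M : X.Modules} (h : ∀ x : X, IsZero ((SF x).obj M)) : IsZero M := by
  rw [IsZero.iff_id_eq_zero]
  refine Scheme.Modules.hom_ext _ _ fun U => ?_
  ext s
  refine ModStalk.eq_of_germ_eq _ _ _ fun x hx => ?_
  haveI := ModuleCat.subsingleton_of_isZero (h x)
  exact Subsingleton.elim (α := (SF x).obj M) _ _

/-- `M_x ⊗ N_x ≃ (M ⊗ N)_x` -/
theorem exists_tensorStalkEquiv (M N : X.Modules) :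
    ∃ e : TensorProduct (X.presheaf.stalk x) (St (pm M) x) (St (pm N) x) ≃ₗ[X.presheaf.stalk x]
        St (pm (((TX X).obj M).obj N)) x,
      ∀ (V : X.Opens) (hV : x ∈ V) (a : (pm M).obj (op V)) (b : (pm N).obj (op V)),
        e (gm (pm M) x V hV a ⊗ₜ gm (pm N) x V hV b) =
          gm (pm (((TX X).obj M).obj N)) x V hV
            ((ModTensor.η (O := X.sheaf) (pm M ⊗ pm N)).app (op V) (a ⊗ₜ[X.presheaf.obj (op V)] b)) := by
  obtain ⟨Ψ, hΨ⟩ := exists_tensor_to_stalk (pm M) (pm N) x
  have hΨt : ∀ (V : X.Opens) (hV : x ∈ V) (a : (pm M).obj (op V)) (b : (pm N).obj (op V)),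
      Ψ (gm (pm M) x V hV a ⊗ₜ gm (pm N) x V hV b) = gm (pm M ⊗ pm N) x V hV (a ⊗ₜ[X.presheaf.obj (op V)] b) :=
    fun V hV a b => (congrArg Ψ (germTensor_tmul (pm M) (pm N) x V hV a b).symm).trans (hΨ V hV _)
  have hlin : ∀ (r : X.presheaf.stalk x) z, Ψ (r • z) = r • Ψ z := by
    intro r z
    induction z using TensorProduct.induction_on with
    | zero => rw [smul_zero, map_zero, smul_zero]
    | tmul m n =>
      revert m n
      refine fun m n => tensor_ext_germ (pm M) (pm N) x (fun z => Ψ (r • z) = r • Ψ z) (fun V hV a b => ?_) m n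
      obtain ⟨U, hU, c, rfl⟩ := X.presheaf.exists_germ_eq (x := x) r
      have hW : x ∈ V ⊓ U := ⟨hV, hU⟩
      rw [← gm_rs (pm M) x (homOfLE (inf_le_left : V ⊓ U ≤ V)) hW a,
        ← gm_rs (pm N) x (homOfLE (inf_le_left : V ⊓ U ≤ V)) hW b,
        ← X.presheaf.germ_res_apply (homOfLE (inf_le_right : V ⊓ U ≤ U)) x hW c, TensorProduct.smul_tmul',
        ← gm_smul, hΨt, hΨt, ← gm_smul]
      exact congrArg _ (TensorProduct.smul_tmul' _ _ _).symm
    | add z w hz hw => rw [smul_add, map_add, hz, hw, map_add, smul_add]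
  let Ψl : TensorProduct (X.presheaf.stalk x) (St (pm M) x) (St (pm N) x) →ₗ[X.presheaf.stalk x]
      St (pm M ⊗ pm N) x := { Ψ with map_smul' := hlin }
  have hinj : Function.Injective Ψl := (injective_iff_map_eq_zero Ψl).2 fun z hz => by
    obtain ⟨U, hU, s, rfl⟩ := exists_germTensor (pm M) (pm N) x z
    have h0 : gm (pm M ⊗ pm N) x U hU s = gm (pm M ⊗ pm N) x U hU 0 := by
      rw [map_zero, ← hΨ]; exact hz
    obtain ⟨W, hW, i, i', e⟩ := gm_eq (pm M ⊗ pm N) x hU hU h0
    rw [← germTensor_rs (pm M) (pm N) x i hW s, e, map_zero, map_zero]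
  have hsurj : Function.Surjective Ψl := fun m => by
    obtain ⟨U, hU, s, rfl⟩ := gm_surj (pm M ⊗ pm N) x m
    exact ⟨germTensor (pm M) (pm N) x U hU s, hΨ U hU s⟩
  let η := ModTensor.η (O := X.sheaf) (pm M ⊗ pm N)
  have hη : Function.Bijective (stalkLin (R := X.presheaf) η x) := bijective_stalkLin_η (O := X.sheaf) (pm M ⊗ pm N) x
  refine ⟨(LinearEquiv.ofBijective Ψl ⟨hinj, hsurj⟩).trans (LinearEquiv.ofBijective _ hη), fun V hV a b => ?_⟩
  show stalkLin (R := X.presheaf) η x (Ψ _) = _
  refine (congrArg _ (hΨt V hV a b)).trans ?_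
  exact stalkLin_gm (R := X.presheaf) η x V hV _

/-- `M_x ⊗ N_x ≅ (M ⊗ N)_x` -/
noncomputable def tensorStalkIso (M N : X.Modules) :
    ((TM (X.presheaf.stalk x)).obj ((SF x).obj M)).obj ((SF x).obj N) ≅ (SF x).obj (((TX X).obj M).obj N) :=
  LinearEquiv.toModuleIso (R := X.presheaf.stalk x)
    (X₁ := TensorProduct (X.presheaf.stalk x) (St (pm M) x) (St (pm N) x))
    (X₂ := St (pm (((TX X).obj M).obj N)) x) (exists_tensorStalkEquiv x M N).choose

theorem tensorStalkIso_germ (M N : X.Modules) (V : X.Opens) (hV : x ∈ V) (a : (pm M).obj (op V))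
    (b : (pm N).obj (op V)) :
    (tensorStalkIso x M N).hom (gm (pm M) x V hV a ⊗ₜ gm (pm N) x V hV b) =
      gm (pm (((TX X).obj M).obj N)) x V hV
        ((ModTensor.η (O := X.sheaf) (pm M ⊗ pm N)).app (op V) (a ⊗ₜ[X.presheaf.obj (op V)] b)) :=
  (exists_tensorStalkEquiv x M N).choose_spec V hV a b

theorem SF_map_gm {M M' : X.Modules} (g : M ⟶ M') (V : X.Opens) (hV : x ∈ V) (a : (pm M).obj (op V)) :
    (SF x).map g (gm (pm M) x V hV a) = gm (pm M') x V hV (g.app V a) :=
  DerSch.stalkFunctor_map_germ x g V hV a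

theorem tensorStalkIso_natural₁ {M M' : X.Modules} (g : M ⟶ M') (N : X.Modules) :
    ((TM (X.presheaf.stalk x)).map ((SF x).map g)).app ((SF x).obj N) ≫ (tensorStalkIso x M' N).hom =
      (tensorStalkIso x M N).hom ≫ (SF x).map (((TX X).map g).app N) := by
  refine ModuleCat.MonoidalCategory.tensor_ext fun m n => ?_
  refine tensor_ext_germ (pm M) (pm N) x
    (fun z => (((TM (X.presheaf.stalk x)).map ((SF x).map g)).app ((SF x).obj N) ≫ (tensorStalkIso x M' N).hom).hom z =
      ((tensorStalkIso x M N).hom ≫ (SF x).map (((TX X).map g).app N)).hom z) (fun V hV a b => ?_) m n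
  show (tensorStalkIso x M' N).hom ((SF x).map g (gm (pm M) x V hV a) ⊗ₜ gm (pm N) x V hV b) =
    (SF x).map (((TX X).map g).app N) ((tensorStalkIso x M N).hom (gm (pm M) x V hV a ⊗ₜ gm (pm N) x V hV b))
  rw [SF_map_gm, tensorStalkIso_germ, tensorStalkIso_germ, SF_map_gm]
  refine congrArg _ ?_
  let g' : pm M ⟶ pm M' := g.1
  exact congrArg (fun φ => φ.app (op V) (a ⊗ₜ[X.presheaf.obj (op V)] b))
    ((ModTensor.adj X.sheaf).unit.naturality (g' ▷ pm N))

theorem tensorStalkIso_natural₂ (M : X.Modules) {N N' : X.Modules} (g : N ⟶ N') :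
    ((TM (X.presheaf.stalk x)).obj ((SF x).obj M)).map ((SF x).map g) ≫ (tensorStalkIso x M N').hom =
      (tensorStalkIso x M N).hom ≫ (SF x).map (((TX X).obj M).map g) := by
  refine ModuleCat.MonoidalCategory.tensor_ext fun m n => ?_
  refine tensor_ext_germ (pm M) (pm N) x
    (fun z => (((TM (X.presheaf.stalk x)).obj ((SF x).obj M)).map ((SF x).map g) ≫ (tensorStalkIso x M N').hom).hom z =
      ((tensorStalkIso x M N).hom ≫ (SF x).map (((TX X).obj M).map g)).hom z) (fun V hV a b => ?_) m n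
  show (tensorStalkIso x M N').hom (gm (pm M) x V hV a ⊗ₜ (SF x).map g (gm (pm N) x V hV b)) =
    (SF x).map (((TX X).obj M).map g) ((tensorStalkIso x M N).hom (gm (pm M) x V hV a ⊗ₜ gm (pm N) x V hV b))
  rw [SF_map_gm, tensorStalkIso_germ, tensorStalkIso_germ, SF_map_gm]
  refine congrArg _ ?_
  let g' : pm N ⟶ pm N' := g.1
  exact congrArg (fun φ => φ.app (op V) (a ⊗ₜ[X.presheaf.obj (op V)] b))
    ((ModTensor.adj X.sheaf).unit.naturality (pm M ◁ g'))

end Groth.Agent.KFlatLib
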