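import Groth.Agent.KFlatLib.PullTensor
import Groth.Agent.KFlatLib.ModSite

/-!
Symmetry of K-flatness, tensor products of K-flat complexes, pullback of tensor products of complexes.
-/

universe v u

open CategoryTheory Limits AlgebraicGeometry HomologicalComplex MonoidalCategory

namespace Groth.Agent.KFlatLib

section generic

variable {A : Type u} [Category.{v} A] [Abelian A]
  (T T' : A ⥤ A ⥤ A) [T.Additive] [∀ X, (T.obj X).Additive] [T'.Additive] [∀ X, (T'.obj X).Additive]
  [∀ K L : CochainComplex A ℤ, HomologicalComplex.HasMapBifunctor K L T (ComplexShape.up ℤ)]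
  [∀ K L : CochainComplex A ℤ, HomologicalComplex.HasMapBifunctor K L T' (ComplexShape.up ℤ)]

/-- isomorphic bifunctors have isomorphic total complexes -/
theorem nonempty_congrIso (e : T ≅ T') (L K : CochainComplex A ℤ) : Nonempty ((Φ T L).obj K ≅ (Φ T' L).obj K) := by
  obtain ⟨i⟩ := nonempty_totIso T' T (𝟭 A) (𝟭 A) (𝟭 A) (𝟭 A) (𝟭 A) (fun X Y => (e.app X).app Y)
    (fun a Y => congrArg (fun φ => NatTrans.app φ Y) (e.hom.naturality a))
    (fun X _ _ b => (e.hom.app X).naturality b) L K
  exact ⟨i⟩

theorem isKFlat_congr (e : T ≅ T') {K : CochainComplex A ℤ} (h : IsKFlat T K) : IsKFlat T' K := fun L hL =>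
  acyc_of_iso (nonempty_congrIso T T' e L K).some (h L hL)

end generic

section site

variable {C : Type u} [SmallCategory C] {J : GrothendieckTopology C} (O : Sheaf J CommRingCat.{u})

/-- the tensor product is symmetric -/
noncomputable def tensorFlipIso : _root_.ModSite.tensorBi O ≅ (_root_.ModSite.tensorBi O).flip :=
  NatIso.ofComponents (ModTensor.commIso O) fun {F F'} g => by
    ext G : 2
    let g' : ModTensor.psh F ⟶ ModTensor.psh F' := g.1
    exact ((ModTensor.sh O).map_comp _ _).symm.trans ((congrArg (ModTensor.sh O).map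
      (BraidedCategory.braiding_naturality_left g' (ModTensor.psh G))).trans ((ModTensor.sh O).map_comp _ _))

variable {O}

theorem isKFlat_flip_iff (K : CochainComplex (_root_.ModSite.Mod O) ℤ) :
    IsKFlat (_root_.ModSite.tensorBi O).flip K ↔ IsKFlat (_root_.ModSite.tensorBi O) K :=
  ⟨isKFlat_congr _ _ (tensorFlipIso O).symm, isKFlat_congr _ _ (tensorFlipIso O)⟩

end site

section ring

variable {R : Type u} [CommRing R]

/-- the tensor product is symmetric -/
noncomputable def TMFlipIso (R : Type u) [CommRing R] : TM R ≅ (TM R).flip :=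
  NatIso.ofComponents (fun M => BraidedCategory.tensorLeftIsoTensorRight M) fun {M M'} g => by
    ext N : 2
    exact BraidedCategory.braiding_naturality_left g N

theorem isKFlat_flip_iff_module (K : CochainComplex (ModuleCat.{u} R) ℤ) :
    IsKFlat (TM R).flip K ↔ IsKFlat (TM R) K :=
  ⟨isKFlat_congr _ _ (TMFlipIso R).symm, isKFlat_congr _ _ (TMFlipIso R)⟩

theorem isKFlat_tensor_module {P L : CochainComplex (ModuleCat.{u} R) ℤ} (hP : IsKFlat (TM R) P)
    (hL : IsKFlat (TM R) L) : IsKFlat (TM R) ((Φ (TM R) P).obj L) := fun M hM =>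
  acyc_of_iso (MonoidalCategory.associator (C := CochainComplex (ModuleCat.{u} R) ℤ) M P L)
    (hL _ (hP M hM))

end ring

section scheme

variable {X Y : Scheme.{u}}

theorem isKFlat_tensor {P L : CochainComplex X.Modules ℤ} (hP : _root_.DCoh.IsKFlat P)
    (hL : _root_.DCoh.IsKFlat L) : _root_.DCoh.IsKFlat ((_root_.DCoh.tensorCx.obj P).obj L) :=
  isKFlat_of_stalks _ fun x =>
    IsKFlat.of_iso _ (nonempty_stalk_tot x P L).some (isKFlat_tensor_module (isKFlat_stalk hP x) (isKFlat_stalk hL x))

/-- `f^* P ⊗ f^* L ≅ f^*(P ⊗ L)` -/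
theorem nonempty_pullTotIso (f : X ⟶ Y) (P L : CochainComplex Y.Modules ℤ) :
    Nonempty ((_root_.DCoh.tensorCx.obj (((Scheme.Modules.pullback f).mapHomologicalComplex (ComplexShape.up ℤ)).obj P)).obj
        (((Scheme.Modules.pullback f).mapHomologicalComplex (ComplexShape.up ℤ)).obj L) ≅
      ((Scheme.Modules.pullback f).mapHomologicalComplex (ComplexShape.up ℤ)).obj
        ((_root_.DCoh.tensorCx.obj P).obj L)) := by
  haveI : ∀ I : Type, PreservesColimitsOfShape (Discrete I) (Scheme.Modules.pullback f) := fun I =>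
    haveI := (Scheme.Modules.pullbackPushforwardAdjunction f).leftAdjoint_preservesColimits.{0, 0}
    inferInstance
  refine nonempty_totIso (_root_.DCoh.tensorBi (X := Y)) (_root_.DCoh.tensorBi (X := X)) (𝟭 Y.Modules) (𝟭 Y.Modules)
    (Scheme.Modules.pullback f) (Scheme.Modules.pullback f) (Scheme.Modules.pullback f) (pullTensorIso f)
    (fun {M M'} a N => ?_) (fun M {N N'} b => ?_) P L
  · refine (cancel_epi (pullTensorIso f M N).inv).1 (Eq.trans ?_ (Iso.inv_hom_id_assoc (pullTensorIso f M N) _).symm)
    exact (Category.assoc _ _ _).symm.trans ((congrArg (· ≫ _) (pullTensorHom_natural₁ f M N a).symm).trans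
      ((Category.assoc _ _ _).trans ((congrArg (_ ≫ ·) (pullTensorIso f M' N).inv_hom_id).trans (Category.comp_id _))))
  · refine (cancel_epi (pullTensorIso f M N).inv).1 (Eq.trans ?_ (Iso.inv_hom_id_assoc (pullTensorIso f M N) _).symm)
    exact (Category.assoc _ _ _).symm.trans ((congrArg (· ≫ _) (pullTensorHom_natural₂ f M N b).symm).trans
      ((Category.assoc _ _ _).trans ((congrArg (_ ≫ ·) (pullTensorIso f M N').inv_hom_id).trans (Category.comp_id _))))

end scheme

end Groth.Agent.KFlatLib
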