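import Groth.Agent.KFlatLib.LCompute
import Groth.Agent.KFlatLib.TensorFlat
import Groth.Agent.KFlatLib.PerfectTensor

/-!
Tensor products of pseudo-coherent and perfect complexes over a ring.
-/

universe u

open CategoryTheory Limits HomologicalComplex MonoidalCategory
open scoped TensorProduct

attribute [local instance] HasDerivedCategory.standard

namespace Groth.Agent.KFlatLib

variable {R : Type u} [CommRing R]

/-- tensoring with a K-flat complex respects isomorphisms in `D(R)` -/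
theorem nonempty_tensor_congr_ring {E L L' : DRing.Cx R} (hE : IsKFlat (TM R).flip E)
    (e : DerivedCategory.Q.obj L ≅ DerivedCategory.Q.obj L') :
    Nonempty (DerivedCategory.Q.obj ((Φ (TM R) E).obj L) ≅ DerivedCategory.Q.obj ((Φ (TM R) E).obj L')) := by
  obtain ⟨Z, s, hs, g, hg⟩ := DerivedCategory.right_fac e.hom
  haveI := hs
  haveI : IsIso (DerivedCategory.Q.map g) :=
    haveI : IsIso (CategoryTheory.inv (DerivedCategory.Q.map s) ≫ DerivedCategory.Q.map g) := hg ▸ inferInstance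
    IsIso.of_isIso_comp_left (CategoryTheory.inv (DerivedCategory.Q.map s)) _
  have h : ∀ {K K' : DRing.Cx R} (φ : K ⟶ K'), QuasiIso φ → QuasiIso ((Φ (TM R) E).map φ) := fun {K K'} φ hφ =>
    quasiIso_Φ_map (TM R) φ E (acyc_of_iso (ΦFlip (TM R) _ _) (hE _ (acyc_cokernel_lift φ)))
  have hs' : IsIso (DerivedCategory.Q.map ((Φ (TM R) E).map s)) :=
    (DerivedCategory.isIso_Q_map_iff_quasiIso _ _).2 (h s ((DerivedCategory.isIso_Q_map_iff_quasiIso _ s).1 hs))
  have hg' : IsIso (DerivedCategory.Q.map ((Φ (TM R) E).map g)) :=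
    (DerivedCategory.isIso_Q_map_iff_quasiIso _ _).2
      (h g ((DerivedCategory.isIso_Q_map_iff_quasiIso _ g).1 inferInstance))
  exact ⟨(@asIso _ _ _ _ _ hs').symm ≪≫ @asIso _ _ _ _ _ hg'⟩

theorem isKFlat_flip_of_bounded_above (E : DRing.Cx R) (b : ℤ) (hb : ∀ i, b < i → IsZero (E.X i))
    (hflat : ∀ i, Module.Flat R (E.X i)) : IsKFlat (TM R).flip E :=
  (isKFlat_flip_iff_module E).2
    (isKFlat_of_bounded_above _ E b hb fun j => (tflat_of_flat (hflat j)).2)

theorem nonempty_LTensorCxIso_of_rep (L : DRing.Cx R) [_root_.DRing.HasLTensorCx R L] {K : Dual.D R} {E F : DRing.Cx R}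
    (hE : IsKFlat (TM R).flip E) (eE : DRing.toD E ≅ K) (eF : DRing.toD F ≅ DRing.toD L) :
    Nonempty (DRing.toD ((Φ (TM R) E).obj F) ≅ (_root_.DRing.LTensorCx R L).obj K) := by
  obtain ⟨e₁⟩ := nonempty_tensorCxIso_ring L E hE
  obtain ⟨e₂⟩ := nonempty_tensor_congr_ring hE eF
  exact ⟨e₂ ≪≫ e₁.symm ≪≫ (_root_.DRing.LTensorCx R L).mapIso eE⟩

theorem isZero_tensor_term (E F : DRing.Cx R) (p q : ℤ) (h : IsZero (E.X p) ∨ IsZero (F.X q)) :
    IsZero (((TM R).obj (E.X p)).obj (F.X q)) := by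
  rcases h with h | h
  · exact (Functor.map_isZero (TM R) h).obj _
  · exact Functor.map_isZero ((TM R).obj (E.X p)) h

/-- each term of the total complex is a finite product of tensor products -/
theorem exists_termEquiv (E F : DRing.Cx R) (n : ℤ) (S : Finset ℤ)
    (hz : ∀ p q, p + q = n → p ∉ S → IsZero (((TM R).obj (E.X p)).obj (F.X q))) :
    Nonempty ((∀ p : S, (E.X p : Type u) ⊗[R] (F.X (n - p) : Type u)) ≃ₗ[R] ((Φ (TM R) E).obj F).X n) := by
  let f : S → ModuleCat.{u} R := fun p => ((TM R).obj (E.X p)).obj (F.X (n - p))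
  let π : ∀ p : S, ((Φ (TM R) E).obj F).X n ⟶ f p := fun p =>
    HomologicalComplex.mapBifunctorDesc (K₁ := E) (K₂ := F) (F := TM R) fun i j e =>
      if hi : i = p then eqToHom (by subst hi; rw [show j = n - p by change (p : ℤ) + j = n at e; omega]) else 0
  let ι : ∀ p : S, f p ⟶ ((Φ (TM R) E).obj F).X n := fun p => ιT (TM R) E F p (n - p) n (by omega)
  have hπ : ∀ (q : S) i j (e : i + j = n), ιT (TM R) E F i j n e ≫ π q =
      if hi : i = q then eqToHom (by subst hi; rw [show j = n - q by omega]) else 0 := fun q i j e =>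
    HomologicalComplex.ι_mapBifunctorDesc _ i j e
  have h₁ : ∀ p, ι p ≫ π p = 𝟙 _ := fun p => by rw [hπ]; simp [f]
  have h₂ : ∀ p q, p ≠ q → ι p ≫ π q = 0 := fun p q hpq => by rw [hπ, dif_neg fun e => hpq (Subtype.ext e)]
  have h₃ : ∑ p, π p ≫ ι p = 𝟙 _ := by
    refine ιT_hom_ext (TM R) fun i j e => ?_
    by_cases hi : i ∈ S
    · obtain rfl : j = n - i := by omega
      rw [Preadditive.comp_sum, Category.comp_id, Finset.sum_eq_single (⟨i, hi⟩ : S)]
      · rw [← Category.assoc, hπ]; simp [ι]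
      · intro q _ hq
        rw [← Category.assoc, hπ, dif_neg fun e => hq (Subtype.ext e.symm), zero_comp]
      · exact fun h => absurd (Finset.mem_univ _) h
    · exact (hz i j e hi).eq_of_src _ _
  have e₁ : ∀ p v, (π p).hom ((ι p).hom v) = v := fun p v => ConcreteCategory.congr_hom (h₁ p) v
  have e₂ : ∀ p q, p ≠ q → ∀ v, (π q).hom ((ι p).hom v) = 0 := fun p q h v => ConcreteCategory.congr_hom (h₂ p q h) v
  refine ⟨LinearEquiv.ofLinear (∑ p, (ι p).hom ∘ₗ LinearMap.proj p) (LinearMap.pi fun p => (π p).hom)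
    (LinearMap.ext fun v => ?_) (LinearMap.ext fun w => funext fun k => ?_)⟩
  · have e := congrArg (fun φ => φ.hom v) h₃
    simpa [ModuleCat.hom_sum] using e
  · simp only [LinearMap.comp_apply, LinearMap.pi_apply, LinearMap.sum_apply, map_sum, LinearMap.proj_apply,
      LinearMap.id_apply]
    rw [Finset.sum_eq_single k (fun j _ h => e₂ j k h _) (fun h => absurd (Finset.mem_univ k) h)]
    exact e₁ k _

theorem exists_finset_term (E F : DRing.Cx R) {b c : ℤ} (hE : ∀ i, b < i → IsZero (E.X i))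
    (hF : ∀ i, c < i → IsZero (F.X i)) (n : ℤ) :
    ∃ S : Finset ℤ, Nonempty ((∀ p : S, (E.X p : Type u) ⊗[R] (F.X (n - p) : Type u)) ≃ₗ[R]
      ((Φ (TM R) E).obj F).X n) :=
  ⟨Finset.Icc (n - c) b, exists_termEquiv E F n _ fun p q e hp => isZero_tensor_term E F p q (by
    rw [Finset.mem_Icc, not_and_or] at hp
    rcases hp with h | h
    · exact Or.inr (hF q (by omega))
    · exact Or.inl (hE p (by omega)))⟩

theorem vanishesAbove_tot (E F : DRing.Cx R) {b c : ℤ} (hE : ∀ i, b < i → IsZero (E.X i))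
    (hF : ∀ i, c < i → IsZero (F.X i)) : _root_.DRing.VanishesAbove ((Φ (TM R) E).obj F) (b + c) := fun n hn =>
  isZero_tot_X (TM R) E F n fun p q e => isZero_tensor_term E F p q (by
    by_cases h : b < p
    · exact Or.inl (hE p h)
    · exact Or.inr (hF q (by omega)))

theorem termwiseFiniteFree_tot (E F : DRing.Cx R) {b c : ℤ} (hE : ∀ i, b < i → IsZero (E.X i))
    (hF : ∀ i, c < i → IsZero (F.X i)) (h : _root_.DRing.TermwiseFiniteFree E) (h' : _root_.DRing.TermwiseFiniteFree F) :
    _root_.DRing.TermwiseFiniteFree ((Φ (TM R) E).obj F) := fun n => by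
  obtain ⟨S, ⟨e⟩⟩ := exists_finset_term E F hE hF n
  haveI := fun i => (h i).1
  haveI := fun i => (h i).2
  haveI := fun i => (h' i).1
  haveI := fun i => (h' i).2
  exact ⟨Module.Finite.equiv e, Module.Free.of_equiv e⟩

theorem termwiseFiniteProjective_tot (E F : DRing.Cx R) {b c : ℤ} (hE : ∀ i, b < i → IsZero (E.X i))
    (hF : ∀ i, c < i → IsZero (F.X i)) (h : _root_.DRing.TermwiseFiniteProjective E)
    (h' : _root_.DRing.TermwiseFiniteProjective F) :
    _root_.DRing.TermwiseFiniteProjective ((Φ (TM R) E).obj F) := fun n => by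
  obtain ⟨S, ⟨e⟩⟩ := exists_finset_term E F hE hF n
  haveI := fun i => (h i).1
  haveI := fun i => (h i).2
  haveI := fun i => (h' i).1
  haveI := fun i => (h' i).2
  haveI : Module.Projective R (∀ p : S, (E.X p : Type u) ⊗[R] (F.X (n - p) : Type u)) :=
    Module.Projective.of_equiv (DFinsupp.linearEquivFunOnFintype (R := R)
      (M := fun p : S => (E.X p : Type u) ⊗[R] (F.X (n - p) : Type u)))
  exact ⟨Module.Finite.equiv e, Module.Projective.of_equiv e⟩

theorem vanishesOutside_tot (E F : DRing.Cx R) {a b a' b' : ℤ} (hE : _root_.DRing.VanishesOutside E a b)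
    (hF : _root_.DRing.VanishesOutside F a' b') :
    _root_.DRing.VanishesOutside ((Φ (TM R) E).obj F) (a + a') (b + b') := fun n hn =>
  isZero_tot_X (TM R) E F n fun p q e => isZero_tensor_term E F p q (by
    by_cases h : p < a ∨ b < p
    · exact Or.inl (hE p h)
    · exact Or.inr (hF q (by omega)))

end Groth.Agent.KFlatLib
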