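import Groth.Agent.KFlatLib.StalkKFlat
import Groth.Agent.ModStalk.Localization

/-!
K-flatness of tilde of a K-flat complex.
-/

universe u

open CategoryTheory Limits AlgebraicGeometry HomologicalComplex TopologicalSpace Opposite MonoidalCategory

namespace Groth.Agent.KFlatLib

theorem bijective_liftBaseChange {R S M N : Type*} [CommRing R] [CommRing S] [Algebra R S] [AddCommGroup M]
    [Module R M] [AddCommGroup N] [Module R N] [Module S N] [IsScalarTower R S N] (g : M →ₗ[R] N)
    (hS : ∀ a : S, ∃ r w : R, IsUnit (algebraMap R S w) ∧ algebraMap R S w * a = algebraMap R S r)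
    (hsurj : ∀ n, ∃ (s : M) (w : R), IsUnit (algebraMap R S w) ∧ algebraMap R S w • n = g s)
    (hker : ∀ s, g s = 0 → ∃ w : R, IsUnit (algebraMap R S w) ∧ w • s = 0) :
    Function.Bijective (g.liftBaseChange S) := by
  have hform : ∀ z : TensorProduct R S M, ∃ (w : R) (s : M), IsUnit (algebraMap R S w) ∧
      algebraMap R S w • z = (1 : S) ⊗ₜ[R] s := by
    intro z
    induction z using TensorProduct.induction_on with
    | zero => exact ⟨1, 0, by simp, by simp⟩
    | tmul a m =>
      obtain ⟨r, w, hw, h⟩ := hS a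
      refine ⟨w, r • m, hw, ?_⟩
      rw [TensorProduct.smul_tmul', smul_eq_mul, h, ← mul_one (algebraMap R S r), ← Algebra.smul_def,
        TensorProduct.smul_tmul]
    | add z z' hz hz' =>
      obtain ⟨w, s, hw, h⟩ := hz
      obtain ⟨w', s', hw', h'⟩ := hz'
      refine ⟨w * w', w' • s + w • s', by rw [map_mul]; exact hw.mul hw', ?_⟩
      rw [smul_add, map_mul, mul_smul, mul_smul, h', TensorProduct.tmul_add, TensorProduct.tmul_smul,
        TensorProduct.tmul_smul, smul_comm, h, ← algebraMap_smul S w', ← algebraMap_smul S w]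
  refine ⟨(injective_iff_map_eq_zero _).2 fun z hz => ?_, fun n => ?_⟩
  · obtain ⟨w, s, hw, h⟩ := hform z
    have h1 := congrArg (g.liftBaseChange S) h
    rw [map_smul, hz, smul_zero, LinearMap.liftBaseChange_tmul, one_smul] at h1
    obtain ⟨v, hv, hvs⟩ := hker s h1.symm
    refine (hw.mul hv).smul_eq_zero.1 ?_
    rw [mul_comm, mul_smul, h, algebraMap_smul, ← TensorProduct.tmul_smul, hvs, TensorProduct.tmul_zero]
  · obtain ⟨s, w, hw, h⟩ := hsurj n
    refine ⟨(↑hw.unit⁻¹ : S) • ((1 : S) ⊗ₜ[R] s), ?_⟩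
    rw [map_smul, LinearMap.liftBaseChange_tmul, one_smul, ← h, smul_smul, IsUnit.val_inv_mul, one_smul]

variable {R : CommRingCat.{u}} (x : Spec R)

/-- `R → O_x` -/
noncomputable def toSt : R →+* (Spec R).presheaf.stalk x :=
  ((Scheme.ΓSpecIso R).inv ≫ (Spec R).presheaf.germ ⊤ x trivial).hom

/-- `M → (M~)_x` -/
noncomputable def tildeGerm (M : ModuleCat.{u} R) : M →+ (tilde M).presheaf.stalk x :=
  ((tilde M).presheaf.germ ⊤ x trivial).hom.comp (tilde.toOpen M ⊤).hom.toAddMonoidHom

theorem tildeGerm_smul (M : ModuleCat.{u} R) (r : R) (m : M) :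
    tildeGerm x M (r • m) = toSt x r • tildeGerm x M m := by
  show (tilde M).presheaf.germ ⊤ x trivial ((tilde.toOpen M ⊤).hom (r • m)) = _
  rw [map_smul]
  refine (congrArg ((tilde M).presheaf.germ ⊤ x trivial) (Scheme.Modules.smul_Spec_def (M := tilde M) r
    ((tilde.toOpen M ⊤).hom m))).trans ?_
  refine (ModStalk.germ_smul (tilde M) (U := ⊤) x trivial _ _).trans ?_
  congr 1

theorem exists_tilde_equiv (M : ModuleCat.{u} R) :
    letI := (toSt x).toAlgebra
    ∃ e : TensorProduct R ((Spec R).presheaf.stalk x) M ≃ₗ[(Spec R).presheaf.stalk x] (tilde M).presheaf.stalk x,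
      ∀ m, e (1 ⊗ₜ[R] m) = tildeGerm x M m := by
  letI := (toSt x).toAlgebra
  letI : Module R ((tilde M).presheaf.stalk x) := Module.compHom _ (toSt x)
  haveI : IsScalarTower R ((Spec R).presheaf.stalk x) ((tilde M).presheaf.stalk x) :=
    IsScalarTower.of_algebraMap_smul fun _ _ => rfl
  let g : M →ₗ[R] (tilde M).presheaf.stalk x :=
    { toFun := tildeGerm x M, map_add' := map_add _, map_smul' := tildeGerm_smul x M }
  have hU : IsAffineOpen (⊤ : (Spec R).Opens) := isAffineOpen_top _
  have hbij : Function.Bijective (Scheme.ΓSpecIso R).inv.hom :=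
    ConcreteCategory.bijective_of_isIso (Scheme.ΓSpecIso R).inv
  have htop : Function.Bijective (tilde.toOpen M ⊤).hom := ConcreteCategory.bijective_of_isIso (tilde.toOpen M ⊤)
  have hunit : ∀ w : R, x ∈ (Spec R).basicOpen ((Scheme.ΓSpecIso R).inv w) → IsUnit (toSt x w) := fun w hw =>
    (Scheme.mem_basicOpen (Spec R) (U := ⊤) _ x (by trivial)).mp hw
  have hk : Function.Bijective (g.liftBaseChange ((Spec R).presheaf.stalk x)) := by
    refine bijective_liftBaseChange g (fun a => ?_) (fun n => ?_) (fun s hs => ?_)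
    · letI := TopCat.Presheaf.algebra_section_stalk (Spec R).presheaf (⟨x, trivial⟩ : (⊤ : (Spec R).Opens))
      haveI := hU.isLocalization_stalk ⟨x, trivial⟩
      obtain ⟨⟨b, c⟩, h⟩ := IsLocalization.surj (hU.primeIdealOf ⟨x, trivial⟩).asIdeal.primeCompl a
      obtain ⟨r, rfl⟩ := hbij.2 b
      obtain ⟨w, hw⟩ := hbij.2 c.1
      refine ⟨r, w, ?_, ?_⟩
      · show IsUnit ((Spec R).presheaf.germ ⊤ x trivial ((Scheme.ΓSpecIso R).inv.hom w))
        rw [hw]
        exact IsLocalization.map_units (M := (hU.primeIdealOf ⟨x, trivial⟩).asIdeal.primeCompl) _ c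
      · show (Spec R).presheaf.germ ⊤ x trivial ((Scheme.ΓSpecIso R).inv.hom w) * a = _
        rw [hw, mul_comm]
        exact h
    · obtain ⟨c, s, hc, h⟩ := ModStalk.exists_smul_eq_germ (tilde M) hU x trivial n
      obtain ⟨w, rfl⟩ := hbij.2 c
      obtain ⟨m, rfl⟩ := htop.2 s
      exact ⟨m, w, hunit w hc, h⟩
    · obtain ⟨c, hc, h⟩ := ModStalk.exists_smul_eq_zero_of_germ (tilde M) hU x trivial _ hs
      obtain ⟨w, rfl⟩ := hbij.2 c
      refine ⟨w, hunit w hc, htop.1 ?_⟩
      rw [map_zero, map_smul]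
      refine (Scheme.Modules.smul_Spec_def (M := tilde M) w ((tilde.toOpen M ⊤).hom s)).trans (Eq.trans ?_ h)
      refine congrArg (fun t => HSMul.hSMul (α := Γ(Spec R, ⊤)) (β := Γ(tilde M, ⊤)) t _) ?_
      rw [Subsingleton.elim (TopologicalSpace.Opens.leTop _) (𝟙 _), op_id, CategoryTheory.Functor.map_id]
      rfl
  exact ⟨LinearEquiv.ofBijective _ hk, fun m => by
    show g.liftBaseChange _ (1 ⊗ₜ[R] m) = _
    rw [LinearMap.liftBaseChange_tmul, one_smul]
    rfl⟩

/-- `O_x ⊗ M ≅ (M~)_x` -/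
noncomputable def tildeStalkIso (M : ModuleCat.{u} R) :
    (ModuleCat.extendScalars (toSt x)).obj M ≅ (SF x).obj (tilde M) :=
  letI := (toSt x).toAlgebra
  LinearEquiv.toModuleIso (R := (Spec R).presheaf.stalk x)
    (X₁ := TensorProduct R ((Spec R).presheaf.stalk x) M) (X₂ := (tilde M).presheaf.stalk x)
    (exists_tilde_equiv x M).choose

theorem tildeStalkIso_tmul (M : ModuleCat.{u} R) (m : M) :
    (tildeStalkIso x M).hom (letI := (toSt x).toAlgebra
      ((1 : (Spec R).presheaf.stalk x) ⊗ₜ[R] m : TensorProduct R ((Spec R).presheaf.stalk x) M)) =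
      tildeGerm x M m :=
  (exists_tilde_equiv x M).choose_spec m

theorem SF_map_tildeGerm {M N : ModuleCat.{u} R} (u : M ⟶ N) (m : M) :
    (SF x).map ((tilde.functor R).map u) (tildeGerm x M m) = tildeGerm x N (u m) := by
  refine (DerSch.stalkFunctor_map_germ x _ ⊤ trivial _).trans ?_
  exact congrArg ((tilde N).presheaf.germ ⊤ x trivial)
    (congrArg (fun φ => φ.hom m) (tilde.toOpen_map_app u ⊤))

/-- naturally -/
noncomputable def tildeStalkNatIso :
    ModuleCat.extendScalars (toSt x) ≅ tilde.functor R ⋙ SF x :=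
  NatIso.ofComponents (tildeStalkIso x) fun {M N} u => by
    refine ModuleCat.ExtendScalars.hom_ext fun m => ?_
    show (tildeStalkIso x N).hom _ = (SF x).map ((tilde.functor R).map u) ((tildeStalkIso x M).hom _)
    erw [ModuleCat.ExtendScalars.map_tmul]
    refine (tildeStalkIso_tmul x N _).trans ?_
    refine Eq.trans ?_ (congrArg _ (tildeStalkIso_tmul x M m).symm)
    exact (SF_map_tildeGerm x u m).symm

theorem isKFlat_tilde {K : CochainComplex (ModuleCat.{u} R) ℤ} (hK : IsKFlat (TM R) K) :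
    _root_.DCoh.IsKFlat (((tilde.functor R).mapHomologicalComplex (ComplexShape.up ℤ)).obj K) := by
  refine isKFlat_of_stalks _ fun x => ?_
  refine IsKFlat.of_iso _ ?_ (isKFlat_extendScalars (toSt x) hK)
  exact HomologicalComplex.Hom.isoOfComponents (fun n => (tildeStalkNatIso x).app (K.X n))
    fun i j _ => ((tildeStalkNatIso x).hom.naturality (K.d i j)).symm

end Groth.Agent.KFlatLib
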