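import Mathlib.AlgebraicGeometry.Modules.Tilde
import Mathlib.Algebra.Category.ModuleCat.ChangeOfRings
import Mathlib.CategoryTheory.Adjunction.Unique

/-!
The pullback of `M~` along a map of affine schemes is the tilde of the base change.
-/

universe u

open CategoryTheory Limits AlgebraicGeometry Opposite TopologicalSpace

namespace Groth.Agent.KFlatLib

variable {A B : CommRingCat.{u}} (φ : A ⟶ B)

theorem push_smul (M : (Spec B).Modules) (r : A)
    (x : Γ(M, ⊤)) :
    (r • (show Γ((Scheme.Modules.pushforward (Spec.map φ)).obj M, ⊤) from x) :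
      Γ((Scheme.Modules.pushforward (Spec.map φ)).obj M, ⊤)) = ((φ r • x : Γ(M, ⊤))) := by
  rw [Scheme.Modules.smul_Spec_def, Scheme.Modules.smul_Spec_def]
  have h := ConcreteCategory.congr_hom (Scheme.ΓSpecIso_inv_naturality φ) r
  simp only [CommRingCat.comp_apply] at h
  rw [h]
  show (show Γ(Spec B, ⊤) from (Spec.map φ).app ⊤ ((Spec A).presheaf.map (⊤ : (Spec A).Opens).leTop.op
    ((Scheme.ΓSpecIso A).inv r))) • x = _
  congr 1

/-- global sections commute with pushforward -/
noncomputable def gammaPushIso :
    Scheme.Modules.pushforward (Spec.map φ) ⋙ moduleSpecΓFunctor ≅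
      moduleSpecΓFunctor ⋙ ModuleCat.restrictScalars φ.hom :=
  NatIso.ofComponents
    (fun M => LinearEquiv.toModuleIso
      (show ((moduleSpecΓFunctor (R := A)).obj ((Scheme.Modules.pushforward (Spec.map φ)).obj M)) ≃ₗ[A]
          ((ModuleCat.restrictScalars φ.hom).obj ((moduleSpecΓFunctor (R := B)).obj M)) from
      { toFun := fun x => x
        map_add' := fun _ _ => rfl
        map_smul' := fun r x => push_smul φ M r x
        invFun := fun x => x
        left_inv := fun _ => rfl
        right_inv := fun _ => rfl }))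
    fun {M N} a => by
      ext x
      rfl

/-- `f^*(M~) ≅ (B ⊗_A M)~` -/
noncomputable def tildePullIso :
    ModuleCat.extendScalars φ.hom ⋙ tilde.functor B ≅ tilde.functor A ⋙ Scheme.Modules.pullback (Spec.map φ) :=
  ((((ModuleCat.extendRestrictScalarsAdj φ.hom).comp (tilde.adjunction (R := B))).ofNatIsoRight
      (gammaPushIso φ).symm).leftAdjointUniq
    ((tilde.adjunction (R := A)).comp (Scheme.Modules.pullbackPushforwardAdjunction (Spec.map φ))))

end Groth.Agent.KFlatLib
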