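import Mathlib

/-!
The functor `K ↦ Tot (L ⊗ K)` for a bifunctor: additivity, colimits, termwise monomorphisms.
-/

universe v u

open CategoryTheory Limits HomologicalComplex

namespace Groth.Agent.KFlatLib

variable {A : Type u} [Category.{v} A] [Abelian A] (T : A ⥤ A ⥤ A) [T.Additive] [∀ X, (T.obj X).Additive]
  [∀ K L : CochainComplex A ℤ, HomologicalComplex.HasMapBifunctor K L T (ComplexShape.up ℤ)]

/-- `Tot (L ⊗ -)` -/
noncomputable abbrev Φ (L : CochainComplex A ℤ) : CochainComplex A ℤ ⥤ CochainComplex A ℤ :=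
  T.map₂CochainComplex.obj L

/-- the inclusion of a summand -/
noncomputable abbrev ιT (L K : CochainComplex A ℤ) (p q n : ℤ) (h : p + q = n) :
    (T.obj (L.X p)).obj (K.X q) ⟶ ((Φ T L).obj K).X n :=
  HomologicalComplex.ιMapBifunctor L K T (ComplexShape.up ℤ) p q n h

theorem ιT_map (L : CochainComplex A ℤ) {K K' : CochainComplex A ℤ} (g : K ⟶ K') (p q n : ℤ) (h : p + q = n) :
    ιT T L K p q n h ≫ ((Φ T L).map g).f n = (T.obj (L.X p)).map (g.f q) ≫ ιT T L K' p q n h := by
  refine (HomologicalComplex.ι_mapBifunctorMap (c := ComplexShape.up ℤ) (f₁ := 𝟙 L) (f₂ := g) (F := T) p q n h).trans ?_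
  simp
  rfl

theorem ιT_hom_ext {L K : CochainComplex A ℤ} {n : ℤ} {Y : A} {a b : ((Φ T L).obj K).X n ⟶ Y}
    (h : ∀ p q (e : p + q = n), ιT T L K p q n e ≫ a = ιT T L K p q n e ≫ b) : a = b :=
  HomologicalComplex.mapBifunctor.hom_ext fun p q e => h p q e

instance additive_Φ (L : CochainComplex A ℤ) : (Φ T L).Additive where
  map_add {K K' f g} := by
    ext n : 1
    refine ιT_hom_ext T fun p q e => ?_
    rw [HomologicalComplex.add_f_apply, Preadditive.comp_add, ιT_map, ιT_map, ιT_map,
      HomologicalComplex.add_f_apply, Functor.map_add, Preadditive.add_comp]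

section colimits

variable {J : Type v} [SmallCategory J] [HasColimitsOfShape J A]
  [∀ X, PreservesColimitsOfShape J (T.obj X)]

theorem preservesColimitsOfShape_Φ (L : CochainComplex A ℤ) : PreservesColimitsOfShape J (Φ T L) := by
  refine HomologicalComplex.preservesColimitsOfShape_of_eval _ fun n => ⟨fun {D} => ⟨fun {c} hc => ?_⟩⟩
  let hq := fun (p q : ℤ) => isColimitOfPreserves (eval A (ComplexShape.up ℤ) q ⋙ T.obj (L.X p)) hc
  let cs := fun (s : Cocone (D ⋙ Φ T L ⋙ eval A (ComplexShape.up ℤ) n)) (p q : ℤ) (e : p + q = n) =>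
    ({ pt := s.pt
       ι :=
        { app := fun j => ιT T L (D.obj j) p q n e ≫ s.ι.app j
          naturality := fun i j g => by
            refine Eq.trans ?_ (Category.comp_id _).symm
            show (T.obj (L.X p)).map ((D.map g).f q) ≫ ιT T L (D.obj j) p q n e ≫ s.ι.app j = _
            rw [← Category.assoc, ← ιT_map, Category.assoc]
            exact congrArg (ιT T L (D.obj i) p q n e ≫ ·) (s.w g) } } :
      Cocone (D ⋙ eval A (ComplexShape.up ℤ) q ⋙ T.obj (L.X p)))
  have hd : ∀ (s : Cocone (D ⋙ Φ T L ⋙ eval A (ComplexShape.up ℤ) n)), ∃ d : ((Φ T L).obj c.pt).X n ⟶ s.pt,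
      ∀ p q e, ιT T L c.pt p q n e ≫ d = (hq p q).desc (cs s p q e) := fun s =>
    ⟨HomologicalComplex.mapBifunctorDesc (K₁ := L) (K₂ := c.pt) (F := T) fun p q e =>
      ((hq p q).desc (cs s p q e) : (T.obj (L.X p)).obj (c.pt.X q) ⟶ s.pt),
      fun p q e => HomologicalComplex.ι_mapBifunctorDesc _ p q e⟩
  choose d hd using hd
  exact ⟨
    { desc := d
      fac := fun s j => by
        refine ιT_hom_ext T fun p q e => ?_
        show ιT T L (D.obj j) p q n e ≫ ((Φ T L).map (c.ι.app j)).f n ≫ d s = ιT T L (D.obj j) p q n e ≫ s.ι.app j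
        rw [← Category.assoc, ιT_map, Category.assoc]
        refine (congrArg (_ ≫ ·) (hd s p q e)).trans ?_
        exact (hq p q).fac (cs s p q e) j
      uniq := fun s m hm => by
        refine ιT_hom_ext T fun p q e => ?_
        refine Eq.trans ?_ (hd s p q e).symm
        refine (hq p q).hom_ext fun j => ?_
        rw [(hq p q).fac (cs s p q e) j]
        show (T.obj (L.X p)).map ((c.ι.app j).f q) ≫ ιT T L c.pt p q n e ≫ m = ιT T L (D.obj j) p q n e ≫ s.ι.app j
        rw [← hm j]
        refine (Category.assoc _ _ _).symm.trans ((congrArg (· ≫ m) (ιT_map T L (c.ι.app j) p q n e).symm).trans ?_)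
        exact Category.assoc _ _ _ }⟩

end colimits

theorem mono_f_Φ_map (hAB4 : ∀ I : Type, (MorphismProperty.monomorphisms A).IsStableUnderColimitsOfShape (Discrete I))
    (L : CochainComplex A ℤ) {K K' : CochainComplex A ℤ} (g : K ⟶ K')
    (h : ∀ p q, Mono ((T.obj (L.X p)).map (g.f q))) (n : ℤ) : Mono (((Φ T L).map g).f n) := by
  let B := fun K => ((T.mapBifunctorHomologicalComplex (ComplexShape.up ℤ) (ComplexShape.up ℤ)).obj L).obj K
  let π := ComplexShape.π (ComplexShape.up ℤ) (ComplexShape.up ℤ) (ComplexShape.up ℤ)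
  haveI := hAB4 (π ⁻¹' {n})
  refine MorphismProperty.IsStableUnderColimitsOfShape.condition (W := MorphismProperty.monomorphisms A)
    (Discrete.functor fun i : π ⁻¹' {n} => (B K).toGradedObject i.1)
    (Discrete.functor fun i : π ⁻¹' {n} => (B K').toGradedObject i.1)
    _ _ ((B K).toGradedObject.isColimitCofanMapObj π n) ((B K').toGradedObject.isColimitCofanMapObj π n)
    (Discrete.natTrans fun i => (T.obj (L.X i.as.1.1)).map (g.f i.as.1.2))
    (fun i => h _ _) (((Φ T L).map g).f n) (fun i => ?_)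
  exact ιT_map T L g i.as.1.1 i.as.1.2 n i.as.2

end Groth.Agent.KFlatLib
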